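import Groth.Agent.NodeLib7.NodeScheme
import Groth.Agent.SmoothLib.StalkCrit
import Groth.Agent.Unram17Lib.RelDim
import Groth.Agent.TopDim.Basic

/-!
# Étale charts `uv = a` of a nodal family at every point
-/

set_option autoImplicit false
set_option backward.isDefEq.respectTransparency false
set_option linter.style.haveILetI false

universe u

open CategoryTheory CategoryTheory.Limits AlgebraicGeometry IsLocalRing

namespace Groth.Agent.NodeLib7

/-- The local dimension at a closed point of a space of pure dimension one. -/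
theorem localDim_eq_one {Z : Type u} [TopologicalSpace Z]
    (hcomp : ∀ K ∈ irreducibleComponents Z, topologicalKrullDim K = 1) {z : Z} (hz : IsClosed ({z} : Set Z)) :
    FlatMor.localDim Z z = 1 := by
  refine le_antisymm ((TopDim.localDim_le_dim z).trans ?_) ?_
  · refine (TopDim.dim_le_iSup (fun K : irreducibleComponents Z => (K : Set Z)) fun W => ?_).trans
      (iSup_le fun K => (hcomp K.1 K.2).le)
    obtain ⟨K, hK, hWK⟩ := exists_mem_irreducibleComponents_subset_of_isIrreducible _ W.isIrreducible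
    exact ⟨⟨K, hK⟩, hWK⟩
  · let K : TopologicalSpace.IrreducibleCloseds Z :=
      ⟨irreducibleComponent z, isIrreducible_irreducibleComponent, isClosed_irreducibleComponent⟩
    let P : TopologicalSpace.IrreducibleCloseds Z := ⟨{z}, isIrreducible_singleton, hz⟩
    have hlt : P < K := by
      refine lt_of_le_of_ne (show P ≤ K from ?_) fun he => ?_
      · intro x' hx'
        rw [show x' = z from hx']
        exact mem_irreducibleComponent
      · have h1 := hcomp _ (irreducibleComponent_mem_irreducibleComponents z)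
        have hs : irreducibleComponent z = {z} :=
          (congrArg (fun W : TopologicalSpace.IrreducibleCloseds Z => (W : Set Z)) he).symm
        haveI : Subsingleton ↥(irreducibleComponent z) := by
          rw [hs]; infer_instance
        haveI : Subsingleton (TopologicalSpace.IrreducibleCloseds ↥(irreducibleComponent z)) :=
          ⟨fun A B => TopologicalSpace.IrreducibleCloseds.ext (by
            rw [A.isIrreducible.nonempty.eq_univ, B.isIrreducible.nonempty.eq_univ])⟩
        have h2 : topologicalKrullDim ↥(irreducibleComponent z) ≤ 0 := Order.krullDim_nonpos_of_subsingleton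
        rw [h1] at h2
        exact absurd h2 (by decide)
    let l : LTSeries (TopologicalSpace.IrreducibleCloseds Z) := (RelSeries.singleton _ P).snoc K hlt
    have h := TopDim.le_localDim_of_mem l (x := z) (by
      simp only [l, RelSeries.head_snoc]
      rfl)
    simpa [l] using h

/-- A coordinate which is a unit gives an étale map to `uv = 1`. -/
theorem exists_map_node_one {R A : Type u} [CommRing R] [CommRing A] (γ : MvPolynomial (Fin 1) R →+* A)
    (hγ : γ.Etale) (r : R) (hu : IsUnit (γ (MvPolynomial.X 0 + MvPolynomial.C r))) :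
    ∃ g : MvPolynomial (Fin 2) R ⧸
        Ideal.span {(MvPolynomial.X 0 * MvPolynomial.X 1 - MvPolynomial.C 1 : MvPolynomial (Fin 2) R)} →+* A,
      g.Etale ∧ g.comp ((Ideal.Quotient.mk _).comp MvPolynomial.C) = γ.comp MvPolynomial.C := by
  let I : Ideal (MvPolynomial (Fin 2) R) :=
    Ideal.span {(MvPolynomial.X 0 * MvPolynomial.X 1 - MvPolynomial.C 1 : MvPolynomial (Fin 2) R)}
  let π : MvPolynomial (Fin 2) R →+* MvPolynomial (Fin 2) R ⧸ I := Ideal.Quotient.mk I
  let T : MvPolynomial (Fin 1) R := MvPolynomial.X 0 + MvPolynomial.C r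
  let L := Localization.Away T
  let φ : MvPolynomial (Fin 1) R →+* L := algebraMap _ L
  let j : MvPolynomial (Fin 1) R →+* MvPolynomial (Fin 2) R ⧸ I :=
    MvPolynomial.eval₂Hom (π.comp MvPolynomial.C) fun _ => π (MvPolynomial.X 0 - MvPolynomial.C r)
  have hTW : j T = π (MvPolynomial.X 0) := by simp [j, T]
  have hπ01 : π (MvPolynomial.X 0) * π (MvPolynomial.X 1) = 1 := by
    rw [← map_mul, ← π.map_one]
    refine Ideal.Quotient.eq.2 ?_
    refine Ideal.subset_span ?_
    simp [MvPolynomial.C_1]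
  let toW : L →+* MvPolynomial (Fin 2) R ⧸ I :=
    IsLocalization.Away.lift T (g := j) (IsUnit.of_mul_eq_one _ (by rw [hTW]; exact hπ01))
  have htoW : ∀ z, toW (φ z) = j z := fun z => IsLocalization.Away.lift_eq T _ z
  obtain ⟨Ti, hTi⟩ := (IsLocalization.Away.algebraMap_isUnit (S := L) T).exists_left_inv
  let toL₀ : MvPolynomial (Fin 2) R →+* L :=
    MvPolynomial.eval₂Hom (φ.comp MvPolynomial.C) ![φ T, Ti]
  have htoL₀ : ∀ z ∈ I, toL₀ z = 0 := fun z hz => by
    obtain ⟨w, rfl⟩ := Ideal.mem_span_singleton'.1 hz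
    rw [map_mul]
    refine mul_eq_zero_of_right _ ?_
    simp [toL₀, mul_comm (φ T), show Ti * φ T = 1 from hTi]
  let toL : MvPolynomial (Fin 2) R ⧸ I →+* L := Ideal.Quotient.lift I toL₀ htoL₀
  have hπC : ∀ z, toL₀ (MvPolynomial.C z) = φ (MvPolynomial.C z) := fun z => MvPolynomial.eval₂Hom_C _ _ z
  have hWL : toW.comp toL = RingHom.id _ := by
    refine Ideal.Quotient.ringHom_ext (MvPolynomial.ringHom_ext (fun z => ?_) fun i => ?_)
    · show toW (toL₀ (MvPolynomial.C z)) = π (MvPolynomial.C z)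
      rw [hπC, htoW]
      exact MvPolynomial.eval₂Hom_C _ _ z
    · show toW (toL₀ (MvPolynomial.X i)) = π (MvPolynomial.X i)
      rw [MvPolynomial.eval₂Hom_X']
      have h0 : toW (φ T) = π (MvPolynomial.X 0) := (htoW T).trans hTW
      fin_cases i
      · exact h0
      · show toW Ti = π (MvPolynomial.X 1)
        have h1 : toW Ti * π (MvPolynomial.X 0) = 1 :=
          (congrArg (toW Ti * ·) h0.symm).trans
            ((map_mul toW _ _).symm.trans ((congrArg toW hTi).trans toW.map_one))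
        linear_combination π (MvPolynomial.X 1) * h1 - toW Ti * hπ01
  have hLW : toL.comp toW = RingHom.id L := by
    refine IsLocalization.ringHom_ext (Submonoid.powers T) (MvPolynomial.ringHom_ext (fun z => ?_) fun i => ?_)
    · show toL (toW (φ (MvPolynomial.C z))) = _
      rw [htoW, show j (MvPolynomial.C z) = π (MvPolynomial.C z) from MvPolynomial.eval₂Hom_C _ _ z]
      exact hπC z
    · show toL (toW (φ (MvPolynomial.X i))) = φ (MvPolynomial.X i)
      rw [htoW, show j (MvPolynomial.X i) = π (MvPolynomial.X 0 - MvPolynomial.C r) from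
        MvPolynomial.eval₂Hom_X' _ _ i]
      show toL₀ (MvPolynomial.X 0 - MvPolynomial.C r) = φ (MvPolynomial.X i)
      obtain rfl : i = 0 := Subsingleton.elim _ _
      rw [map_sub, hπC, MvPolynomial.eval₂Hom_X']
      show φ T - φ (MvPolynomial.C r) = φ (MvPolynomial.X 0)
      rw [← map_sub, add_sub_cancel_right]
  let eW : (MvPolynomial (Fin 2) R ⧸ I) ≃+* L := RingEquiv.ofRingHom toL toW hLW hWL
  letI : Algebra (MvPolynomial (Fin 1) R) A := γ.toAlgebra
  haveI : Algebra.Etale (MvPolynomial (Fin 1) R) A := hγ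
  let toA : L →ₐ[MvPolynomial (Fin 1) R] A :=
    IsLocalization.Away.liftAlgHom T (f := Algebra.ofId (MvPolynomial (Fin 1) R) A) hu
  letI : Algebra L A := toA.toRingHom.toAlgebra
  haveI : IsScalarTower (MvPolynomial (Fin 1) R) L A :=
    IsScalarTower.of_algebraMap_eq fun z => (toA.commutes z).symm
  haveI : Algebra.Etale (MvPolynomial (Fin 1) R) L := Algebra.Etale.of_isLocalizationAway T
  haveI : Algebra.Etale L A := Algebra.Etale.of_restrictScalars (MvPolynomial (Fin 1) R) L A
  refine ⟨toA.toRingHom.comp eW.toRingHom, RingHom.Etale.stableUnderComposition _ _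
    (RingHom.Etale.of_bijective eW.bijective) (RingHom.etale_algebraMap.2 inferInstance :
      (algebraMap L A).Etale), RingHom.ext fun z => ?_⟩
  show toA (toL₀ (MvPolynomial.C z)) = γ (MvPolynomial.C z)
  rw [hπC]
  exact toA.commutes _

variable {X S : Scheme.{u}} (f : X ⟶ S) [Flat f] [LocallyOfFinitePresentation f]

/-- A chart at a point where the family is smooth of relative dimension one. -/
theorem exists_model_smooth (y : X) (V₁ : X.Opens) (hy : y ∈ V₁) [SmoothOfRelativeDimension 1 (V₁.ι ≫ f)] :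
    ∃ (C : Type u) (_ : CommRing C) (a : C) (U : Scheme.{u}) (gU : U ⟶ X) (gV : Spec (CommRingCat.of C) ⟶ S)
      (g : U ⟶ Spec (CommRingCat.of (MvPolynomial (Fin 2) C ⧸
        Ideal.span {(MvPolynomial.X 0 * MvPolynomial.X 1 - MvPolynomial.C a : MvPolynomial (Fin 2) C)}))),
      Etale gU ∧ Etale gV ∧ Etale g ∧
      gU ≫ f = g ≫ Spec.map (CommRingCat.ofHom ((Ideal.Quotient.mk _).comp MvPolynomial.C)) ≫ gV ∧
      y ∈ Set.range gU.base := by
  obtain ⟨V, hV, U, hU, hxU, hUV, hstd⟩ :=
    SmoothOfRelativeDimension.exists_isStandardSmoothOfRelativeDimension (n := 1) (f := V₁.ι ≫ f) ⟨y, hy⟩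
  let A := Γ(V₁.toScheme, U)
  let R := Γ(S, V)
  let φ : R →+* A := ((V₁.ι ≫ f).appLE V U hUV).hom
  letI : Algebra R A := φ.toAlgebra
  obtain ⟨γ, hγC, hγ⟩ := RingHom.IsStandardSmoothOfRelativeDimension.exists_etale_mvPolynomial (f := φ) hstd
  let q : Ideal A := (hU.primeIdealOf ⟨⟨y, hy⟩, hxU⟩).asIdeal
  -- a coordinate which is a unit at the point
  obtain ⟨r, hr⟩ : ∃ r : R, γ (MvPolynomial.X 0 + MvPolynomial.C r) ∉ q := by
    by_cases h0 : γ (MvPolynomial.X 0) ∈ q
    · refine ⟨1, fun h1 => (hU.primeIdealOf ⟨⟨y, hy⟩, hxU⟩).isPrime.ne_top ((Ideal.eq_top_iff_one _).2 ?_)⟩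
      have := q.sub_mem h1 h0
      simpa using this
    · exact ⟨0, by simpa using h0⟩
  let z : A := γ (MvPolynomial.X 0 + MvPolynomial.C r)
  let A₁ := Localization.Away z
  haveI : Algebra.Etale A A₁ := Algebra.Etale.of_isLocalizationAway z
  obtain ⟨gW, hgW, hgWC⟩ := exists_map_node_one ((algebraMap A A₁).comp γ)
    (RingHom.Etale.stableUnderComposition _ _ hγ (RingHom.etale_algebraMap.2 inferInstance)) r
    (IsLocalization.Away.algebraMap_isUnit z)
  have hdisj : Disjoint (Submonoid.powers z : Set A) q :=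
    (Ideal.disjoint_powers_iff_notMem_of_isPrime _).2 hr
  let q₁ : Ideal A₁ := q.map (algebraMap A A₁)
  haveI : q₁.IsPrime := IsLocalization.isPrime_of_isPrime_disjoint (.powers z) A₁ q inferInstance hdisj
  have hq₁ : q₁.comap (algebraMap A A₁) = q :=
    IsLocalization.under_map_of_isPrime_disjoint (.powers z) A₁ inferInstance hdisj
  haveI : Etale (Spec.map (CommRingCat.ofHom (algebraMap A A₁))) :=
    (HasRingHomProperty.Spec_iff (P := @Etale)).2 (RingHom.etale_algebraMap.2 inferInstance)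
  refine ⟨R, inferInstance, 1, Spec (CommRingCat.of A₁),
    Spec.map (CommRingCat.ofHom (algebraMap A A₁)) ≫ hU.fromSpec ≫ V₁.ι, hV.fromSpec,
    Spec.map (CommRingCat.ofHom gW), inferInstance, inferInstance,
    (HasRingHomProperty.Spec_iff (P := @Etale)).2 hgW, ?_, ⟨⟨q₁, inferInstance⟩, ?_⟩⟩
  · rw [Category.assoc, Category.assoc, ← IsAffineOpen.SpecMap_appLE_fromSpec (V₁.ι ≫ f) hV hU hUV]
    simp only [← Spec.map_comp_assoc]
    congr 2
    refine CommRingCat.hom_ext ?_
    show (algebraMap A A₁).comp φ = gW.comp ((Ideal.Quotient.mk _).comp MvPolynomial.C)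
    rw [hgWC, RingHom.comp_assoc, hγC]
  · show V₁.ι (hU.fromSpec ((Spec.map (CommRingCat.ofHom (algebraMap A A₁))) ⟨q₁, inferInstance⟩)) = y
    rw [show (Spec.map (CommRingCat.ofHom (algebraMap A A₁))) ⟨q₁, inferInstance⟩ =
      hU.primeIdealOf ⟨⟨y, hy⟩, hxU⟩ from PrimeSpectrum.ext hq₁, hU.fromSpec_primeIdealOf]
    rfl

omit [Flat f] [LocallyOfFinitePresentation f] in
theorem eq_asFiber {s : S} (w : ↥(f.fiber s)) (hs : f (f.fiberι s w) = s)
    (P : ∀ s : S, ↥(f.fiber s) → Prop) (h : P s w) : P (f (f.fiberι s w)) (f.asFiber (f.fiberι s w)) := by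
  have key : ∀ (y : X), f y = s → f.fiberι s w = y → P (f y) (f.asFiber y) := by
    rintro y rfl he
    have hw : w = f.asFiber y := (f.fiberι (f y)).isEmbedding.injective (by rw [he, f.fiberι_asFiber])
    exact hw ▸ h
  exact key _ hs rfl

/-- **Charts of a nodal family.** Every point of a nodal family has an étale neighbourhood which is
étale over `uv = a`. -/
theorem exists_model_of_nodalFamily (hf : Curv2.IsNodalFamily f) (x : X) :
    ∃ (C : Type u) (_ : CommRing C) (a : C) (U : Scheme.{u}) (gU : U ⟶ X) (gV : Spec (CommRingCat.of C) ⟶ S)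
      (g : U ⟶ Spec (CommRingCat.of (MvPolynomial (Fin 2) C ⧸
        Ideal.span {(MvPolynomial.X 0 * MvPolynomial.X 1 - MvPolynomial.C a : MvPolynomial (Fin 2) C)}))),
      Etale gU ∧ Etale gV ∧ Etale g ∧
      gU ≫ f = g ≫ Spec.map (CommRingCat.ofHom ((Ideal.Quotient.mk _).comp MvPolynomial.C)) ≫ gV ∧
      x ∈ Set.range gU.base := by
  obtain ⟨-, -, hfib⟩ := hf
  let s := f x
  letI : (f.fiber s).Over (Spec (CommRingCat.of (S.residueField s))) := ⟨f.fiberToSpecResidueField s⟩
  haveI hlft : LocallyOfFiniteType (f.fiber s ↘ Spec (CommRingCat.of (S.residueField s))) :=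
    (MorphismProperty.pullback_snd _ _ inferInstance : LocallyOfFiniteType (f.fiberToSpecResidueField s))
  haveI : JacobsonSpace ↥(f.fiber s) :=
    LocallyOfFiniteType.jacobsonSpace (f.fiber s ↘ Spec (CommRingCat.of (S.residueField s)))
  obtain ⟨w, hwc, hwcl⟩ := nonempty_inter_closedPoints (Z := closure ({f.asFiber x} : Set ↥(f.fiber s)))
    ⟨_, subset_closure rfl⟩ isClosed_closure.isLocallyClosed
  set y := f.fiberι s w with hy
  have hxy : x ⤳ y := by
    have := (specializes_iff_mem_closure.2 hwc).map (f.fiberι s).continuous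
    rwa [f.fiberι_asFiber] at this
  suffices H : ∃ (C : Type u) (_ : CommRing C) (a : C) (U : Scheme.{u}) (gU : U ⟶ X)
      (gV : Spec (CommRingCat.of C) ⟶ S) (g : U ⟶ Spec (CommRingCat.of (MvPolynomial (Fin 2) C ⧸
        Ideal.span {(MvPolynomial.X 0 * MvPolynomial.X 1 - MvPolynomial.C a : MvPolynomial (Fin 2) C)}))),
      Etale gU ∧ Etale gV ∧ Etale g ∧
      gU ≫ f = g ≫ Spec.map (CommRingCat.ofHom ((Ideal.Quotient.mk _).comp MvPolynomial.C)) ≫ gV ∧
      y ∈ Set.range gU.base by
    obtain ⟨C, hC, a, U, gU, gV, g, h1, h2, h3, h4, h5⟩ := H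
    haveI := h1
    exact ⟨C, hC, a, U, gU, gV, g, h1, h2, h3, h4, hxy.mem_open gU.isOpenMap.isOpen_range h5⟩
  obtain ⟨hdim, hworst⟩ := hfib s
  rcases hworst w hwcl with ⟨U₀, hwU₀, hsm⟩ | hnode
  · -- smooth
    haveI : LocallyOfFinitePresentation (f.fiberToSpecResidueField s) :=
      MorphismProperty.pullback_snd _ _ ‹_›
    have h1 := SmoothLib.formallySmooth_stalkMap_of_fibre f s w (Flat.stalkMap f _)
      (SmoothLib.formallySmooth_stalkMap_of_nhd (f.fiberToSpecResidueField s) hwU₀ (hU := hsm))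
    obtain ⟨V₀, hyV₀, hV₀⟩ := (SmoothLib.smooth_nhd_iff f y).2 h1
    obtain ⟨V, n, hyV, hn⟩ := Unram17Lib.exists_smoothOfRelativeDimension (V₀.ι ≫ f) ⟨y, hyV₀⟩
    let V₁ : X.Opens := V₀.ι ''ᵁ V
    have hyV₁ : y ∈ V₁ := ⟨⟨y, hyV₀⟩, hyV, rfl⟩
    haveI : SmoothOfRelativeDimension n (V₁.ι ≫ f) := by
      haveI := hn
      have e : V₁.ι ≫ f = (V₀.ι.isoImage V).inv ≫ V.ι ≫ V₀.ι ≫ f := by
        rw [← Category.assoc V.ι, ← Scheme.Hom.isoImage_hom_ι V₀.ι V, Category.assoc, Iso.inv_hom_id_assoc]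
      rw [e]
      simpa using (inferInstance : SmoothOfRelativeDimension (0 + n) ((V₀.ι.isoImage V).inv ≫ V.ι ≫ V₀.ι ≫ f))
    have hd1 : FlatMor.fibreDimAt f y = 1 :=
      eq_asFiber f w ((f.range_fiberι s).le ⟨w, rfl⟩) (fun t z => FlatMor.localDim ↥(f.fiber t) z = 1)
        (localDim_eq_one hdim hwcl)
    have hd2 : FlatMor.fibreDimAt f y = (n : WithBot ℕ∞) := by
      refine Eq.trans ?_ (Unram17Lib.fibreDimAt_of_smoothOfRelativeDimension (V₁.ι ≫ f) n ⟨y, hyV₁⟩)
      exact Unram17Lib.fibreDimAt_eq_of_openImmersion V₁.ι (𝟙 S) (Category.comp_id (V₁.ι ≫ f)).symm ⟨y, hyV₁⟩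
    obtain rfl : n = 1 := by
      rw [hd1] at hd2
      exact_mod_cast hd2.symm
    exact exists_model_smooth f y V₁ hyV₁
  · exact exists_model_at f s w ((isNode_iff (S.residueField s) (f.fiber s) w).1 hnode).2

end Groth.Agent.NodeLib7
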