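import Mathlib.Algebra.Category.Ring.Constructions
import Mathlib.AlgebraicGeometry.Pullbacks
import Mathlib.Algebra.MvPolynomial.CommRing
import Mathlib.RingTheory.Ideal.Quotient.Operations

/-!
# The universal node `uv = a`
-/

set_option autoImplicit false
set_option backward.isDefEq.respectTransparency false

universe u

open CategoryTheory CategoryTheory.Limits AlgebraicGeometry

namespace Groth.Agent.NodeLib7

/-- The ideal of the universal node. -/
noncomputable abbrev univNode : Ideal (MvPolynomial (Fin 3) (ULift.{u} ℤ)) :=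
  Ideal.span {(MvPolynomial.X 0 * MvPolynomial.X 1 - MvPolynomial.X 2 : MvPolynomial (Fin 3) (ULift.{u} ℤ))}

variable {C : Type u} [CommRing C] (a : C)

/-- The ideal of `uv = a`. -/
noncomputable abbrev nodeIdeal : Ideal (MvPolynomial (Fin 2) C) :=
  Ideal.span {(MvPolynomial.X 0 * MvPolynomial.X 1 - MvPolynomial.C a : MvPolynomial (Fin 2) C)}

theorem ringHom_ulift_ext {T : Type u} [CommRing T] (φ φ' : ULift.{u} ℤ →+* T) : φ = φ' := by
  have : φ.comp ULift.ringEquiv.symm.toRingHom = φ'.comp ULift.ringEquiv.symm.toRingHom := RingHom.ext_int _ _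
  exact RingHom.ext fun z => RingHom.congr_fun this z.down

/-- The map from the universal node. -/
noncomputable def toNode :
    MvPolynomial (Fin 3) (ULift.{u} ℤ) ⧸ univNode.{u} →+* MvPolynomial (Fin 2) C ⧸ nodeIdeal a :=
  Ideal.Quotient.lift _
    ((Ideal.Quotient.mk (nodeIdeal a)).comp (MvPolynomial.eval₂Hom
      ((MvPolynomial.C.comp (Int.castRingHom C)).comp ULift.ringEquiv.toRingHom)
      ![MvPolynomial.X 0, MvPolynomial.X 1, MvPolynomial.C a]))
    fun z hz => by
      obtain ⟨w, rfl⟩ := Ideal.mem_span_singleton'.1 hz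
      rw [map_mul]
      refine mul_eq_zero_of_right _ (Ideal.Quotient.eq_zero_iff_mem.2 ?_)
      simp [Ideal.mem_span_singleton]

theorem toNode_X (i : Fin 3) :
    toNode a (Ideal.Quotient.mk _ (MvPolynomial.X i)) =
      Ideal.Quotient.mk _ (![MvPolynomial.X 0, MvPolynomial.X 1, MvPolynomial.C a] i) := by
  show Ideal.Quotient.mk _ _ = _
  rw [MvPolynomial.eval₂Hom_X']

/-- The parameter `a`. -/
noncomputable def param : MvPolynomial (Fin 1) (ULift.{u} ℤ) →+* C :=
  MvPolynomial.eval₂Hom ((Int.castRingHom C).comp ULift.ringEquiv.toRingHom) fun _ => a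

theorem isPushout_node :
    IsPushout
      (CommRingCat.ofHom ((Ideal.Quotient.mk univNode.{u}).comp
        (MvPolynomial.aeval (fun _ : Fin 1 => (MvPolynomial.X 2 : MvPolynomial (Fin 3) (ULift.{u} ℤ)))).toRingHom) :
        CommRingCat.of (MvPolynomial (Fin 1) (ULift.{u} ℤ)) ⟶ CommRingCat.of (MvPolynomial (Fin 3) (ULift.{u} ℤ) ⧸ univNode.{u}))
      (CommRingCat.ofHom (param a)) (CommRingCat.ofHom (toNode a) : CommRingCat.of (MvPolynomial (Fin 3) (ULift.{u} ℤ) ⧸ univNode.{u}) ⟶ CommRingCat.of (MvPolynomial (Fin 2) C ⧸ nodeIdeal a))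
      (CommRingCat.ofHom ((Ideal.Quotient.mk (nodeIdeal a)).comp MvPolynomial.C) :
        CommRingCat.of C ⟶ CommRingCat.of (MvPolynomial (Fin 2) C ⧸ nodeIdeal a)) := by
  have hsq : ∀ i : Fin 1, toNode a (Ideal.Quotient.mk _ (MvPolynomial.X 2)) =
      Ideal.Quotient.mk (nodeIdeal a) (MvPolynomial.C (param a (MvPolynomial.X i))) := fun i => by
    rw [toNode_X, param, MvPolynomial.eval₂Hom_X']
    rfl
  refine ⟨⟨CommRingCat.hom_ext (MvPolynomial.ringHom_ext' (ringHom_ulift_ext _ _) fun i => ?_)⟩,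
    ⟨PushoutCocone.IsColimit.mk _ (fun s => ?_) (fun s => ?_) (fun s => ?_) (fun s m hm₁ hm₂ => ?_)⟩⟩
  · show toNode a (Ideal.Quotient.mk _ (MvPolynomial.aeval _ (MvPolynomial.X i))) = _
    rw [MvPolynomial.aeval_X]
    exact hsq i
  · refine CommRingCat.ofHom (Ideal.Quotient.lift (nodeIdeal a)
      (MvPolynomial.eval₂Hom s.inr.hom ![s.inl.hom (Ideal.Quotient.mk _ (MvPolynomial.X 0)),
        s.inl.hom (Ideal.Quotient.mk _ (MvPolynomial.X 1))]) fun z hz => ?_)
    obtain ⟨w, rfl⟩ := Ideal.mem_span_singleton'.1 hz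
    have h2 : s.inl.hom (Ideal.Quotient.mk _ (MvPolynomial.X 2)) = s.inr.hom a := by
      have := ConcreteCategory.congr_hom s.condition (MvPolynomial.X 0)
      simpa [param] using this
    have h0 : s.inl.hom (Ideal.Quotient.mk univNode.{u} (MvPolynomial.X 0 * MvPolynomial.X 1 - MvPolynomial.X 2)) = 0 := by
      rw [Ideal.Quotient.eq_zero_iff_mem.2 (Ideal.mem_span_singleton_self _), map_zero]
    rw [map_sub, map_mul, map_sub, map_mul, h2] at h0
    rw [map_mul]
    refine mul_eq_zero_of_right _ ?_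
    simpa using h0
  · refine CommRingCat.hom_ext (Ideal.Quotient.ringHom_ext
      (MvPolynomial.ringHom_ext' (ringHom_ulift_ext _ _) fun i => ?_))
    have h2 : s.inl.hom (Ideal.Quotient.mk _ (MvPolynomial.X 2)) = s.inr.hom a := by
      have := ConcreteCategory.congr_hom s.condition (MvPolynomial.X 0)
      simpa [param] using this
    simp only [CommRingCat.hom_comp, CommRingCat.hom_ofHom, RingHom.comp_apply]
    rw [toNode_X, Ideal.Quotient.lift_mk]
    fin_cases i
    · simp
    · simp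
    · simpa using h2.symm
  · refine CommRingCat.hom_ext (RingHom.ext fun z => ?_)
    simp only [CommRingCat.hom_comp, CommRingCat.hom_ofHom, RingHom.comp_apply]
    rw [Ideal.Quotient.lift_mk, MvPolynomial.eval₂Hom_C]
  · refine CommRingCat.hom_ext (Ideal.Quotient.ringHom_ext
      (MvPolynomial.ringHom_ext' (RingHom.ext fun z => ?_) fun i => ?_))
    · have := ConcreteCategory.congr_hom hm₂ z
      simp only [CommRingCat.hom_comp, CommRingCat.hom_ofHom, RingHom.comp_apply]
      rw [Ideal.Quotient.lift_mk, MvPolynomial.eval₂Hom_C]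
      exact this
    · have h0 := ConcreteCategory.congr_hom hm₁ (Ideal.Quotient.mk _ (MvPolynomial.X (Fin.castSucc i)))
      simp only [CommRingCat.hom_comp, CommRingCat.hom_ofHom, RingHom.comp_apply]
      rw [Ideal.Quotient.lift_mk, MvPolynomial.eval₂Hom_X']
      change m.hom (toNode a _) = s.inl.hom _ at h0
      rw [toNode_X] at h0
      fin_cases i <;> exact h0

theorem isPullback_node :
    IsPullback (Spec.map (CommRingCat.ofHom (toNode a) : CommRingCat.of (MvPolynomial (Fin 3) (ULift.{u} ℤ) ⧸ univNode.{u}) ⟶ CommRingCat.of (MvPolynomial (Fin 2) C ⧸ nodeIdeal a)))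
      (Spec.map (CommRingCat.ofHom ((Ideal.Quotient.mk (nodeIdeal a)).comp MvPolynomial.C) :
        CommRingCat.of C ⟶ CommRingCat.of (MvPolynomial (Fin 2) C ⧸ nodeIdeal a)))
      (Spec.map (CommRingCat.ofHom ((Ideal.Quotient.mk univNode.{u}).comp
        (MvPolynomial.aeval (fun _ : Fin 1 => (MvPolynomial.X 2 : MvPolynomial (Fin 3) (ULift.{u} ℤ)))).toRingHom) :
        CommRingCat.of (MvPolynomial (Fin 1) (ULift.{u} ℤ)) ⟶ CommRingCat.of (MvPolynomial (Fin 3) (ULift.{u} ℤ) ⧸ univNode.{u})))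
      (Spec.map (CommRingCat.ofHom (param a))) :=
  isPullback_SpecMap_of_isPushout _ _ _ _ (isPushout_node a)

end Groth.Agent.NodeLib7
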