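import Groth.Agent.NodeLib7.NodeHom
import Groth.Agent.NodeLib7.Universal
import Mathlib.RingTheory.RingHom.Smooth
import Mathlib.RingTheory.RingHom.Etale
import Mathlib.RingTheory.Etale.Basic

/-!
# The local rings of `uv = a`
-/

set_option autoImplicit false
set_option linter.style.haveILetI false

universe u

open IsLocalRing

namespace Groth.Agent.NodeLib7

/-- The point `u = v = 0` of `uv = a` over a prime containing `a` is a node of its fibre. -/
theorem isNodeHom_model {C : Type u} [CommRing C] (a : C) {W : Type u} [CommRing W]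
    (π : MvPolynomial (Fin 2) C →+* W) (hπ : Function.Surjective π) (hker : RingHom.ker π = nodeIdeal a)
    (w : Ideal W) [w.IsPrime] (hX : ∀ i, π (MvPolynomial.X i) ∈ w) (P : Ideal C) [P.IsPrime]
    (hP : P = w.comap (π.comp MvPolynomial.C)) :
    IsNodeHom (Localization.localRingHom P w (π.comp MvPolynomial.C) hP) := by
  let j : C →+* W := π.comp MvPolynomial.C
  let φ := Localization.localRingHom P w j hP
  let Wl := Localization.AtPrime w
  have ha : a ∈ P := by
    rw [hP, Ideal.mem_comap]
    have e : π (MvPolynomial.X 0 * MvPolynomial.X 1 - MvPolynomial.C a) = 0 :=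
      RingHom.mem_ker.1 (hker ▸ Ideal.mem_span_singleton_self _)
    rw [map_sub, map_mul, sub_eq_zero] at e
    show π (MvPolynomial.C a) ∈ w
    rw [← e]
    exact Ideal.mul_mem_right _ _ (hX 0)
  let Q : Ideal (MvPolynomial (Fin 2) C) := w.comap (π)
  let I : Ideal Wl := (maximalIdeal (Localization.AtPrime P)).map φ
  have hI : I = (P.map j).map (algebraMap W Wl) := by
    show (maximalIdeal (Localization.AtPrime P)).map φ = _
    rw [← Localization.AtPrime.map_eq_maximalIdeal, Ideal.map_map, Ideal.map_map]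
    exact congrArg (fun g => Ideal.map g P) (RingHom.ext fun z => Localization.localRingHom_to_map P w j hP z)
  have hIm : I ≤ maximalIdeal Wl := map_maximalIdeal_le φ
  haveI : Nontrivial (Wl ⧸ I) := Ideal.Quotient.nontrivial_iff.2 fun h' =>
    (maximalIdeal.isMaximal Wl).ne_top (top_le_iff.1 (h' ▸ hIm))
  haveI : IsLocalRing (Wl ⧸ I) := IsLocalRing.of_surjective' _ Ideal.Quotient.mk_surjective
  haveI : IsLocalHom (Ideal.Quotient.mk I) := IsLocalHom.of_surjective _ Ideal.Quotient.mk_surjective
  let ω : MvPolynomial (Fin 2) C →+* Wl ⧸ I :=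
    (Ideal.Quotient.mk I).comp ((algebraMap W Wl).comp (π))
  have hωQ : ∀ b, b ∈ Q ↔ ω b ∈ maximalIdeal (Wl ⧸ I) := fun b => by
    have hc : (maximalIdeal (Wl ⧸ I)).comap (Ideal.Quotient.mk I) = maximalIdeal Wl :=
      ((local_hom_TFAE (Ideal.Quotient.mk I)).out 0 4).1 ‹_›
    show π b ∈ w ↔
      algebraMap W Wl (π b) ∈ (maximalIdeal (Wl ⧸ I)).comap (Ideal.Quotient.mk I)
    rw [hc]
    exact (IsLocalization.AtPrime.to_map_mem_maximal_iff Wl w _).symm
  have hωs : ∀ o : Wl ⧸ I, ∃ b, ∃ s ∉ Q, ω s * o = ω b := by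
    intro o
    obtain ⟨o, rfl⟩ := Ideal.Quotient.mk_surjective o
    obtain ⟨⟨b, s, hs⟩, hbs⟩ := IsLocalization.surj w.primeCompl o
    obtain ⟨b, rfl⟩ := hπ b
    obtain ⟨s, rfl⟩ := hπ s
    exact ⟨b, s, hs, by rw [mul_comm]; exact (map_mul _ _ _).symm.trans (congrArg _ hbs)⟩
  have hωk : ∀ b, ω b = 0 ↔ ∃ s ∉ Q, s * b ∈ P.map MvPolynomial.C ⊔
      Ideal.span {(MvPolynomial.X 0 * MvPolynomial.X 1 - MvPolynomial.C a : MvPolynomial (Fin 2) C)} := by
    intro b
    show Ideal.Quotient.mk I (algebraMap W Wl (π b)) = 0 ↔ _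
    rw [Ideal.Quotient.eq_zero_iff_mem, hI, IsLocalization.algebraMap_mem_map_algebraMap_iff w.primeCompl,
      show P.map j = (P.map MvPolynomial.C).map (π) from (Ideal.map_map _ _).symm]
    constructor
    · rintro ⟨s, hs, hsb⟩
      obtain ⟨s, rfl⟩ := hπ s
      rw [← map_mul, ← Ideal.mem_comap, Ideal.comap_map_of_surjective π hπ, ← RingHom.ker_eq_comap_bot, hker] at hsb
      exact ⟨s, hs, hsb⟩
    · rintro ⟨s, hs, hsb⟩
      refine ⟨π s, hs, ?_⟩
      rw [← map_mul, ← Ideal.mem_comap, Ideal.comap_map_of_surjective π hπ, ← RingHom.ker_eq_comap_bot, hker]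
      exact hsb
  have hd := exists_nodeData_model a P ha ω Q (by rw [hP]; exact Ideal.comap_comap _ _) hX hωs hωk hωQ
  refine ⟨?_, Wl ⧸ I, inferInstance, inferInstance, Ideal.Quotient.mk I, Ideal.Quotient.mk_surjective,
    Ideal.mk_ker, _, _, _, _, _, hd⟩
  -- the residue field is the residue field of the base
  letI := (ResidueField.map φ).toAlgebra
  have hres : Function.Surjective (algebraMap (ResidueField (Localization.AtPrime P)) (ResidueField Wl)) := by
    intro z
    obtain ⟨z, rfl⟩ := residue_surjective z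
    obtain ⟨⟨b, s, hs⟩, hbs⟩ := IsLocalization.surj w.primeCompl z
    have hconst : ∀ b : W, ∃ c : C, b - j c ∈ w := by
      intro b
      obtain ⟨b, rfl⟩ := hπ b
      induction b using MvPolynomial.induction_on with
      | C r => exact ⟨r, by show _ - j r ∈ w; simp [j]⟩
      | add b b' hb hb' =>
        obtain ⟨c, hc⟩ := hb
        obtain ⟨c', hc'⟩ := hb'
        exact ⟨c + c', by rw [map_add, map_add, add_sub_add_comm]; exact add_mem hc hc'⟩
      | mul_X b i hb => exact ⟨0, by rw [map_zero, sub_zero, map_mul]; exact Ideal.mul_mem_left _ _ (hX i)⟩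
    obtain ⟨c, hc⟩ := hconst b
    obtain ⟨d, hd'⟩ := hconst s
    have hres' : ∀ {p q : W}, p - q ∈ w → residue Wl (algebraMap W Wl p) = residue Wl (algebraMap W Wl q) :=
      fun {p q} h => Ideal.Quotient.eq.2 (by
        rw [← map_sub]; exact (IsLocalization.AtPrime.to_map_mem_maximal_iff Wl w _).2 h)
    have hdP : d ∉ P := fun h => hs (by
      have h2 : j d ∈ w := by rw [hP] at h; exact h
      have := add_mem hd' h2
      rwa [sub_add_cancel] at this)
    let Pl := Localization.AtPrime P
    have hφj : ∀ z, φ (algebraMap C Pl z) = algebraMap W Wl (j z) := fun z => Localization.localRingHom_to_map P w j hP z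
    have hdu : IsUnit (algebraMap C Pl d) := IsLocalization.map_units Pl (⟨d, hdP⟩ : P.primeCompl)
    obtain ⟨di, hdi⟩ := hdu.exists_left_inv
    refine ⟨residue Pl (algebraMap C Pl c * di), ?_⟩
    show residue Wl (φ (algebraMap C Pl c * di)) = residue Wl z
    have h1 : residue Wl (algebraMap W Wl s) * residue Wl z = residue Wl (algebraMap W Wl b) := by
      rw [← map_mul, mul_comm]; exact congrArg _ hbs
    have h2 : residue Wl (φ di) * residue Wl (algebraMap W Wl s) = 1 := by
      rw [hres' hd', ← hφj, ← map_mul, ← map_mul, hdi, map_one, map_one]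
    rw [map_mul, hφj, map_mul, ← hres' hc, ← h1]
    linear_combination (residue Wl z) * h2
  let e : ResidueField (Localization.AtPrime P) ≃ₐ[ResidueField (Localization.AtPrime P)] ResidueField Wl :=
    AlgEquiv.ofBijective (Algebra.ofId _ _) ⟨RingHom.injective _, hres⟩
  exact ⟨Module.Finite.equiv e.toLinearEquiv, Algebra.IsSeparable.of_algHom _ _ e.symm.toAlgHom⟩

/-- `uv = a` is smooth over the base where one of the coordinates is invertible. -/
theorem smooth_away_node {C : Type u} [CommRing C] (a : C) {W : Type u} [CommRing W]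
    (π : MvPolynomial (Fin 2) C →+* W) (hπ : Function.Surjective π) (hker : RingHom.ker π = nodeIdeal a)
    (i : Fin 2) :
    ((algebraMap W (Localization.Away (π (MvPolynomial.X i)))).comp (π.comp MvPolynomial.C)).Smooth := by
  let Wi := Localization.Away (π (MvPolynomial.X i))
  let L := Localization.Away (Polynomial.X : Polynomial C)
  let φ : Polynomial C →+* L := algebraMap _ L
  obtain ⟨Ti, hTi⟩ := (IsLocalization.Away.algebraMap_isUnit (S := L) (Polynomial.X : Polynomial C)).exists_left_inv
  let v : Fin 2 → L := fun k => if k = i then φ Polynomial.X else φ (Polynomial.C a) * Ti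
  let σ₀ : MvPolynomial (Fin 2) C →+* L := MvPolynomial.eval₂Hom (φ.comp Polynomial.C) v
  have hrel : π (MvPolynomial.X 0) * π (MvPolynomial.X 1) = π (MvPolynomial.C a) := by
    rw [← map_mul]
    exact (RingHom.sub_mem_ker_iff π).1 (hker ▸ Ideal.mem_span_singleton_self _)
  have hσ₀ : ∀ z ∈ nodeIdeal a, σ₀ z = 0 := fun z hz => by
    obtain ⟨w, rfl⟩ := Ideal.mem_span_singleton'.1 hz
    rw [map_mul]
    refine mul_eq_zero_of_right _ ?_
    have e : φ Polynomial.X * (φ (Polynomial.C a) * Ti) = φ (Polynomial.C a) := by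
      linear_combination φ (Polynomial.C a) * hTi
    have hC : σ₀ (MvPolynomial.C a) = φ (Polynomial.C a) := MvPolynomial.eval₂Hom_C _ _ a
    rw [map_sub, map_mul, hC, sub_eq_zero]
    show σ₀ (MvPolynomial.X 0) * σ₀ (MvPolynomial.X 1) = _
    rw [MvPolynomial.eval₂Hom_X', MvPolynomial.eval₂Hom_X']
    fin_cases i
    · simpa [v] using e
    · rw [mul_comm]; simpa [v] using e
  let σ : W →+* L := RingHom.liftOfSurjective π hπ ⟨σ₀, fun z hz => hσ₀ z (hker.le hz)⟩
  have hσ : ∀ z, σ (π z) = σ₀ z := fun z => RingHom.liftOfSurjective_comp_apply π hπ _ z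
  have hσX : σ (π (MvPolynomial.X i)) = φ Polynomial.X := by
    rw [hσ, MvPolynomial.eval₂Hom_X']; simp [v]
  let F : Wi →+* L := IsLocalization.Away.lift (π (MvPolynomial.X i)) (g := σ)
    (by rw [hσX]; exact IsLocalization.Away.algebraMap_isUnit _)
  have hF : ∀ z, F (algebraMap W Wi z) = σ z := fun z => IsLocalization.Away.lift_eq _ _ z
  let τ₀ : Polynomial C →+* Wi :=
    Polynomial.eval₂RingHom ((algebraMap W Wi).comp (π.comp MvPolynomial.C)) (algebraMap W Wi (π (MvPolynomial.X i)))
  let G : L →+* Wi := IsLocalization.Away.lift (Polynomial.X : Polynomial C) (g := τ₀) (by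
    simpa [τ₀] using IsLocalization.Away.algebraMap_isUnit (S := Wi) (π (MvPolynomial.X i)))
  have hG : ∀ z, G (φ z) = τ₀ z := fun z => IsLocalization.Away.lift_eq _ _ z
  have hFG : F.comp G = RingHom.id L := by
    refine IsLocalization.ringHom_ext (Submonoid.powers (Polynomial.X : Polynomial C))
      (Polynomial.ringHom_ext (fun z => ?_) ?_)
    · show F (G (φ (Polynomial.C z))) = φ (Polynomial.C z)
      rw [hG, show τ₀ (Polynomial.C z) = algebraMap W Wi (π (MvPolynomial.C z)) by simp [τ₀], hF, hσ]
      exact MvPolynomial.eval₂Hom_C _ _ z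
    · show F (G (φ Polynomial.X)) = φ Polynomial.X
      rw [hG, show τ₀ Polynomial.X = algebraMap W Wi (π (MvPolynomial.X i)) by simp [τ₀], hF, hσX]
  have hGF : G.comp F = RingHom.id Wi := by
    refine IsLocalization.ringHom_ext (Submonoid.powers (π (MvPolynomial.X i))) ((RingHom.cancel_right hπ).1
      (MvPolynomial.ringHom_ext (fun z => ?_) fun k => ?_))
    · show G (F (algebraMap W Wi (π (MvPolynomial.C z)))) = algebraMap W Wi (π (MvPolynomial.C z))
      rw [hF, hσ, show σ₀ (MvPolynomial.C z) = φ (Polynomial.C z) from MvPolynomial.eval₂Hom_C _ _ z, hG]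
      simp [τ₀]
    · show G (F (algebraMap W Wi (π (MvPolynomial.X k)))) = algebraMap W Wi (π (MvPolynomial.X k))
      rw [hF, hσ, show σ₀ (MvPolynomial.X k) = v k from MvPolynomial.eval₂Hom_X' _ _ k]
      by_cases hk : k = i
      · subst hk
        simp only [v, if_true]
        rw [hG]
        simp [τ₀]
      · simp only [v, if_neg hk]
        rw [map_mul, hG, show τ₀ (Polynomial.C a) = algebraMap W Wi (π (MvPolynomial.C a)) by simp [τ₀]]
        have hu : algebraMap W Wi (π (MvPolynomial.X i)) * G Ti = 1 := by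
          have := congrArg G hTi
          rw [map_mul, map_one, hG, show τ₀ Polynomial.X = algebraMap W Wi (π (MvPolynomial.X i)) by simp [τ₀]] at this
          rw [mul_comm]; exact this
        have hik : π (MvPolynomial.X i) * π (MvPolynomial.X k) = π (MvPolynomial.C a) := by
          fin_cases i <;> fin_cases k
          · exact absurd rfl hk
          · exact hrel
          · exact (mul_comm _ _).trans hrel
          · exact absurd rfl hk
        rw [← hik, map_mul]
        linear_combination algebraMap W Wi (π (MvPolynomial.X k)) * hu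
  let E : L ≃+* Wi := RingEquiv.ofRingHom G F hGF hFG
  have h1 : (algebraMap C L).Smooth := by
    rw [RingHom.smooth_algebraMap]
    haveI : Algebra.Smooth C (Polynomial C) := ⟨inferInstance, inferInstance⟩
    haveI : Algebra.Etale (Polynomial C) L := Algebra.Etale.of_isLocalizationAway (Polynomial.X : Polynomial C)
    exact Algebra.Smooth.comp C (Polynomial C) L
  have h2 : (E.toRingHom.comp (algebraMap C L)).Smooth := RingHom.Smooth.respectsIso.left _ E h1
  convert h2 using 1
  refine RingHom.ext fun z => ?_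
  show algebraMap W Wi (π (MvPolynomial.C z)) = G (algebraMap C L z)
  rw [IsScalarTower.algebraMap_apply C (Polynomial C) L, Polynomial.algebraMap_eq, hG]
  simp [τ₀]

end Groth.Agent.NodeLib7
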