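import Groth.Agent.NodeLib7.Scheme
import Mathlib.AlgebraicGeometry.Morphisms.FiniteType

/-!
# Nodes of schemes over a field: the pointwise criterion
-/

set_option autoImplicit false
set_option backward.isDefEq.respectTransparency false
set_option linter.style.haveILetI false

universe u

open CategoryTheory CategoryTheory.Limits AlgebraicGeometry IsLocalRing TensorProduct
open Groth.Agent.VarietyLib

attribute [local instance] Curv2.stalkAlgebra Curv2.resAlgebra

namespace Groth.Agent.NodeLib7

variable (k : Type u) [Field k] (X : Scheme.{u}) [X.Over (Spec (CommRingCat.of k))]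

/-- `x` has a separable residue field and its local ring has node data. -/
def IsNodePt (x : X) : Prop :=
  Algebra.IsSeparable k (ResidueField (X.presheaf.stalk x)) ∧
    ∃ u v a b c : X.presheaf.stalk x, NodeData (X.presheaf.stalk x) u v a b c

variable [LocallyOfFiniteType (X ↘ (Spec (CommRingCat.of k)))]

include k in
theorem isNoetherianRing_stalk (x : X) : IsNoetherianRing (X.presheaf.stalk x) := by
  haveI : IsLocallyNoetherian X := LocallyOfFiniteType.isLocallyNoetherian (X ↘ (Spec (CommRingCat.of k)))
  infer_instance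

omit [LocallyOfFiniteType (X ↘ (Spec (CommRingCat.of k)))] in
theorem specMap_resMap (x : X) :
    Spec.map (CommRingCat.ofHom (algebraMap k (X.residueField x))) =
      X.fromSpecResidueField x ≫ (X ↘ Spec (CommRingCat.of k)) := by
  have h : CommRingCat.ofHom (algebraMap k (X.residueField x)) =
      CommRingCat.ofHom (algebraMap k (X.presheaf.stalk x)) ≫ X.residue x := rfl
  rw [h, Spec.map_comp, specMap_stalkAlgebra, Scheme.fromSpecResidueField, Category.assoc]

/-- Closed points are the points with finite residue fields. -/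
theorem isClosed_iff_finite (x : X) :
    IsClosed ({x} : Set X) ↔ Module.Finite k (ResidueField (X.presheaf.stalk x)) := by
  haveI : JacobsonSpace X := LocallyOfFiniteType.jacobsonSpace (X ↘ Spec (CommRingCat.of k))
  rw [isClosed_singleton_iff_locallyOfFiniteType]
  constructor
  · intro h
    have h1 : LocallyOfFiniteType (Spec.map (CommRingCat.ofHom (algebraMap k (X.residueField x)))) := by
      rw [specMap_resMap]; infer_instance
    rw [HasRingHomProperty.Spec_iff (P := @LocallyOfFiniteType)] at h1
    haveI : Algebra.FiniteType k (X.residueField x) := RingHom.finiteType_algebraMap.1 h1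
    exact finite_of_finite_type_of_isJacobsonRing k (X.residueField x)
  · intro h
    haveI : Module.Finite k (X.residueField x) := h
    have h1 : LocallyOfFiniteType (X.fromSpecResidueField x ≫ (X ↘ Spec (CommRingCat.of k))) := by
      rw [← specMap_resMap, HasRingHomProperty.Spec_iff (P := @LocallyOfFiniteType)]
      exact RingHom.finiteType_algebraMap.2 inferInstance
    exact locallyOfFiniteType_of_comp (X.fromSpecResidueField x) (X ↘ Spec (CommRingCat.of k))

omit [LocallyOfFiniteType (X ↘ (Spec (CommRingCat.of k)))] in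
theorem exists_over (K : Type u) [Field K] [Algebra k K] (x : X) :
    ∃ y, Curv2.bcFst k X K y = x := by
  haveI : Surjective (Spec.map (CommRingCat.ofHom (algebraMap k K))) :=
    ⟨fun p => ⟨IsLocalRing.closedPoint K, Subsingleton.elim _ _⟩⟩
  exact (inferInstance : Surjective (Curv2.bcFst k X K)).surj x

/-- All geometric points over a node are ordinary double points. -/
theorem IsNodePt.isOrdDoublePt {K : Type u} [Field K] [IsAlgClosed K] [Algebra k K] [Algebra.IsIntegral k K]
    (y : ↥(Curv2.bc k X K)) (hc : IsClosed ({(Curv2.bcFst k X K) y} : Set X))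
    (h : IsNodePt k X ((Curv2.bcFst k X K) y)) :
    @Curv2.IsOrdDoublePt K _ ((Curv2.bc k X K).presheaf.stalk y) _
      (@Curv2.stalkAlgebra K _ (Curv2.bc k X K) ⟨Curv2.bcSnd k X K⟩ y) _ := by
  obtain ⟨hsep, u, v, a, b, c, hd⟩ := h
  obtain ⟨P, _, hP, _, e, he⟩ := exists_localization_compat k X K y
  haveI := (isClosed_iff_finite k X _).1 hc
  haveI := hsep
  obtain ⟨f, hf⟩ := exists_split_completion P hP hd
  haveI : IsNoetherianRing ((Curv2.bc k X K).presheaf.stalk y) := isNoetherianRing_of_ringEquiv _ e.symm
  obtain ⟨E, hE⟩ := exists_completion_congr e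
  refine ⟨E.trans f, fun t => ?_⟩
  show f (E (algebraMap _ _ (@Curv2.stalkMap K _ (Curv2.bc k X K) ⟨Curv2.bcSnd k X K⟩ y t))) = _
  rw [hE, he]
  exact hf t

/-- A node has separable residue field and node data. -/
theorem isNodePt_of_ordDoublePt {K : Type u} [Field K] [IsAlgClosed K] [Algebra k K] [Algebra.IsAlgebraic k K]
    (y : ↥(Curv2.bc k X K)) (hc : IsClosed ({(Curv2.bcFst k X K) y} : Set X))
    (h : @Curv2.IsOrdDoublePt K _ ((Curv2.bc k X K).presheaf.stalk y) _
      (@Curv2.stalkAlgebra K _ (Curv2.bc k X K) ⟨Curv2.bcSnd k X K⟩ y) _) :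
    IsNodePt k X ((Curv2.bcFst k X K) y) ∧ _root_.IsReduced (X.presheaf.stalk ((Curv2.bcFst k X K) y)) := by
  obtain ⟨f, -⟩ := h
  obtain ⟨P, _, hP, _, e, -⟩ := exists_localization_compat k X K y
  haveI := (isClosed_iff_finite k X _).1 hc
  haveI := isNoetherianRing_stalk k X ((Curv2.bcFst k X K) y)
  haveI : IsNoetherianRing ((Curv2.bc k X K).presheaf.stalk y) := isNoetherianRing_of_ringEquiv _ e.symm
  obtain ⟨E, -⟩ := exists_completion_congr e
  obtain ⟨h1, h2, h3⟩ := exists_nodeData_of_geometric P hP (E.symm.trans f)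
  exact ⟨⟨h1, h3⟩, h2⟩

/-- Nodes are the closed points with separable residue field and node data. -/
theorem isNode_iff (x : X) : Curv2.IsNode k X x ↔ IsClosed ({x} : Set X) ∧ IsNodePt k X x := by
  constructor
  · rintro ⟨hc, y, rfl, hy⟩
    exact ⟨hc, (isNodePt_of_ordDoublePt k X y hc hy).1⟩
  · rintro ⟨hc, h⟩
    obtain ⟨y, rfl⟩ := exists_over k X (AlgebraicClosure k) x
    exact ⟨hc, y, rfl, h.isOrdDoublePt k X y hc⟩

theorem isReduced_of_isNode {x : X} (h : Curv2.IsNode k X x) : _root_.IsReduced (X.presheaf.stalk x) := by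
  obtain ⟨hc, y, rfl, hy⟩ := h
  exact (isNodePt_of_ordDoublePt k X y hc hy).2

/-- The completion of a node is a quadratic cone over the residue field. -/
theorem exists_completion_of_isNodePt {x : X} (h : IsNodePt k X x) :
    ∃ a b c : X.residueField x, 4 * a * c - b ^ 2 ≠ 0 ∧
      ∃ e : AdicCompletion (maximalIdeal (X.presheaf.stalk x)) (X.presheaf.stalk x) ≃+* QQ a b c,
        ∀ t : k, e (algebraMap (X.presheaf.stalk x) _ (algebraMap k (X.presheaf.stalk x) t)) =
          Ideal.Quotient.mk _ (MvPowerSeries.C (algebraMap k (X.residueField x) t)) := by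
  obtain ⟨hsep, u, v, a, b, c, hd⟩ := h
  haveI := hsep
  haveI := isNoetherianRing_stalk k X x
  haveI : Algebra.FormallyEtale k (ResidueField (X.presheaf.stalk x)) := Algebra.FormallyEtale.of_isSeparable _ _
  obtain ⟨e, he⟩ := exists_completion_equiv (k := k) hd
  refine ⟨residue _ a, residue _ b, residue _ c, ?_, e, he⟩
  have h := hd.disc
  simp only [map_sub, map_mul, map_pow, map_ofNat] at h
  exact h

end Groth.Agent.NodeLib7
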