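import Groth.Agent.NodeLib7.NodeChart
import Groth.Agent.NodeLib7.Point
import Groth.Agent.Props12.Stalks
import Mathlib.AlgebraicGeometry.Morphisms.FinitePresentation
import Mathlib.AlgebraicGeometry.Morphisms.Etale

/-!
# Étale local structure of a nodal family: the scheme statement
-/

set_option autoImplicit false
set_option backward.isDefEq.respectTransparency false
set_option linter.style.haveILetI false

universe u

open CategoryTheory CategoryTheory.Limits AlgebraicGeometry IsLocalRing

attribute [local instance] Curv2.stalkAlgebra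

namespace Groth.Agent.NodeLib7

variable {X S : Scheme.{u}} (f : X ⟶ S)

/-- The constants of the fibre act through the base. -/
theorem fibre_const (s : S) (w : ↥(f.fiber s)) (hs : f (f.fiberι s w) = s) :
    letI : (f.fiber s).Over (Spec (CommRingCat.of (S.residueField s))) := ⟨f.fiberToSpecResidueField s⟩
    f.stalkMap (f.fiberι s w) ≫ (f.fiberι s).stalkMap w =
      (S.residue (f (f.fiberι s w)) ≫ (S.residueFieldCongr hs).hom) ≫
        CommRingCat.ofHom (algebraMap (S.residueField s) ((f.fiber s).presheaf.stalk w)) := by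
  letI : (f.fiber s).Over (Spec (CommRingCat.of (S.residueField s))) := ⟨f.fiberToSpecResidueField s⟩
  apply Spec.map_injective
  have e := VarietyLib.specMap_stalkAlgebra (S.residueField s) (f.fiber s) w
  rw [← cancel_mono (S.fromSpecStalk (f (f.fiberι s w))), Spec.map_comp, Spec.map_comp, Spec.map_comp,
    Category.assoc, Category.assoc, Category.assoc,
    Scheme.SpecMap_stalkMap_fromSpecStalk, Scheme.SpecMap_stalkMap_fromSpecStalk_assoc,
    ← Scheme.fromSpecResidueField, Scheme.residueFieldCongr_fromSpecResidueField]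
  refine (congrArg ((f.fiber s).fromSpecStalk w ≫ ·) pullback.condition).trans ?_
  exact (Category.assoc _ _ _).symm.trans (congrArg (· ≫ S.fromSpecResidueField s) e.symm)

variable [Flat f] [LocallyOfFinitePresentation f]

/-- **Étale local structure at a node.** -/
theorem exists_model_at (s : S) (w : ↥(f.fiber s))
    (hw : letI : (f.fiber s).Over (Spec (CommRingCat.of (S.residueField s))) := ⟨f.fiberToSpecResidueField s⟩
      IsNodePt (S.residueField s) (f.fiber s) w) :
    ∃ (C : Type u) (_ : CommRing C) (a : C) (U : Scheme.{u}) (gU : U ⟶ X) (gV : Spec (CommRingCat.of C) ⟶ S)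
      (g : U ⟶ Spec (CommRingCat.of (MvPolynomial (Fin 2) C ⧸
        Ideal.span {(MvPolynomial.X 0 * MvPolynomial.X 1 - MvPolynomial.C a : MvPolynomial (Fin 2) C)}))),
      Etale gU ∧ Etale gV ∧ Etale g ∧
      gU ≫ f = g ≫ Spec.map (CommRingCat.ofHom ((Ideal.Quotient.mk _).comp MvPolynomial.C)) ≫ gV ∧
      f.fiberι s w ∈ Set.range gU.base := by
  letI : (f.fiber s).Over (Spec (CommRingCat.of (S.residueField s))) := ⟨f.fiberToSpecResidueField s⟩
  obtain ⟨hsep, hnode⟩ := hw
  set x := f.fiberι s w with hx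
  have hs : f x = s := (f.range_fiberι s).le ⟨w, rfl⟩
  obtain ⟨V, hV, hxV, -⟩ := exists_isAffineOpen_mem_and_subset (X := S) (x := f x) (U := ⊤) trivial
  obtain ⟨U, hU, hxU, hUV⟩ := exists_isAffineOpen_mem_and_subset (X := X) (x := x) (U := f ⁻¹ᵁ V) hxV
  let φ := f.appLE V U hUV
  letI : Algebra Γ(S, V) Γ(X, U) := φ.hom.toAlgebra
  haveI : Module.Flat Γ(S, V) Γ(X, U) := HasRingHomProperty.appLE @Flat f inferInstance ⟨V, hV⟩ ⟨U, hU⟩ hUV
  haveI : Algebra.FinitePresentation Γ(S, V) Γ(X, U) :=
    HasRingHomProperty.appLE @LocallyOfFinitePresentation f inferInstance ⟨V, hV⟩ ⟨U, hU⟩ hUV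
  let q : Ideal Γ(X, U) := (hU.primeIdealOf ⟨x, hxU⟩).asIdeal
  let p : Ideal Γ(S, V) := q.under Γ(S, V)
  have hp : (hV.primeIdealOf ⟨f x, hUV hxU⟩).asIdeal = p :=
    congr($(IsAffineOpen.comap_primeIdealOf_appLE V hV U hU hUV hxU).1).symm
  letI algX : Algebra Γ(X, U) (X.presheaf.stalk x) := X.presheaf.algebra_section_stalk ⟨x, hxU⟩
  haveI : IsLocalization.AtPrime (X.presheaf.stalk x) q := hU.isLocalization_stalk ⟨x, hxU⟩
  letI algS : Algebra Γ(S, V) (S.presheaf.stalk (f x)) := S.presheaf.algebra_section_stalk ⟨f x, hUV hxU⟩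
  haveI : IsLocalization.AtPrime (S.presheaf.stalk (f x)) p := by
    have key : ∀ (p' : Ideal Γ(S, V)) [p'.IsPrime], p' = p → IsLocalization.AtPrime (S.presheaf.stalk (f x)) p' →
        IsLocalization.AtPrime (S.presheaf.stalk (f x)) p := fun p' _ e h => by subst e; exact h
    exact key _ hp (hV.isLocalization_stalk ⟨f x, hUV hxU⟩)
  have hsq : ∀ r, f.stalkMap x (algebraMap Γ(S, V) (S.presheaf.stalk (f x)) r) =
      algebraMap Γ(X, U) (X.presheaf.stalk x) (φ r) := fun r => by
    show f.stalkMap x (S.presheaf.germ V (f x) _ r) = X.presheaf.germ U x hxU (φ r)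
    rw [Scheme.Hom.germ_stalkMap_apply]
    simp [φ, Scheme.Hom.appLE]
  let eX : Localization.AtPrime q ≃ₐ[Γ(X, U)] X.presheaf.stalk x := IsLocalization.algEquiv q.primeCompl _ _
  let χ : Localization.AtPrime q →+* (f.fiber s).presheaf.stalk w :=
    ((f.fiberι s).stalkMap w).hom.comp eX.toRingEquiv.toRingHom
  obtain ⟨hsurj, hker⟩ := Props12.stalkMap_fiberι f s w
  have hχ : Function.Surjective χ := hsurj.comp eX.surjective
  have hχa : ∀ z, χ (algebraMap Γ(X, U) _ z) = (f.fiberι s).stalkMap w (algebraMap Γ(X, U) _ z) := fun z =>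
    congrArg ((f.fiberι s).stalkMap w).hom (eX.commutes z)
  have hχk : RingHom.ker χ = p.map (algebraMap Γ(S, V) (Localization.AtPrime q)) := by
    have h1 : (maximalIdeal (S.presheaf.stalk (f x))).map (f.stalkMap x).hom =
        p.map ((algebraMap Γ(X, U) (X.presheaf.stalk x)).comp φ.hom) := by
      rw [← IsLocalization.AtPrime.map_eq_maximalIdeal p (S.presheaf.stalk (f x)), Ideal.map_map]
      exact congrArg (fun g => Ideal.map g p) (RingHom.ext hsq)
    rw [← RingHom.comap_ker]
    show Ideal.comap eX.toRingEquiv (RingHom.ker ((f.fiberι s).stalkMap w).hom) = _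
    rw [hker]
    show Ideal.comap eX.toRingEquiv ((maximalIdeal (S.presheaf.stalk (f x))).map (f.stalkMap x).hom) = _
    rw [h1, ← Ideal.map_symm]
    refine (Ideal.map_map _ (eX.toRingEquiv.symm.toRingHom)).trans ?_
    refine congrArg (fun g => Ideal.map g p) (RingHom.ext fun r => ?_)
    exact (eX.symm.commutes (φ r)).trans (IsScalarTower.algebraMap_apply Γ(S, V) Γ(X, U) _ r).symm
  -- separability
  haveI : IsLocalHom χ := hχ.isLocalHom χ
  let eS : Localization.AtPrime p ≃ₐ[Γ(S, V)] S.presheaf.stalk (f x) := IsLocalization.algEquiv p.primeCompl _ _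
  let e1 : p.ResidueField ≃+* S.residueField s :=
    (ResidueField.mapEquiv eS.toRingEquiv).trans (S.residueFieldCongr hs).commRingCatIsoToRingEquiv
  have he1 : ∀ r, e1 (algebraMap Γ(S, V) p.ResidueField r) =
      (S.residueFieldCongr hs).hom (S.residue (f x) (algebraMap Γ(S, V) (S.presheaf.stalk (f x)) r)) := fun r => by
    show (S.residueFieldCongr hs).hom (residue _ (eS (algebraMap Γ(S, V) _ r))) = _
    rw [eS.commutes]
    rfl
  let e2 : q.ResidueField ≃+* ResidueField ((f.fiber s).presheaf.stalk w) :=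
    RingEquiv.ofBijective (ResidueField.map χ) ⟨RingHom.injective _, fun z => by
      obtain ⟨z, rfl⟩ := residue_surjective z
      obtain ⟨z, rfl⟩ := hχ z
      exact ⟨residue _ z, ResidueField.map_residue χ z⟩⟩
  letI : Algebra p.ResidueField q.ResidueField :=
    (Ideal.ResidueField.map p q (algebraMap Γ(S, V) Γ(X, U)) rfl).toAlgebra
  have hc := fibre_const f s w hs
  have hsep' : Algebra.IsSeparable p.ResidueField q.ResidueField := by
    haveI := hsep
    refine Algebra.IsSeparable.of_equiv_equiv e1.symm e2.symm (RingHom.ext fun t => ?_)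
    obtain ⟨t, rfl⟩ := e1.surjective t
    show algebraMap p.ResidueField q.ResidueField (e1.symm (e1 t)) = e2.symm (algebraMap _ _ (e1 t))
    rw [RingEquiv.symm_apply_apply]
    refine e2.injective ?_
    rw [RingEquiv.apply_symm_apply]
    refine RingHom.congr_fun (Ideal.ResidueField.ringHom_ext (I := p)
      (f := e2.toRingHom.comp (algebraMap p.ResidueField q.ResidueField))
      (g := (algebraMap (S.residueField s) (ResidueField ((f.fiber s).presheaf.stalk w))).comp e1.toRingHom)
      (RingHom.ext fun r => ?_)) t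
    show ResidueField.map χ (Ideal.ResidueField.map p q (algebraMap Γ(S, V) Γ(X, U)) rfl (algebraMap _ _ r)) =
      residue _ (algebraMap (S.residueField s) ((f.fiber s).presheaf.stalk w) (e1 (algebraMap _ _ r)))
    rw [Ideal.ResidueField.map_algebraMap, he1]
    show residue _ (χ (algebraMap Γ(X, U) _ (φ r))) = _
    rw [hχa, ← hsq]
    exact congrArg _ (ConcreteCategory.congr_hom hc _)
  obtain ⟨C, _, _, a, E, _, ι, g, qE, hC, hι, hg, hqE, hqEc, hcomm⟩ :=
    exists_local_model q hsep' χ hχ hχk hnode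
  let φV : Γ(S, V) →+* C := algebraMap Γ(S, V) C
  haveI : Etale (Spec.map (CommRingCat.ofHom ι)) := (HasRingHomProperty.Spec_iff (P := @Etale)).2 hι
  haveI : Etale (Spec.map (CommRingCat.ofHom φV)) :=
    (HasRingHomProperty.Spec_iff (P := @Etale)).2 (RingHom.etale_algebraMap.2 hC)
  refine ⟨C, inferInstance, a, Spec (CommRingCat.of E), Spec.map (CommRingCat.ofHom ι) ≫ hU.fromSpec,
    Spec.map (CommRingCat.ofHom φV) ≫ hV.fromSpec, Spec.map (CommRingCat.ofHom g), inferInstance, inferInstance,
    (HasRingHomProperty.Spec_iff (P := @Etale)).2 hg, ?_, ⟨⟨qE, hqE⟩, ?_⟩⟩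
  · rw [Category.assoc, ← IsAffineOpen.SpecMap_appLE_fromSpec f hV hU hUV]
    simp only [← Spec.map_comp_assoc]
    congr 2
    exact CommRingCat.hom_ext hcomm
  · show hU.fromSpec ((Spec.map (CommRingCat.ofHom ι)) ⟨qE, hqE⟩) = x
    rw [show (Spec.map (CommRingCat.ofHom ι)) ⟨qE, hqE⟩ = hU.primeIdealOf ⟨x, hxU⟩ from PrimeSpectrum.ext hqEc]
    exact hU.fromSpec_primeIdealOf ⟨x, hxU⟩

end Groth.Agent.NodeLib7
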