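import Groth.Agent.NodeLib7.NodeHom
import Groth.Agent.NodeLib7.NodeModel
import Groth.Agent.NodeLib7.NodeScheme
import Groth.Agent.NodeLib7.NodeFamily
import Groth.Agent.NodeLib7.Universal
import Groth.Agent.CAlgH.CIScheme
import Groth.Agent.AlgSpLib.SmoothSource
import Mathlib.AlgebraicGeometry.Morphisms.FormallyUnramified

/-!
# Openness of the locus of smooth points and nodes of the fibres
-/

set_option autoImplicit false
set_option backward.isDefEq.respectTransparency false
set_option linter.style.haveILetI false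

universe u

open CategoryTheory CategoryTheory.Limits AlgebraicGeometry IsLocalRing

attribute [local instance] Curv2.stalkAlgebra

namespace Groth.Agent.NodeLib7

variable {X S : Scheme.{u}} (f : X ⟶ S) [LocallyOfFiniteType f]

omit [LocallyOfFiniteType f] in
/-- The residue fields of a fibre and of the total space agree. -/
theorem exists_residue_equiv (s : S) (w : ↥(f.fiber s)) (hs : f (f.fiberι s w) = s) :
    letI : (f.fiber s).Over (Spec (CommRingCat.of (S.residueField s))) := ⟨f.fiberToSpecResidueField s⟩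
    letI := (ResidueField.map (f.stalkMap (f.fiberι s w)).hom).toAlgebra
    ∃ (e₁ : ResidueField (S.presheaf.stalk (f (f.fiberι s w))) ≃+* S.residueField s)
      (e₂ : ResidueField (X.presheaf.stalk (f.fiberι s w)) ≃+* ResidueField ((f.fiber s).presheaf.stalk w)),
      (algebraMap (S.residueField s) (ResidueField ((f.fiber s).presheaf.stalk w))).comp e₁.toRingHom =
        e₂.toRingHom.comp (algebraMap (ResidueField (S.presheaf.stalk (f (f.fiberι s w))))
          (ResidueField (X.presheaf.stalk (f.fiberι s w)))) := by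
  letI : (f.fiber s).Over (Spec (CommRingCat.of (S.residueField s))) := ⟨f.fiberToSpecResidueField s⟩
  letI := (ResidueField.map (f.stalkMap (f.fiberι s w)).hom).toAlgebra
  obtain ⟨hsurj, -⟩ := Props12.stalkMap_fiberι f s w
  let χ := ((f.fiberι s).stalkMap w).hom
  haveI : IsLocalHom χ := hsurj.isLocalHom χ
  refine ⟨(S.residueFieldCongr hs).commRingCatIsoToRingEquiv, RingEquiv.ofBijective (ResidueField.map χ)
    ⟨RingHom.injective _, fun z => ?_⟩, Ideal.Quotient.ringHom_ext (RingHom.ext fun z => ?_)⟩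
  · obtain ⟨z, rfl⟩ := residue_surjective z
    obtain ⟨z, rfl⟩ := hsurj z
    exact ⟨residue _ z, ResidueField.map_residue χ z⟩
  · exact (congrArg (residue _) (ConcreteCategory.congr_hom (fibre_const f s w hs) z)).symm

/-- A point of a fibre is a node iff the local homomorphism at it has nodal closed fibre. -/
theorem isNodePt_iff_isNodeHom (s : S) (w : ↥(f.fiber s)) :
    (letI : (f.fiber s).Over (Spec (CommRingCat.of (S.residueField s))) := ⟨f.fiberToSpecResidueField s⟩;
      Curv2.IsNode (S.residueField s) (f.fiber s) w) ↔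
    IsNodeHom (f.stalkMap (f.fiberι s w)).hom := by
  letI : (f.fiber s).Over (Spec (CommRingCat.of (S.residueField s))) := ⟨f.fiberToSpecResidueField s⟩
  haveI : LocallyOfFiniteType (f.fiber s ↘ Spec (CommRingCat.of (S.residueField s))) :=
    (MorphismProperty.pullback_snd _ _ inferInstance : LocallyOfFiniteType (f.fiberToSpecResidueField s))
  letI := (ResidueField.map (f.stalkMap (f.fiberι s w)).hom).toAlgebra
  obtain ⟨e₁, e₂, he⟩ := exists_residue_equiv f s w ((f.range_fiberι s).le ⟨w, rfl⟩)
  obtain ⟨hsurj, hker⟩ := Props12.stalkMap_fiberι f s w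
  have he' : (algebraMap (ResidueField (S.presheaf.stalk (f (f.fiberι s w))))
      (ResidueField (X.presheaf.stalk (f.fiberι s w)))).comp e₁.symm.toRingHom =
      e₂.symm.toRingHom.comp (algebraMap (S.residueField s) (ResidueField ((f.fiber s).presheaf.stalk w))) := by
    refine RingHom.ext fun z => e₂.injective ?_
    obtain ⟨z, rfl⟩ := e₁.surjective z
    simp only [RingHom.coe_comp, RingEquiv.toRingHom_eq_coe, RingHom.coe_coe, Function.comp_apply,
      RingEquiv.symm_apply_apply, RingEquiv.apply_symm_apply]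
    exact (RingHom.congr_fun he z).symm
  rw [isNode_iff, isClosed_iff_finite (S.residueField s)]
  constructor
  · rintro ⟨hfin, hsep, x, y, a, b, c, hd⟩
    haveI := hfin
    haveI := hsep
    exact ⟨⟨Module.Finite.of_equiv_equiv e₁.symm e₂.symm he',
      Algebra.IsSeparable.of_equiv_equiv e₁.symm e₂.symm he'⟩,
      _, inferInstance, inferInstance, _, hsurj, hker, x, y, a, b, c, hd⟩
  · rintro ⟨⟨hfin, hsep⟩, hO⟩
    obtain ⟨_, x, y, a, b, c, hd⟩ := exists_quotient_data hO
    haveI := hfin
    haveI := hsep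
    refine ⟨Module.Finite.of_equiv_equiv e₁ e₂ he, Algebra.IsSeparable.of_equiv_equiv e₁ e₂ he,
      _, _, _, _, _, hd.of_ringEquiv ((Ideal.quotEquivOfEq hker.symm).trans
        (RingHom.quotientKerEquivOfSurjective hsurj))⟩

/-- A point is a node of its fibre iff the local homomorphism at it has nodal closed fibre. -/
theorem isNode_asFiber_iff (y : X) :
    (letI : (f.fiber (f y)).Over (Spec (CommRingCat.of (S.residueField (f y)))) :=
        ⟨f.fiberToSpecResidueField (f y)⟩;
      Curv2.IsNode (S.residueField (f y)) (f.fiber (f y)) (f.asFiber y)) ↔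
    IsNodeHom (f.stalkMap y).hom := by
  have key : ∀ z : X, z = y → (IsNodeHom (f.stalkMap z).hom ↔ IsNodeHom (f.stalkMap y).hom) := by
    rintro z rfl; rfl
  exact (isNodePt_iff_isNodeHom f (f y) (f.asFiber y)).trans (key _ (f.fiberι_asFiber y))

theorem isNoetherianRing_fibre_stalk (y : X) :
    IsNoetherianRing ((X.presheaf.stalk y) ⧸ (maximalIdeal (S.presheaf.stalk (f y))).map (f.stalkMap y).hom) := by
  obtain ⟨e⟩ := CAlgH.CIScheme.fiberStalk_equiv f y
  haveI := CAlgH.CIScheme.isNoetherianRing_fiberStalk f y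
  exact isNoetherianRing_of_ringEquiv _ e.symm

omit [LocallyOfFiniteType f] in
theorem residue_facts {A B : Type u} [CommRing A] [IsLocalRing A] [CommRing B] [IsLocalRing B] (φ : A →+* B)
    [IsLocalHom φ] (hE : φ.EssFiniteType) (hU : φ.FormallyUnramified) :
    letI := (ResidueField.map φ).toAlgebra
    Module.Finite (ResidueField A) (ResidueField B) ∧ Algebra.IsSeparable (ResidueField A) (ResidueField B) := by
  algebraize [φ]
  haveI : IsLocalHom (algebraMap A B) := ‹IsLocalHom φ›
  have h1 : Module.Finite (ResidueField A) (ResidueField B) := inferInstance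
  have h2 : Algebra.IsSeparable (ResidueField A) (ResidueField B) := inferInstance
  have e : (ResidueField.map φ).toAlgebra = (inferInstance : Algebra (ResidueField A) (ResidueField B)) :=
    Algebra.algebra_ext _ _ fun z => by obtain ⟨z, rfl⟩ := residue_surjective z; rfl
  rw [e]
  exact ⟨h1, h2⟩

omit [LocallyOfFiniteType f] in
theorem isNodeHom_stalkMap_comp {U : Scheme.{u}} (g : U ⟶ X) (u : U) :
    IsNodeHom ((g ≫ f).stalkMap u).hom ↔ IsNodeHom ((g.stalkMap u).hom.comp (f.stalkMap (g u)).hom) := by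
  simp only [Scheme.Hom.stalkMap_comp]
  rfl

theorem isNoetherianRing_fibre_comp {U : Scheme.{u}} (g : U ⟶ X) [LocallyOfFiniteType g] (u : U) :
    IsNoetherianRing (U.presheaf.stalk u ⧸
      (maximalIdeal (S.presheaf.stalk (f (g u)))).map ((g.stalkMap u).hom.comp (f.stalkMap (g u)).hom)) := by
  have h := isNoetherianRing_fibre_stalk (g ≫ f) u
  have e : ((g ≫ f).stalkMap u).hom = (g.stalkMap u).hom.comp (f.stalkMap (g u)).hom :=
    congrArg CommRingCat.Hom.hom (Scheme.Hom.stalkMap_comp g f u)
  rw [e] at h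
  exact h

omit [LocallyOfFiniteType f] in
/-- The local homomorphisms of an étale morphism. -/
theorem etale_stalk_facts {U : Scheme.{u}} (g : U ⟶ X) [Etale g] (u : U) :
    (g.stalkMap u).hom.Flat ∧
      (maximalIdeal (X.presheaf.stalk (g u))).map (g.stalkMap u).hom = maximalIdeal (U.presheaf.stalk u) ∧
      (letI := (ResidueField.map (g.stalkMap u).hom).toAlgebra;
        Module.Finite (ResidueField (X.presheaf.stalk (g u))) (ResidueField (U.presheaf.stalk u)) ∧
          Algebra.IsSeparable (ResidueField (X.presheaf.stalk (g u))) (ResidueField (U.presheaf.stalk u))) := by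
  refine ⟨Flat.stalkMap g u, ?_, residue_facts _ (LocallyOfFiniteType.stalkMap g u) (FormallyUnramified.stalkMap g u)⟩
  have h1 : (g.stalkMap u).hom.EssFiniteType := LocallyOfFiniteType.stalkMap g u
  have h2 : (g.stalkMap u).hom.FormallyUnramified := FormallyUnramified.stalkMap g u
  algebraize [(g.stalkMap u).hom]
  haveI : IsLocalHom (algebraMap (X.presheaf.stalk (g u)) (U.presheaf.stalk u)) :=
    inferInstanceAs (IsLocalHom (g.stalkMap u).hom)
  exact Algebra.FormallyUnramified.map_maximalIdeal

omit [LocallyOfFiniteType f] in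
theorem isNodeHom_congr {A B A' B' : Type u} [CommRing A] [IsLocalRing A] [CommRing B] [IsLocalRing B]
    [CommRing A'] [IsLocalRing A'] [CommRing B'] [IsLocalRing B'] (φ : A →+* B) [IsLocalHom φ]
    (φ' : A' →+* B') [IsLocalHom φ'] (eA : A' ≃+* A) (eB : B ≃+* B')
    (h : φ' = eB.toRingHom.comp (φ.comp eA.toRingHom)) (hn : IsNodeHom φ) : IsNodeHom φ' := by
  obtain ⟨⟨hf, hs⟩, O, _, _, χ, hχ, hk, hd⟩ := hn
  letI := (ResidueField.map φ).toAlgebra
  letI := (ResidueField.map φ').toAlgebra
  haveI := hf
  haveI := hs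
  subst h
  have he : (algebraMap (ResidueField A') (ResidueField B')).comp (ResidueField.mapEquiv eA).symm.toRingHom =
      (ResidueField.mapEquiv eB).toRingHom.comp (algebraMap (ResidueField A) (ResidueField B)) :=
    Ideal.Quotient.ringHom_ext (RingHom.ext fun z => by
      show residue B' (eB (φ (eA (eA.symm z)))) = residue B' (eB (φ z))
      rw [eA.apply_symm_apply])
  refine ⟨⟨Module.Finite.of_equiv_equiv (ResidueField.mapEquiv eA).symm (ResidueField.mapEquiv eB) he,
    Algebra.IsSeparable.of_equiv_equiv (ResidueField.mapEquiv eA).symm (ResidueField.mapEquiv eB) he⟩,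
    O, inferInstance, inferInstance, χ.comp eB.symm.toRingHom, hχ.comp eB.symm.surjective, ?_, hd⟩
  have hA : (maximalIdeal A').map eA.toRingHom = maximalIdeal A :=
    IsLocalRing.map_maximalIdeal_of_surjective eA.toRingHom eA.surjective
  rw [← RingHom.comap_ker, hk, ← Ideal.map_map, ← Ideal.map_map, hA]
  exact Ideal.comap_symm eB

theorem isOpenImmersion_away {W : Type u} [CommRing W] (r : W) :
    IsOpenImmersion (Spec.map (CommRingCat.ofHom (algebraMap W (Localization.Away r)))) :=
  IsOpenImmersion.of_isLocalization r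

omit [LocallyOfFiniteType f] in
theorem isNodeHom_congr' {A B A' B' : CommRingCat.{u}} [IsLocalRing A] [IsLocalRing B] [IsLocalRing A'] [IsLocalRing B']
    (φ : A ⟶ B) [IsLocalHom φ.hom] (φ' : A' ⟶ B') [IsLocalHom φ'.hom] (eA : A' ≅ A) (eB : B ≅ B')
    (h : φ' = eA.hom ≫ φ ≫ eB.hom) (hn : IsNodeHom φ.hom) : IsNodeHom φ'.hom :=
  isNodeHom_congr φ.hom φ'.hom eA.commRingCatIsoToRingEquiv eB.commRingCatIsoToRingEquiv
    (congrArg CommRingCat.Hom.hom h) hn


omit [LocallyOfFiniteType f] in
theorem isNodeHom_spec {R W : CommRingCat.{u}} (j : R ⟶ W) (x : Spec W)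
    (h : IsNodeHom (Localization.localRingHom ((PrimeSpectrum.comap j.hom x).asIdeal) x.asIdeal j.hom rfl)) :
    IsNodeHom ((Spec.map j).stalkMap x).hom :=
  @isNodeHom_congr' _ _ _ _ _ _ _ _
    (CommRingCat.ofHom (Localization.localRingHom ((PrimeSpectrum.comap j.hom x).asIdeal) x.asIdeal j.hom rfl))
    (Localization.isLocalHom_localRingHom _ _ _ rfl) _ _ (Spec.stalkIso R _) (Spec.stalkIso W x).symm
    (Scheme.localRingHom_comp_stalkIso j x).symm h

omit [LocallyOfFiniteType f] in
theorem locallyOfFiniteType_node {C W : CommRingCat.{u}} (π : MvPolynomial (Fin 2) C →+* W)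
    (hπ : Function.Surjective π) (j : C ⟶ W) (hj : j.hom = π.comp MvPolynomial.C) :
    LocallyOfFiniteType (Spec.map j) := by
  rw [HasRingHomProperty.Spec_iff (P := @LocallyOfFiniteType), hj]
  exact (RingHom.FiniteType.of_surjective _ hπ).comp
    (RingHom.finiteType_algebraMap.2 (inferInstance : Algebra.FiniteType C (MvPolynomial (Fin 2) C)))

omit [LocallyOfFiniteType f] in
theorem smooth_of_image {X S : Scheme.{u}} (f : X ⟶ S) [Flat f] [LocallyOfFinitePresentation f] {U : Scheme.{u}}
    (h : U ⟶ X) [Etale h] (hs : Smooth (h ≫ f)) (x' : U) :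
    ∃ V : X.Opens, h x' ∈ V ∧ Smooth (V.ι ≫ f) := by
  let O : X.Opens := ⟨Set.range h, h.isOpenMap.isOpen_range⟩
  let L : U ⟶ O.toScheme := IsOpenImmersion.lift O.ι h (by rw [Scheme.Opens.range_ι]; exact subset_rfl)
  have hL : L ≫ O.ι = h := IsOpenImmersion.lift_fac _ _ _
  haveI : Etale (L ≫ O.ι) := by rw [hL]; infer_instance
  haveI : Etale L := Etale.of_comp L O.ι
  haveI : Surjective L := ⟨fun z => by
    obtain ⟨u, hu⟩ := z.2
    exact ⟨u, O.ι.isOpenEmbedding.injective ((congrArg (fun m => m.base u) hL).trans hu)⟩⟩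
  refine ⟨O, ⟨x', rfl⟩, AlgSpLib.smooth_of_comp_fppf L (O.ι ≫ f) ?_⟩
  rw [← Category.assoc, hL]
  exact hs

omit [LocallyOfFiniteType f] in
theorem isNodeHom_model' {C : Type u} [CommRing C] (a : C) {W : Type u} [CommRing W]
    (π : MvPolynomial (Fin 2) C →+* W) (hπ : Function.Surjective π) (hker : RingHom.ker π = nodeIdeal a)
    (j : C →+* W) (hj : j = π.comp MvPolynomial.C)
    (w : Ideal W) [w.IsPrime] (hX : ∀ i, π (MvPolynomial.X i) ∈ w) (P : Ideal C) [P.IsPrime]
    (hP : P = w.comap j) :
    IsNodeHom (Localization.localRingHom P w j hP) := by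
  subst hj
  exact isNodeHom_model a π hπ hker w hX P hP

/-- The chart at a node consists of smooth points and nodes. -/
theorem forall_mem_of_chart [Flat f] [LocallyOfFinitePresentation f] {C W : CommRingCat.{u}} (a : C)
    (π : MvPolynomial (Fin 2) C →+* W) (hπ : Function.Surjective π) (hker : RingHom.ker π = nodeIdeal a)
    (j : C ⟶ W) (hj : j.hom = π.comp MvPolynomial.C)
    {U : Scheme.{u}} (gU : U ⟶ X) (gV : Spec C ⟶ S) (g : U ⟶ Spec W) [Etale gU] [Etale gV] [Etale g]
    (hcomm : gU ≫ f = g ≫ Spec.map j ≫ gV) (x' : U) :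
    (∃ V : X.Opens, gU x' ∈ V ∧ Smooth (V.ι ≫ f)) ∨ IsNodeHom (f.stalkMap (gU x')).hom := by
  let q := Spec.map j
  by_cases hX : ∀ i, π (MvPolynomial.X i) ∈ (g x').asIdeal
  · right
    have hmodel : IsNodeHom (q.stalkMap (g x')).hom := by
      exact isNodeHom_spec j (g x') (isNodeHom_model' a π hπ hker j.hom hj (g x').asIdeal hX _ rfl)
    obtain ⟨hgf, hgm, hgfin, hgsep⟩ := etale_stalk_facts g x'
    haveI : LocallyOfFiniteType q := locallyOfFiniteType_node π hπ j hj
    haveI := isNoetherianRing_fibre_stalk q (g x')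
    haveI := isNoetherianRing_fibre_comp q g x'
    have h1 : IsNodeHom ((g.stalkMap x').hom.comp (q.stalkMap (g x')).hom) :=
      (isNodeHom_comp_etale _ _ hgf hgm hgfin hgsep).2 hmodel
    obtain ⟨-, hVm, hVfin, hVsep⟩ := etale_stalk_facts gV (q (g x'))
    have h2 := (isNodeHom_comp_unramified (gV.stalkMap (q (g x'))).hom
      ((g.stalkMap x').hom.comp (q.stalkMap (g x')).hom) hVm hVfin hVsep).2 h1
    have h4 : IsNodeHom (((g ≫ q) ≫ gV).stalkMap x').hom := by
      refine (isNodeHom_stalkMap_comp gV (g ≫ q) x').2 ?_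
      simp only [Scheme.Hom.stalkMap_comp]
      exact h2
    have key : ∀ (F G : U ⟶ S), F = G → IsNodeHom (F.stalkMap x').hom → IsNodeHom (G.stalkMap x').hom := by
      rintro F G rfl h; exact h
    have h5 := key _ _ ((Category.assoc g q gV).trans hcomm.symm) h4
    obtain ⟨hUf, hUm, hUfin, hUsep⟩ := etale_stalk_facts gU x'
    haveI := isNoetherianRing_fibre_stalk f (gU x')
    haveI := isNoetherianRing_fibre_comp f gU x'
    exact (isNodeHom_comp_etale _ _ hUf hUm hUfin hUsep).1 ((isNodeHom_stalkMap_comp f gU x').1 h5)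
  · left
    push Not at hX
    obtain ⟨i, hi⟩ := hX
    let k : Spec (CommRingCat.of (Localization.Away (π (MvPolynomial.X i)))) ⟶ Spec W :=
      Spec.map (CommRingCat.ofHom (algebraMap W (Localization.Away (π (MvPolynomial.X i)))))
    haveI : IsOpenImmersion k := isOpenImmersion_away (π (MvPolynomial.X i))
    haveI hkq : Smooth (k ≫ q) := by
      show Smooth (Spec.map _ ≫ Spec.map _)
      rw [← Spec.map_comp, HasRingHomProperty.Spec_iff (P := @Smooth), CommRingCat.hom_comp, CommRingCat.hom_ofHom, hj]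
      exact smooth_away_node a π hπ hker i
    haveI : Smooth (k.opensRange.ι ≫ q) := by
      rw [← k.isoOpensRange_inv_comp, Category.assoc]
      infer_instance
    have hxk : g x' ∈ k.opensRange := by
      show g x' ∈ Set.range k
      rw [show Set.range k = _ from PrimeSpectrum.localization_away_comap_range _ (π (MvPolynomial.X i))]
      exact hi
    let U₀ : U.Opens := g ⁻¹ᵁ k.opensRange
    haveI : Etale (g ∣_ k.opensRange) := IsZariskiLocalAtTarget.restrict ‹Etale g› _
    have e : (U₀.ι ≫ gU) ≫ f = (g ∣_ k.opensRange) ≫ (k.opensRange.ι ≫ q) ≫ gV := by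
      simp only [U₀, q, Category.assoc, hcomm, morphismRestrict_ι_assoc]
    exact smooth_of_image f (U₀.ι ≫ gU) (by rw [e]; infer_instance) ⟨x', hxk⟩

end Groth.Agent.NodeLib7
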