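import Groth.Agent.NodeLib7.Geometric
import Mathlib.RingTheory.Kaehler.Basic
import Mathlib.Algebra.DualNumber

/-!
# A base change of a field has no nodes
-/

set_option autoImplicit false
set_option linter.style.haveILetI false

universe u

open IsLocalRing TensorProduct TrivSqZeroExt

namespace Groth.Agent.NodeLib7

section Extend

variable {k A K S R : Type u} [Field k] [CommRing A] [Algebra k A] [Field K] [Algebra k K]
  [CommRing S] [CommRing R] (M : Submonoid (A ⊗[k] K)) [Algebra (A ⊗[k] K) S] [IsLocalization M S]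

include M in
/-- A derivation of `A` with values in a localization of `A ⊗ K` extends, killing `K`. -/
theorem exists_extend [Algebra k S] [IsScalarTower k (A ⊗[k] K) S] [Algebra A S]
    [IsScalarTower A (A ⊗[k] K) S] (DA : Derivation k A S)
    (hsmul : ∀ r : A, algebraMap A S r = algebraMap (A ⊗[k] K) S (r ⊗ₜ[k] 1)) :
    ∃ D : S → S, (∀ z w, D (z + w) = D z + D w) ∧ (∀ z w, D (z * w) = z * D w + w * D z) ∧
      (∀ a : A, D (algebraMap (A ⊗[k] K) S (a ⊗ₜ[k] 1)) = DA a) ∧
      ∀ c : K, D (algebraMap (A ⊗[k] K) S ((1 : A) ⊗ₜ[k] c)) = 0 := by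
  let f : A →+* S := (algebraMap (A ⊗[k] K) S).comp
    (Algebra.TensorProduct.includeLeft : A →ₐ[k] A ⊗[k] K).toRingHom
  let g : K →+* S := (algebraMap (A ⊗[k] K) S).comp
    (Algebra.TensorProduct.includeRight : K →ₐ[k] A ⊗[k] K).toRingHom
  have hf : ∀ t : k, f (algebraMap k A t) = algebraMap k S t := fun t => by
    rw [IsScalarTower.algebraMap_apply k (A ⊗[k] K) S]
    exact congrArg (algebraMap (A ⊗[k] K) S) ((Algebra.TensorProduct.includeLeft : A →ₐ[k] A ⊗[k] K).commutes t)
  have hg : ∀ t : k, g (algebraMap k K t) = algebraMap k S t := fun t => by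
    rw [IsScalarTower.algebraMap_apply k (A ⊗[k] K) S]
    exact congrArg (algebraMap (A ⊗[k] K) S) ((Algebra.TensorProduct.includeRight : K →ₐ[k] A ⊗[k] K).commutes t)
  have hleib : ∀ a a', DA (a * a') = f a * DA a' + f a' * DA a := fun a a' => by
    rw [DA.leibniz, Algebra.smul_def, Algebra.smul_def, hsmul, hsmul]
    rfl
  let EA : A →ₐ[k] DualNumber S :=
    { toFun := fun a => inl (f a) + inr (DA a)
      map_one' := TrivSqZeroExt.ext (by simp) (by simp)
      map_mul' := fun a a' => TrivSqZeroExt.ext (by simp) (by simp [hleib]; ring)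
      map_zero' := TrivSqZeroExt.ext (by simp) (by simp)
      map_add' := fun a a' => TrivSqZeroExt.ext (by simp) (by simp)
      commutes' := fun t => TrivSqZeroExt.ext (by simp [algebraMap_eq_inl', hf]) (by simp [algebraMap_eq_inl']) }
  let EK : K →ₐ[k] DualNumber S :=
    { toRingHom := (inlHom S S).comp g
      commutes' := fun t => TrivSqZeroExt.ext (by simp [algebraMap_eq_inl', hg]) (by simp [algebraMap_eq_inl']) }
  let ET : A ⊗[k] K →ₐ[k] DualNumber S := Algebra.TensorProduct.lift EA EK fun _ _ => Commute.all _ _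
  have hfst : ∀ t, fst (ET t) = algebraMap (A ⊗[k] K) S t := fun t => by
    induction t using TensorProduct.induction_on with
    | zero => simp
    | add t t' ht ht' => simp [ht, ht']
    | tmul a c =>
      rw [Algebra.TensorProduct.lift_tmul, fst_mul, show a ⊗ₜ[k] c = (a ⊗ₜ[k] (1 : K)) * ((1 : A) ⊗ₜ[k] c) by
        rw [Algebra.TensorProduct.tmul_mul_tmul, mul_one, one_mul], map_mul]
      simp [EA, EK, f, g]
  have hunit : ∀ t : M, IsUnit (ET.toRingHom t) := fun t => by
    rw [isUnit_iff_isUnit_fst]
    show IsUnit (fst (ET t))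
    rw [hfst]
    exact IsLocalization.map_units S t
  let E : S →+* DualNumber S := IsLocalization.lift hunit
  have hE : ∀ t, E (algebraMap (A ⊗[k] K) S t) = ET t := fun t => IsLocalization.lift_eq hunit t
  have hEfst : ∀ z, fst (E z) = z := fun z => by
    have : (fstHom S S S).toRingHom.comp E = RingHom.id S := IsLocalization.ringHom_ext M
      (RingHom.ext fun t => by
        show fst (E (algebraMap (A ⊗[k] K) S t)) = algebraMap (A ⊗[k] K) S t
        rw [hE, hfst])
    exact RingHom.congr_fun this z
  refine ⟨fun z => snd (E z), fun z w => by simp, fun z w => by simp [hEfst]; ring, fun a => ?_, fun c => ?_⟩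
  · show snd (E _) = _
    rw [hE, Algebra.TensorProduct.lift_tmul, map_one, mul_one]
    simp [EA]
  · show snd (E _) = _
    rw [hE, Algebra.TensorProduct.lift_tmul, map_one, one_mul]
    simp [EK]

include M in
/-- Twisted derivations agreeing on both tensor factors agree. -/
theorem eq_of_leibniz  (φ : S →+* R) (d d' : S → R) (hadd : ∀ z w, d (z + w) = d z + d w)
    (hmul : ∀ z w, d (z * w) = φ z * d w + φ w * d z) (hadd' : ∀ z w, d' (z + w) = d' z + d' w)
    (hmul' : ∀ z w, d' (z * w) = φ z * d' w + φ w * d' z)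
    (hA : ∀ a : A, d (algebraMap (A ⊗[k] K) S (a ⊗ₜ[k] 1)) = d' (algebraMap (A ⊗[k] K) S (a ⊗ₜ[k] 1)))
    (hK : ∀ c : K, d (algebraMap (A ⊗[k] K) S ((1 : A) ⊗ₜ[k] c)) = d' (algebraMap (A ⊗[k] K) S ((1 : A) ⊗ₜ[k] c)))
    (z : S) : d z = d' z := by
  have hT : ∀ t, d (algebraMap (A ⊗[k] K) S t) = d' (algebraMap (A ⊗[k] K) S t) := fun t => by
    induction t using TensorProduct.induction_on with
    | zero =>
      have h0 := hadd 0 0
      have h0' := hadd' 0 0
      rw [add_zero] at h0 h0'
      rw [map_zero]
      exact (left_eq_add.1 h0).trans (left_eq_add.1 h0').symm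
    | add t t' ht ht' => rw [map_add, hadd, hadd', ht, ht']
    | tmul a c =>
      rw [show a ⊗ₜ[k] c = (a ⊗ₜ[k] (1 : K)) * ((1 : A) ⊗ₜ[k] c) by
        rw [Algebra.TensorProduct.tmul_mul_tmul, mul_one, one_mul], map_mul, hmul, hmul', hA, hK]
  obtain ⟨t, s, rfl⟩ := IsLocalization.exists_mk'_eq M z
  have h1 := hmul (IsLocalization.mk' S t s) (algebraMap _ S (s : A ⊗[k] K))
  have h2 := hmul' (IsLocalization.mk' S t s) (algebraMap _ S (s : A ⊗[k] K))
  rw [IsLocalization.mk'_spec, hT t, hT s] at h1
  rw [IsLocalization.mk'_spec] at h2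
  refine ((IsLocalization.map_units S s).map φ).mul_left_cancel ?_
  linear_combination h2 - h1

end Extend

variable {k A K : Type u} [Field k] [Field A] [Algebra k A] [Field K] [Algebra k K]
  (P : Ideal (A ⊗[k] K)) [P.IsPrime]

/-- Local rings of the base change of a field extension at rational points satisfy no nondegenerate
quadratic relation. -/
theorem not_nodeData_of_field {C : Type u} [CommRing C] [IsLocalRing C] [Algebra (A ⊗[k] K) C]
    [IsLocalization P.primeCompl C] [Algebra A C] [IsScalarTower A (A ⊗[k] K) C] [Algebra k C]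
    [IsScalarTower k (A ⊗[k] K) C] [IsScalarTower k A C]
    (hres : Function.Bijective ((residue C).comp ((algebraMap (A ⊗[k] K) C).comp
      (Algebra.TensorProduct.includeRight : K →ₐ[k] A ⊗[k] K).toRingHom)))
    {x y a b c : C} (h : NodeData C x y a b c) : False := by
  classical
  let j : K →+* C := (algebraMap (A ⊗[k] K) C).comp (Algebra.TensorProduct.includeRight : K →ₐ[k] A ⊗[k] K).toRingHom
  have hxm : x ∈ maximalIdeal C := h.span ▸ Ideal.subset_span (by simp)
  have hym : y ∈ maximalIdeal C := h.span ▸ Ideal.subset_span (by simp)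
  -- the coefficient of `x`
  have hex : ∀ z : C, ∃ (ω : K) (r s : C), z = j ω + r * x + s * y := fun z => by
    obtain ⟨ω, hω⟩ := hres.2 (residue C z)
    have hm : z - j ω ∈ maximalIdeal C := by
      rw [← residue_eq_zero_iff, map_sub, sub_eq_zero]; exact hω.symm
    obtain ⟨r, s, hrs⟩ := Ideal.mem_span_pair.1 (h.span.symm ▸ hm)
    exact ⟨ω, r, s, by linear_combination -hrs⟩
  choose ω r s hz using hex
  let δ : C → ResidueField C := fun z => residue C (r z)
  have huniq : ∀ (z : C) (ω' : K) (r' s' : C), z - (j ω' + r' * x + s' * y) ∈ maximalIdeal C ^ 2 →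
      δ z = residue C r' := by
    intro z ω' r' s' hz'
    have hω : ω z = ω' := by
      refine hres.1 ?_
      show residue C (j (ω z)) = residue C (j ω')
      rw [← sub_eq_zero, ← map_sub, residue_eq_zero_iff,
        show j (ω z) - j ω' = (z - (j ω' + r' * x + s' * y)) - (r z - r') * x - (s z - s') * y by
          linear_combination -(hz z)]
      exact sub_mem (sub_mem (Ideal.pow_le_self two_ne_zero hz') (Ideal.mul_mem_left _ _ hxm))
        (Ideal.mul_mem_left _ _ hym)
    rw [← sub_eq_zero, ← map_sub, residue_eq_zero_iff]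
    refine (h.indep (r z - r') (s z - s') ?_).1
    rwa [show (r z - r') * x + (s z - s') * y = z - (j ω' + r' * x + s' * y) by
      rw [← hω]; linear_combination -(hz z)]
  have hδadd : ∀ z w, δ (z + w) = δ z + δ w := fun z w => by
    rw [huniq (z + w) (ω z + ω w) (r z + r w) (s z + s w) (by
      rw [map_add, show z + w - (j (ω z) + j (ω w) + (r z + r w) * x + (s z + s w) * y) = 0 by
        linear_combination hz z + hz w]
      exact zero_mem _), map_add]
  have hδj : ∀ c : K, δ (j c) = 0 := fun c => by
    rw [huniq (j c) c 0 0 (by simp), map_zero]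
  have hres' : ∀ z, residue C z = residue C (j (ω z)) := fun z => by
    rw [← sub_eq_zero, ← map_sub, residue_eq_zero_iff,
      show z - j (ω z) = r z * x + s z * y by linear_combination hz z]
    exact add_mem (Ideal.mul_mem_left _ _ hxm) (Ideal.mul_mem_left _ _ hym)
  have hδmul : ∀ z w, δ (z * w) = residue C z * δ w + residue C w * δ z := fun z w => by
    rw [huniq (z * w) (ω z * ω w) (j (ω z) * r w + j (ω w) * r z) (j (ω z) * s w + j (ω w) * s z) (by
      rw [map_mul, show z * w - (j (ω z) * j (ω w) + (j (ω z) * r w + j (ω w) * r z) * x +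
        (j (ω z) * s w + j (ω w) * s z) * y) = (r z * x + s z * y) * (r w * x + s w * y) by
        linear_combination w * hz z + (j (ω z) + r z * x + s z * y) * hz w]
      rw [pow_two]
      exact Ideal.mul_mem_mul (add_mem (Ideal.mul_mem_left _ _ hxm) (Ideal.mul_mem_left _ _ hym))
        (add_mem (Ideal.mul_mem_left _ _ hxm) (Ideal.mul_mem_left _ _ hym))), map_add, map_mul, map_mul, hres' z,
      hres' w]
  have hkC : ∀ t : k, algebraMap A C (algebraMap k A t) = j (algebraMap k K t) := fun t => by
    rw [IsScalarTower.algebraMap_apply A (A ⊗[k] K) C]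
    refine congrArg (algebraMap (A ⊗[k] K) C) ?_
    exact ((Algebra.TensorProduct.includeLeft : A →ₐ[k] A ⊗[k] K).commutes t).trans
      ((Algebra.TensorProduct.includeRight : K →ₐ[k] A ⊗[k] K).commutes t).symm
  -- the derivation downstairs
  haveI : IsScalarTower k A (ResidueField C) := inferInstance
  have hkC' : ∀ t : k, algebraMap k C t = j (algebraMap k K t) := fun t =>
    (IsScalarTower.algebraMap_apply k A C t).trans (hkC t)
  let δA : Derivation k A (ResidueField C) :=
    { toFun := fun a => δ (algebraMap A C a)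
      map_add' := fun a a' => by rw [map_add, hδadd]
      map_smul' := fun t a => by
        show δ (algebraMap A C (t • a)) = t • δ (algebraMap A C a)
        rw [Algebra.smul_def, map_mul, hδmul, hkC, hδj, mul_zero, add_zero, Algebra.smul_def,
          IsScalarTower.algebraMap_apply k C (ResidueField C), hkC', ResidueField.algebraMap_eq]
      map_one_eq_zero' := by
        show δ (algebraMap A C 1) = 0
        rw [map_one, ← map_one j, hδj]
      leibniz' := fun a a' => by
        show δ (algebraMap A C (a * a')) = a • δ (algebraMap A C a') + a' • δ (algebraMap A C a)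
        rw [map_mul, hδmul, Algebra.smul_def, Algebra.smul_def]
        rfl }
  let π : C →ₗ[A] ResidueField C := (IsScalarTower.toAlgHom A C (ResidueField C)).toLinearMap
  obtain ⟨L, hL⟩ := Module.projective_lifting_property π δA.liftKaehlerDifferential residue_surjective
  let DA : Derivation k A C := L.compDer (KaehlerDifferential.D k A)
  have hDA : ∀ a, residue C (DA a) = δ (algebraMap A C a) := fun a =>
    (LinearMap.congr_fun hL _).trans (δA.liftKaehlerDifferential_comp_D a)
  -- the extended derivation
  obtain ⟨D, hDadd, hDmul, hDA', hDj⟩ := exists_extend P.primeCompl (S := C) DA (fun _ => IsScalarTower.algebraMap_apply A (A ⊗[k] K) C _)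
  have hDres : ∀ z, residue C (D z) = δ z := by
    refine eq_of_leibniz P.primeCompl (S := C) (residue C) (fun z => residue C (D z)) δ ?_ ?_ hδadd hδmul ?_ ?_
    · exact fun z w => by simp only [hDadd, map_add]
    · exact fun z w => by simp only [hDmul, map_add, map_mul]
    · intro a
      show residue C (D (algebraMap (A ⊗[k] K) C (a ⊗ₜ[k] 1))) = δ (algebraMap (A ⊗[k] K) C (a ⊗ₜ[k] 1))
      rw [hDA', hDA]
      exact congrArg δ (IsScalarTower.algebraMap_apply A (A ⊗[k] K) C a)
    · intro c
      show residue C (D (j c)) = δ (j c)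
      rw [hδj]
      exact (congrArg (residue C) (hDj c)).trans (map_zero _)
  have hDpow : ∀ n : ℕ, ∀ z ∈ maximalIdeal C ^ (n + 1), D z ∈ maximalIdeal C ^ n := by
    intro n
    induction n with
    | zero => simp
    | succ n ih =>
      intro z hz'
      rw [pow_succ'] at hz'
      refine Submodule.mul_induction_on hz' (fun m hm w hw => ?_) fun u v hu hv => hDadd u v ▸ add_mem hu hv
      rw [hDmul]
      refine add_mem ?_ (Ideal.mul_mem_right _ _ hw)
      rw [pow_succ']; exact Ideal.mul_mem_mul hm (ih w hw)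
  have hDx : D x - 1 ∈ maximalIdeal C := by
    rw [← residue_eq_zero_iff, map_sub, map_one, sub_eq_zero, hDres, huniq x 0 1 0 (by simp), map_one]
  have hDy : D y ∈ maximalIdeal C := by
    rw [← residue_eq_zero_iff, hDres, huniq y 0 0 1 (by simp), map_zero]
  have hkey : (2 * a) * x + b * y ∈ maximalIdeal C ^ 2 := by
    have h3 := hDpow 2 _ h.rel
    have hexp : D (a * x ^ 2 + b * x * y + c * y ^ 2) = (D a * (x * x) + D b * (x * y) + D c * (y * y)) +
        ((2 * a * x + b * y) * (D x - 1) + (b * x + 2 * c * y) * D y) + ((2 * a) * x + b * y) := by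
      simp only [hDadd, hDmul, pow_two]; ring
    rw [hexp] at h3
    refine (Submodule.add_mem_iff_right _ ?_).1 h3
    rw [pow_two]
    exact add_mem (add_mem (add_mem (Ideal.mul_mem_left _ _ (Ideal.mul_mem_mul hxm hxm))
      (Ideal.mul_mem_left _ _ (Ideal.mul_mem_mul hxm hym))) (Ideal.mul_mem_left _ _ (Ideal.mul_mem_mul hym hym)))
      (add_mem (Ideal.mul_mem_mul (add_mem (Ideal.mul_mem_left _ _ hxm) (Ideal.mul_mem_left _ _ hym)) hDx)
        (Ideal.mul_mem_mul (add_mem (Ideal.mul_mem_left _ _ hxm) (Ideal.mul_mem_left _ _ hym)) hDy))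
  obtain ⟨h2a, hb⟩ := h.indep _ _ hkey
  refine h.disc ((residue_eq_zero_iff _).2 ?_)
  rw [show 4 * a * c - b ^ 2 = (2 * a) * (2 * c) - b * b by ring]
  exact sub_mem (Ideal.mul_mem_right _ _ h2a) (Ideal.mul_mem_right _ _ hb)

end Groth.Agent.NodeLib7
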