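import Groth.Agent.NodeLib7.Point
import Groth.Agent.NodeLib7.FieldFibre
import Groth.Agent.CurvesLib24.Basic
import Groth.Agent.VarietyLib.FieldDescent

/-!
# Nodes and arbitrary extensions of the base field
-/

set_option autoImplicit false
set_option backward.isDefEq.respectTransparency false
set_option linter.style.haveILetI false

universe u

open IsLocalRing TensorProduct

namespace Groth.Agent.NodeLib7

open EGA43.DeltaBaseChange

variable {k : Type u} [Field k] {A : Type u} [CommRing A] [IsLocalRing A] [Algebra k A]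
  [Module.Finite k (ResidueField A)] {Ω : Type u} [Field Ω] [Algebra k Ω] [IsAlgClosed Ω]
  (P : Ideal (A ⊗[k] Ω)) [P.IsPrime] (hP : P.comap (algebraMap A (A ⊗[k] Ω)) = maximalIdeal A)

include hP in
/-- Descent of nodes from an arbitrary algebraically closed extension. -/
theorem exists_nodeData_of_big [IsNoetherianRing A] [IsNoetherianRing (Localization.AtPrime P)]
    (e : AdicCompletion (maximalIdeal (Localization.AtPrime P)) (Localization.AtPrime P) ≃+*
        (MvPowerSeries (Fin 2) Ω ⧸ Ideal.span {(MvPowerSeries.X 0 * MvPowerSeries.X 1 : MvPowerSeries (Fin 2) Ω)})) :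
    Algebra.IsSeparable k (ResidueField A) ∧ _root_.IsReduced A ∧ ∃ x y a b c : A, NodeData A x y a b c := by
  let K := AlgebraicClosure k
  let ι : K →ₐ[k] Ω := IsAlgClosed.lift
  let η : A ⊗[k] K →ₐ[k] A ⊗[k] Ω := Algebra.TensorProduct.map (AlgHom.id k A) ι
  let P₀ : Ideal (A ⊗[k] K) := P.comap η.toRingHom
  have hP₀ : P₀.comap (algebraMap A (A ⊗[k] K)) = maximalIdeal A := by
    rw [← hP]; ext a
    show η (a ⊗ₜ[k] (1 : K)) ∈ P ↔ a ⊗ₜ[k] (1 : Ω) ∈ P
    simp [η]
  let B₀ := Localization.AtPrime P₀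
  let C := Localization.AtPrime P
  let θ : B₀ →+* C := Localization.localRingHom P₀ P η.toRingHom rfl
  have hηflat : η.toRingHom.Flat := by
    letI := ι.toRingHom.toAlgebra
    haveI : IsScalarTower k K Ω := IsScalarTower.of_algebraMap_eq fun t => (ι.commutes t).symm
    let e₁ := (Algebra.TensorProduct.comm k A K).toRingEquiv
    let e₂ := ((Algebra.TensorProduct.cancelBaseChange k K K Ω A).restrictScalars k).trans
      (Algebra.TensorProduct.comm k Ω A)
    let incl : (K ⊗[k] A) →+* Ω ⊗[K] (K ⊗[k] A) :=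
      (Algebra.TensorProduct.includeRight : (K ⊗[k] A) →ₐ[K] Ω ⊗[K] (K ⊗[k] A)).toRingHom
    have hincl : incl.Flat := by
      have h1 : (algebraMap (K ⊗[k] A) ((K ⊗[k] A) ⊗[K] Ω)).Flat := by
        rw [RingHom.flat_algebraMap_iff]; infer_instance
      have h2 := h1.comp (RingHom.Flat.of_bijective
        (f := (Algebra.TensorProduct.comm K (K ⊗[k] A) Ω).toRingEquiv.toRingHom)
        (Algebra.TensorProduct.comm K (K ⊗[k] A) Ω).bijective)
      exact h2
    have he : η.toRingHom = (e₂.toRingEquiv.toRingHom.comp incl).comp e₁.toRingHom := by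
      refine RingHom.ext fun z => ?_
      induction z using TensorProduct.induction_on with
      | zero => simp
      | add z z' hz hz' => rw [map_add, map_add, hz, hz']
      | tmul a l =>
        show η (a ⊗ₜ[k] l) = e₂ ((1 : Ω) ⊗ₜ[K] (l ⊗ₜ[k] a))
        simp [η, e₂, Algebra.smul_def]
        rfl
    rw [he]
    exact (RingHom.Flat.of_bijective e₁.bijective).comp
      (hincl.comp (RingHom.Flat.of_bijective e₂.toRingEquiv.bijective))
  letI : Algebra B₀ C := θ.toAlgebra
  haveI : Module.Flat B₀ C := RingHom.Flat.localRingHom hηflat P P₀ rfl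
  haveI : IsLocalHom (algebraMap B₀ C) := Localization.isLocalHom_localRingHom P₀ P η.toRingHom rfl
  haveI : Module.FaithfullyFlat B₀ C := Module.FaithfullyFlat.of_flat_of_isLocalHom
  haveI : IsNoetherianRing B₀ := HenselLib.isNoetherianRing_of_faithfullyFlat B₀ C
  obtain ⟨ψ, hψ, hψ1⟩ := exists_proj P hP
  obtain ⟨ψ₀, hψ₀, hψ₀1⟩ := exists_proj P₀ hP₀
  have hm : (maximalIdeal B₀).map (algebraMap B₀ C) = maximalIdeal C := by
    refine le_antisymm (map_maximalIdeal_le _) ?_
    rw [← IsLocalization.AtPrime.map_eq_maximalIdeal P C, ← IsLocalization.AtPrime.map_eq_maximalIdeal P₀ B₀,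
      Ideal.map_map, RingHom.algebraMap_toAlgebra,
      show θ.comp (algebraMap (A ⊗[k] K) B₀) = (algebraMap (A ⊗[k] Ω) C).comp η.toRingHom from
        RingHom.ext (Localization.localRingHom_to_map P₀ P η.toRingHom rfl),
      ← Ideal.map_map]
    refine Ideal.map_mono fun t ht => ?_
    have key : ∀ t : A ⊗[k] Ω, t - (1 : A) ⊗ₜ[k] ψ t ∈ P₀.map η.toRingHom := by
      intro t
      induction t using TensorProduct.induction_on with
      | zero => simp
      | add t t' ht ht' =>
        rw [map_add, TensorProduct.tmul_add, add_sub_add_comm]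
        exact add_mem ht ht'
      | tmul a l =>
        have h1 : a ⊗ₜ[k] (1 : K) - (1 : A) ⊗ₜ[k] ψ₀ (a ⊗ₜ 1) ∈ P₀ := by
          rw [← hψ₀, map_sub, hψ₀1, sub_self]
        have h2 := Ideal.mul_mem_right ((1 : A) ⊗ₜ[k] l) _ (Ideal.mem_map_of_mem η.toRingHom h1)
        have h3 : ψ (a ⊗ₜ[k] (1 : Ω)) = ι (ψ₀ (a ⊗ₜ 1)) := by
          have h5 : η (a ⊗ₜ[k] (1 : K) - (1 : A) ⊗ₜ[k] ψ₀ (a ⊗ₜ 1)) ∈ P := h1
          rw [← hψ, map_sub, map_sub, sub_eq_zero] at h5
          simpa [η, hψ1] using h5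
        have h4 : ψ (a ⊗ₜ[k] l) = ι (ψ₀ (a ⊗ₜ 1)) * l := by
          rw [show a ⊗ₜ[k] l = (a ⊗ₜ[k] (1 : Ω)) * ((1 : A) ⊗ₜ[k] l) by
            rw [Algebra.TensorProduct.tmul_mul_tmul, mul_one, one_mul], map_mul, hψ1, h3]
        convert h2 using 1
        show _ = η (_ - _) * _
        simp [η, h4, sub_mul, Algebra.TensorProduct.tmul_mul_tmul]
    have := key t
    rwa [(hψ t).2 ht, TensorProduct.tmul_zero, sub_zero] at this
  have hq : Ideal.span {qf (0 : Ω) 1 0} =
      Ideal.span {(MvPowerSeries.X 0 * MvPowerSeries.X 1 : MvPowerSeries (Fin 2) Ω)} := by simp [qf]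
  let e' : AdicCompletion (maximalIdeal C) C ≃+* QQ (0 : Ω) 1 0 := e.trans (Ideal.quotEquivOfEq hq.symm)
  have hd : (4 : Ω) * 0 * 0 - 1 ^ 2 ≠ 0 := by simp
  obtain ⟨X', Y', a', b', c', hC⟩ := exists_nodeRel_of_completion hd e'
  haveI : _root_.IsReduced C := (nodeData_of_completion hd e').1
  obtain ⟨-, u, v, a, b, c, h₀⟩ := exists_nodeData_of_flat hC hm
  obtain ⟨e₀, -⟩ := exists_split_equiv _ (residue_bijective P₀ hP₀) h₀
  exact exists_nodeData_of_geometric P₀ hP₀ e₀

end Groth.Agent.NodeLib7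

namespace Groth.Agent.NodeLib7

open IsLocalRing TensorProduct

variable {k : Type u} [Field k] {A : Type u} [CommRing A] [IsLocalRing A] [Algebra k A]
  [Module.Finite k (ResidueField A)] [Algebra.IsSeparable k (ResidueField A)]
  {K : Type u} [Field K] [Algebra k K]
  (P : Ideal (A ⊗[k] K)) [P.IsPrime] (hP : P.comap (algebraMap A (A ⊗[k] K)) = maximalIdeal A)

include hP in
/-- Node data ascend along arbitrary extensions of the base field, keeping finite separable residue fields. -/
theorem nodeData_baseChange [IsNoetherianRing (Localization.AtPrime P)] :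
    letI : Algebra K (Localization.AtPrime P) := ((algebraMap (A ⊗[k] K) (Localization.AtPrime P)).comp
      (Algebra.TensorProduct.includeRight : K →ₐ[k] A ⊗[k] K).toRingHom).toAlgebra
    (Module.Finite K (ResidueField (Localization.AtPrime P)) ∧
      Algebra.IsSeparable K (ResidueField (Localization.AtPrime P))) ∧
    ∀ {x y a b c : A}, NodeData A x y a b c →
      ∃ x y a b c : Localization.AtPrime P, NodeData (Localization.AtPrime P) x y a b c := by
  haveI := EGA43.DeltaBaseChange.isLocalHom P hP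
  letI iK : Algebra K (Localization.AtPrime P) := ((algebraMap (A ⊗[k] K) (Localization.AtPrime P)).comp
    (Algebra.TensorProduct.includeRight : K →ₐ[k] A ⊗[k] K).toRingHom).toAlgebra
  let B := Localization.AtPrime P
  let T' := K ⊗[k] ResidueField A
  haveI := isReduced_tensor_of_isSeparable_left k (ResidueField A) K
  haveI : IsArtinianRing T' := IsArtinianRing.of_finite K T'
  let c₀ := (Algebra.TensorProduct.comm k (ResidueField A) K).toRingEquiv
  haveI : Ring.KrullDimLE 0 (ResidueField A ⊗[k] K) := by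
    rw [Ring.krullDimLE_iff, ringKrullDim_eq_of_ringEquiv c₀, ← Ring.krullDimLE_iff]
    infer_instance
  have hm : (maximalIdeal A).map (algebraMap A B) = maximalIdeal B := map_eq_maximalIdeal_of_dimZero P hP
  refine ⟨?_, fun h => ⟨_, _, _, _, _, h.map hm⟩⟩
  haveI : IsScalarTower k A B := inferInstance
  haveI : IsScalarTower k K B := IsScalarTower.of_algebraMap_eq fun t => by
    rw [IsScalarTower.algebraMap_apply k (A ⊗[k] K) B]
    show _ = algebraMap (A ⊗[k] K) B ((Algebra.TensorProduct.includeRight : K →ₐ[k] A ⊗[k] K) (algebraMap k K t))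
    rw [AlgHom.commutes]
  haveI : IsScalarTower k (ResidueField A) (ResidueField B) := IsScalarTower.of_algebraMap_eq fun t => by
    rw [IsScalarTower.algebraMap_apply k A (ResidueField A), ResidueField.algebraMap_eq,
      IsScalarTower.algebraMap_apply k B (ResidueField B), ResidueField.algebraMap_eq,
      IsScalarTower.algebraMap_apply k A B]
    rfl
  haveI : IsScalarTower k K (ResidueField B) := IsScalarTower.of_algebraMap_eq fun t => by
    rw [IsScalarTower.algebraMap_apply k B (ResidueField B), IsScalarTower.algebraMap_apply K B (ResidueField B),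
      IsScalarTower.algebraMap_apply k K B]
  let g : T' →ₐ[K] ResidueField B := Algebra.TensorProduct.lift (Algebra.ofId K (ResidueField B))
    (IsScalarTower.toAlgHom k (ResidueField A) (ResidueField B)) fun _ _ => Commute.all _ _
  have hgT : ∀ t : A ⊗[k] K, residue B (algebraMap (A ⊗[k] K) B t) ∈ g.range := by
    intro t
    induction t using TensorProduct.induction_on with
    | zero => simp
    | add t t' ht ht' => rw [map_add, map_add]; exact add_mem ht ht'
    | tmul a l =>
      refine ⟨l ⊗ₜ[k] residue A a, ?_⟩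
      show g (l ⊗ₜ[k] residue A a) = _
      rw [Algebra.TensorProduct.lift_tmul, show a ⊗ₜ[k] l = (a ⊗ₜ[k] (1 : K)) * ((1 : A) ⊗ₜ[k] l) by
        rw [Algebra.TensorProduct.tmul_mul_tmul, mul_one, one_mul], map_mul, map_mul, mul_comm]
      congr 1
  haveI : Module.Finite K g.range := Module.Finite.of_surjective g.rangeRestrict.toLinearMap g.rangeRestrict_surjective
  have hfield : IsField g.range := isField_of_isIntegral_of_isField' (R := K) (Field.toIsField K)
  have hsurj : Function.Surjective g := by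
    intro z
    obtain ⟨z, rfl⟩ := residue_surjective z
    obtain ⟨t, s, rfl⟩ := IsLocalization.exists_mk'_eq P.primeCompl z
    have hs : residue B (algebraMap (A ⊗[k] K) B (s : A ⊗[k] K)) ≠ 0 :=
      ((IsLocalization.map_units B s).map (residue B)).ne_zero
    obtain ⟨⟨si, hsi⟩, hsi1⟩ := hfield.mul_inv_cancel (a := (⟨_, hgT s⟩ : g.range))
      (fun h0 => hs (congrArg Subtype.val h0))
    have h1 : residue B (algebraMap (A ⊗[k] K) B (s : A ⊗[k] K)) * si = 1 := congrArg Subtype.val hsi1
    obtain ⟨w, hw⟩ := g.range.mul_mem (hgT t) hsi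
    refine ⟨w, hw.trans ?_⟩
    rw [← IsLocalization.mk'_spec B t s, map_mul, mul_assoc, h1, mul_one]
  haveI hfin : Module.Finite K (ResidueField B) := Module.Finite.of_surjective g.toLinearMap hsurj
  haveI : Algebra.FormallyUnramified k (ResidueField A) := Algebra.FormallyUnramified.of_isSeparable _ _
  haveI : Algebra.FormallyUnramified K (ResidueField B) := Algebra.FormallyUnramified.of_surjective g hsurj
  exact ⟨hfin, Algebra.FormallyUnramified.isSeparable _ _⟩

end Groth.Agent.NodeLib7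

namespace Groth.Agent.NodeLib7

open CategoryTheory CategoryTheory.Limits AlgebraicGeometry IsLocalRing TensorProduct

attribute [local instance] Curv2.stalkAlgebra Curv2.resAlgebra

variable (k : Type u) [Field k] (X : Scheme.{u}) [X.Over (Spec (CommRingCat.of k))]
  [LocallyOfFiniteType (X ↘ (Spec (CommRingCat.of k)))]

/-- On a curve, a point under a node over an algebraically closed field is closed. -/
theorem isClosed_of_ordDoublePt (hdim : topologicalKrullDim X ≤ 1) {Ω : Type u} [Field Ω] [IsAlgClosed Ω]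
    [Algebra k Ω] (z : ↥(Curv2.bc k X Ω))
    (h : @Curv2.IsOrdDoublePt Ω _ ((Curv2.bc k X Ω).presheaf.stalk z) _
      (@Curv2.stalkAlgebra Ω _ (Curv2.bc k X Ω) ⟨Curv2.bcSnd k X Ω⟩ z) _) :
    IsClosed ({(Curv2.bcFst k X Ω) z} : Set X) := by
  obtain ⟨f, hf⟩ := h
  obtain ⟨P, hPp, hP, hPn, e, he⟩ := exists_localization_compat k X Ω z
  generalize hx : (Curv2.bcFst k X Ω) z = x at P hPp hP hPn e he ⊢
  haveI := isNoetherianRing_stalk k X x
  haveI : IsNoetherianRing ((Curv2.bc k X Ω).presheaf.stalk z) := isNoetherianRing_of_ringEquiv _ e.symm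
  obtain ⟨E, hE⟩ := exists_completion_congr e
  let C := Localization.AtPrime P
  let F := E.symm.trans f
  by_contra hcl
  -- the local ring is a field
  haveI : Ring.KrullDimLE 0 (X.presheaf.stalk x) := by
    refine krullDimLE_of_coheight_le ?_
    rw [Nat.cast_zero, nonpos_iff_eq_zero, Order.coheight_eq_zero]
    intro y hy
    by_contra hyx
    obtain ⟨w, hw, hwx⟩ : ∃ w ∈ closure ({x} : Set X), w ≠ x := by
      by_contra h'
      push Not at h'
      exact hcl (closure_subset_iff_isClosed.mp fun w hw => h' w hw)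
    have h1 : w < x := lt_of_le_not_ge (specializes_iff_mem_closure.2 hw : x ⤳ w) fun h'' =>
      hwx (Specializes.antisymm h'' (specializes_iff_mem_closure.2 hw)).eq
    have h2 : x < y := lt_of_le_not_ge hy hyx
    have h3 : (2 : ℕ∞) ≤ Order.coheight w := by
      have h6 := Order.length_le_coheight (x := w) (p := RelSeries.fromListIsChain [w, x, y] (by simp)
        (by simp only [List.isChain_cons_cons, List.IsChain.singleton, and_true]; exact ⟨h1, h2⟩)) le_rfl
      exact h6
    have h4 := (CurvesLib24.stalk_dim_le_topologicalKrullDim w).trans hdim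
    rw [ringKrullDim_stalk_eq_coheight] at h4
    have h5 : Order.coheight w ≤ 1 := WithBot.coe_le_coe.1 h4
    exact absurd (h3.trans h5) (by decide)
  haveI := EGA43.DeltaBaseChange.isLocalHom P hP
  haveI : Module.FaithfullyFlat (X.presheaf.stalk x) C := Module.FaithfullyFlat.of_flat_of_isLocalHom
  have hq : Ideal.span {qf (0 : Ω) 1 0} =
      Ideal.span {(MvPowerSeries.X 0 * MvPowerSeries.X 1 : MvPowerSeries (Fin 2) Ω)} := by simp [qf]
  let F' : AdicCompletion (maximalIdeal C) C ≃+* QQ (0 : Ω) 1 0 := F.trans (Ideal.quotEquivOfEq hq.symm)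
  have hd : (4 : Ω) * 0 * 0 - 1 ^ 2 ≠ 0 := by simp
  obtain ⟨hred, u, v, a, b, c, hD, -⟩ := nodeData_of_completion hd F'
  haveI : _root_.IsReduced (X.presheaf.stalk x) :=
    isReduced_of_injective (algebraMap (X.presheaf.stalk x) C) (FaithfulSMul.algebraMap_injective _ _)
  haveI : IsArtinianRing (X.presheaf.stalk x) :=
    isArtinianRing_iff_isNoetherianRing_krullDimLE_zero.2 ⟨inferInstance, inferInstance⟩
  letI : Field (X.presheaf.stalk x) := (IsArtinianRing.isField_of_isReduced_of_isLocalRing _).toField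
  refine not_nodeData_of_field P ⟨RingHom.injective _, fun r => ?_⟩ hD
  -- the residue field is `Ω`
  obtain ⟨r, rfl⟩ := residue_surjective r
  obtain ⟨p, hp⟩ := Ideal.Quotient.mk_surjective (F (algebraMap C _ r))
  refine ⟨MvPowerSeries.constantCoeff p, ?_⟩
  let j : Ω → C := fun t => algebraMap (X.presheaf.stalk x ⊗[k] Ω) C
    ((Algebra.TensorProduct.includeRight : Ω →ₐ[k] X.presheaf.stalk x ⊗[k] Ω) t)
  show residue C (j (MvPowerSeries.constantCoeff p)) = _
  rw [← sub_eq_zero, ← map_sub, residue_eq_zero_iff]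
  by_contra hu
  have hu2 := ((IsLocalRing.notMem_maximalIdeal.1 hu).map (algebraMap C (AdicCompletion (maximalIdeal C) C))).map F
  have hF : ∀ t, F (algebraMap C _ (j t)) = Ideal.Quotient.mk _ (MvPowerSeries.C t) := fun t => by
    show f (E.symm (algebraMap (Localization.AtPrime P) _ (algebraMap (X.presheaf.stalk x ⊗[k] Ω) (Localization.AtPrime P)
      ((Algebra.TensorProduct.includeRight : Ω →ₐ[k] X.presheaf.stalk x ⊗[k] Ω) t)))) = _
    rw [← he, ← hE, RingEquiv.symm_apply_apply]
    exact hf t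
  rw [map_sub, map_sub, hF, ← hp, ← map_sub] at hu2
  have hm : MvPowerSeries.C (MvPowerSeries.constantCoeff p) - p ∈
      maximalIdeal (MvPowerSeries (Fin 2) Ω) := by
    rw [← neg_sub]; exact neg_mem (sub_C_mem p)
  have hloc : IsLocalHom (Ideal.Quotient.mk
      (Ideal.span {(MvPowerSeries.X 0 * MvPowerSeries.X 1 : MvPowerSeries (Fin 2) Ω)})) := by
    haveI : Nontrivial (MvPowerSeries (Fin 2) Ω ⧸
        Ideal.span {(MvPowerSeries.X 0 * MvPowerSeries.X 1 : MvPowerSeries (Fin 2) Ω)}) := by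
      rw [← hq]; haveI := isLocalRing_QQ (0 : Ω) 1 0; exact inferInstanceAs (Nontrivial (QQ (0 : Ω) 1 0))
    exact IsLocalHom.of_surjective _ Ideal.Quotient.mk_surjective
  exact (IsLocalRing.mem_maximalIdeal _).1 hm (hloc.map_nonunit _ hu2)

/-- A point of a curve under a node over an algebraically closed field is a node. -/
theorem isNode_of_ordDoublePt (hdim : topologicalKrullDim X ≤ 1) {Ω : Type u} [Field Ω] [IsAlgClosed Ω]
    [Algebra k Ω] (z : ↥(Curv2.bc k X Ω))
    (h : @Curv2.IsOrdDoublePt Ω _ ((Curv2.bc k X Ω).presheaf.stalk z) _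
      (@Curv2.stalkAlgebra Ω _ (Curv2.bc k X Ω) ⟨Curv2.bcSnd k X Ω⟩ z) _) :
    Curv2.IsNode k X ((Curv2.bcFst k X Ω) z) := by
  have hc := isClosed_of_ordDoublePt k X hdim z h
  obtain ⟨f, -⟩ := h
  obtain ⟨P, _, hP, _, e, -⟩ := exists_localization_compat k X Ω z
  haveI := (isClosed_iff_finite k X _).1 hc
  haveI := isNoetherianRing_stalk k X ((Curv2.bcFst k X Ω) z)
  haveI : IsNoetherianRing ((Curv2.bc k X Ω).presheaf.stalk z) := isNoetherianRing_of_ringEquiv _ e.symm
  obtain ⟨E, -⟩ := exists_completion_congr e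
  obtain ⟨h1, -, h3⟩ := exists_nodeData_of_big P hP (E.symm.trans f)
  exact (isNode_iff k X _).2 ⟨hc, h1, h3⟩

/-- An iterated base change to an algebraically closed field sees the same double points. -/
theorem exists_point_bc {K Ω : Type u} [Field K] [Algebra k K] [Field Ω] [Algebra k Ω] [Algebra K Ω]
    [IsScalarTower k K Ω]
    (w : ↥(@Curv2.bc K _ (Curv2.bc k X K) ⟨Curv2.bcSnd k X K⟩ Ω _ _))
    (h : @Curv2.IsOrdDoublePt Ω _ ((@Curv2.bc K _ (Curv2.bc k X K) ⟨Curv2.bcSnd k X K⟩ Ω _ _).presheaf.stalk w) _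
      (@Curv2.stalkAlgebra Ω _ (@Curv2.bc K _ (Curv2.bc k X K) ⟨Curv2.bcSnd k X K⟩ Ω _ _)
        ⟨@Curv2.bcSnd K _ (Curv2.bc k X K) ⟨Curv2.bcSnd k X K⟩ Ω _ _⟩ w) _) :
    ∃ z : ↥(Curv2.bc k X Ω),
      (Curv2.bcFst k X Ω) z = (Curv2.bcFst k X K) ((@Curv2.bcFst K _ (Curv2.bc k X K) ⟨Curv2.bcSnd k X K⟩ Ω _ _) w) ∧
      @Curv2.IsOrdDoublePt Ω _ ((Curv2.bc k X Ω).presheaf.stalk z) _
        (@Curv2.stalkAlgebra Ω _ (Curv2.bc k X Ω) ⟨Curv2.bcSnd k X Ω⟩ z) _ := by
  letI : (Curv2.bc k X K).Over (Spec (CommRingCat.of K)) := ⟨Curv2.bcSnd k X K⟩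
  let φ : K →ₐ[k] Ω := IsScalarTower.toAlgHom k K Ω
  let i := (Groth.Agent.VarietyLib.isPullback_bcExt k X φ).isoPullback
  have hi1 : i.hom ≫ Curv2.bcFst K (Curv2.bc k X K) Ω = Groth.Agent.VarietyLib.bcExt k X φ :=
    (Groth.Agent.VarietyLib.isPullback_bcExt k X φ).isoPullback_hom_fst
  have hi2 : i.hom ≫ Curv2.bcSnd K (Curv2.bc k X K) Ω = Curv2.bcSnd k X Ω :=
    (Groth.Agent.VarietyLib.isPullback_bcExt k X φ).isoPullback_hom_snd
  obtain ⟨z, rfl⟩ : ∃ z, i.hom z = w := ⟨i.inv w, by rw [← Scheme.Hom.comp_apply, i.inv_hom_id]; rfl⟩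
  refine ⟨z, ?_, ?_⟩
  · have h1 := congrArg (fun g : Curv2.bc k X Ω ⟶ X => g z)
      (Groth.Agent.VarietyLib.bcExt_fst k X φ)
    rw [← hi1] at h1
    exact h1.symm
  · obtain ⟨f, hf⟩ := h
    haveI : IsLocallyNoetherian (Curv2.bc k X Ω) :=
      LocallyOfFiniteType.isLocallyNoetherian (Curv2.bcSnd k X Ω)
    haveI : IsLocallyNoetherian (Curv2.bc K (Curv2.bc k X K) Ω) :=
      isLocallyNoetherian_of_isOpenImmersion i.inv
    let e := (asIso (i.hom.stalkMap z)).commRingCatIsoToRingEquiv
    obtain ⟨E, hE⟩ := exists_completion_congr e.symm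
    refine ⟨E.trans f, fun t => ?_⟩
    show f (E _) = _
    rw [hE, ← hf t]
    congr 2
    rw [RingEquiv.symm_apply_eq]
    show ((Curv2.bc k X Ω).presheaf.germ ⊤ z trivial).hom (Coh.toGlobal (Curv2.bcSnd k X Ω) t) =
      (i.hom.stalkMap z).hom (((Curv2.bc K (Curv2.bc k X K) Ω).presheaf.germ ⊤ (i.hom z) trivial).hom
        (Coh.toGlobal (Curv2.bcSnd K (Curv2.bc k X K) Ω) t))
    refine Eq.trans ?_ (Scheme.Hom.germ_stalkMap_apply i.hom ⊤ z trivial _).symm
    rw [← hi2]
    rfl

end Groth.Agent.NodeLib7
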