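import Mathlib.RingTheory.Flat.EquationalCriterion
import Mathlib.RingTheory.Filtration
import Mathlib.RingTheory.LocalRing.RingHom.Basic
import Mathlib.Tactic.LinearCombination

/-!
# A node admits no nontrivial radicial flat map to a one-branched ring
-/

set_option autoImplicit false
set_option linter.style.haveILetI false

universe u v

open IsLocalRing

namespace Groth.Agent.NodeLib7

variable {A : Type u} [CommRing A] [IsLocalRing A] {Q : Type v} [CommRing Q] [IsLocalRing Q]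

theorem exists_decomp {X Y : Q} (hspan : Ideal.span {X, Y} = maximalIdeal Q) (hXY : X * Y = 0) {x₀ : Q}
    (h : x₀ - X ∈ maximalIdeal Q ^ 2) :
    (∃ s, Y * x₀ = Y ^ 3 * s) ∧ ∃ β, IsUnit β ∧ X * x₀ = X ^ 2 * β := by
  obtain ⟨r, s, hrs⟩ : ∃ r s, x₀ - X = r * X ^ 2 + s * Y ^ 2 := by
    rw [pow_two, ← hspan, Ideal.span_mul_span'] at h
    refine Submodule.span_induction ?_ ⟨0, 0, by ring⟩ ?_ ?_ h
    · rintro _ ⟨u, hu, v, hv, rfl⟩
      rcases hu with rfl | rfl <;> rcases hv with rfl | rfl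
      · exact ⟨1, 0, by ring⟩
      · exact ⟨0, 0, by linear_combination hXY⟩
      · exact ⟨0, 0, by linear_combination hXY⟩
      · exact ⟨0, 1, by ring⟩
    · rintro _ _ _ _ ⟨r, s, rfl⟩ ⟨r', s', rfl⟩
      exact ⟨r + r', s + s', by ring⟩
    · rintro c _ _ ⟨r, s, rfl⟩
      exact ⟨c * r, c * s, by rw [smul_eq_mul]; ring⟩
  refine ⟨⟨s, by linear_combination Y * hrs + (1 + r * X) * hXY⟩, 1 + r * X, ?_, by
    linear_combination X * hrs + s * Y * hXY⟩
  have hX : r * X ∈ maximalIdeal Q := Ideal.mul_mem_left _ _ (hspan ▸ Ideal.subset_span (by simp))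
  refine IsLocalRing.notMem_maximalIdeal.1 fun h1 => (maximalIdeal.isMaximal Q).ne_top
    ((Ideal.eq_top_iff_one _).2 ?_)
  simpa using sub_mem h1 hX

omit [IsLocalRing Q] in
theorem mul_pow_eq {Y x s : Q} {e : ℕ} (h : Y * x = Y ^ (e + 1) * s) :
    ∀ n, Y * x ^ n = Y ^ (e * n + 1) * s ^ n
  | 0 => by simp
  | n + 1 => by
    rw [pow_succ, ← mul_assoc, mul_pow_eq h n,
      show Y ^ (e * n + 1) * s ^ n * x = Y ^ (e * n) * s ^ n * (Y * x) by ring, h]
    ring

theorem eq_zero_of_pow_eq {Y u v : Q} (hY : Y ∈ maximalIdeal Q) {m n : ℕ} (hmn : m < n) (hu : IsUnit u)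
    (h : Y ^ m * u = Y ^ n * v) : Y ^ m = 0 := by
  obtain ⟨d, rfl⟩ := Nat.exists_eq_add_of_lt hmn
  have h1 : Y ^ m * (u - Y * (Y ^ d * v)) = 0 := by linear_combination h
  refine (IsUnit.mul_left_eq_zero (IsLocalRing.notMem_maximalIdeal.1 fun hm => ?_)).1 h1
  exact (IsLocalRing.mem_maximalIdeal _).1 (by simpa using add_mem hm (Ideal.mul_mem_right (Y ^ d * v) _ hY)) hu

variable [Algebra A Q] [Module.Flat A Q]

/-- Two minimal generators force a branch parameter into the extended maximal ideal. -/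
theorem mem_of_gens {n : ℕ} (g : Fin n → A) (hg : maximalIdeal A = Ideal.span (Set.range g))
    (hmin : ∀ a : Fin n → A, ∑ i, g i * a i = 0 → ∀ i, a i ∈ maximalIdeal A) (hn : 2 ≤ n)
    {X Y : Q} (hspan : Ideal.span {X, Y} = maximalIdeal Q) (hXY : X * Y = 0)
    (hne : ∃ N, Y ^ N ≠ 0 ∧ Y ^ N ∈ (maximalIdeal A).map (algebraMap A Q)) (hY : ∀ N, Y ^ N ≠ 0) :
    Y ∈ (maximalIdeal A).map (algebraMap A Q) := by
  classical
  set I := (maximalIdeal A).map (algebraMap A Q)
  have hgI : ∀ i, algebraMap A Q (g i) ∈ I := fun i =>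
    Ideal.mem_map_of_mem _ (hg ▸ Ideal.subset_span ⟨i, rfl⟩)
  have hYm : Y ∈ maximalIdeal Q := hspan ▸ Ideal.subset_span (by simp)
  obtain ⟨N, -, hN⟩ := hne
  have hex : ∃ j, ¬ I ≤ Ideal.span {X, Y ^ (j + 1)} := by
    refine ⟨N, fun h => hY (N + 1) ?_⟩
    obtain ⟨r, s, hrs⟩ := Ideal.mem_span_pair.1 (h hN)
    exact eq_zero_of_pow_eq (u := 1) (v := s) hYm (by omega : N + 1 < N + 2) isUnit_one
      (by linear_combination (-Y) * hrs + r * hXY)
  obtain ⟨j, hj, hjmin⟩ : ∃ j, ¬ I ≤ Ideal.span {X, Y ^ (j + 1)} ∧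
      ∀ l < j, I ≤ Ideal.span {X, Y ^ (l + 1)} :=
    ⟨Nat.find hex, Nat.find_spec hex, fun l hl => not_not.1 (Nat.find_min hex hl)⟩
  have hjle : I ≤ Ideal.span {X, Y ^ j} := by
    cases j with
    | zero => exact le_trans le_top (le_of_eq (by rw [pow_zero, eq_comm, Ideal.eq_top_iff_one]; exact Ideal.subset_span (by simp)))
    | succ l => exact hjmin l (Nat.lt_succ_self l)
  choose r s hrs using fun i => Ideal.mem_span_pair.1 (hjle (hgI i))
  obtain ⟨i, hi⟩ : ∃ i, s i ∉ maximalIdeal Q := by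
    by_contra hall
    push Not at hall
    refine hj ?_
    show (maximalIdeal A).map (algebraMap A Q) ≤ _
    rw [hg, Ideal.map_span, Ideal.span_le]
    rintro _ ⟨_, ⟨i, rfl⟩, rfl⟩
    obtain ⟨p, q, hpq⟩ := Ideal.mem_span_pair.1 (hspan.symm ▸ hall i)
    exact Ideal.mem_span_pair.2 ⟨r i + p * Y ^ j, q, by linear_combination hrs i + Y ^ j * hpq⟩
  obtain ⟨l, hli⟩ : ∃ l : Fin n, l ≠ i := by
    by_cases h0 : i = ⟨0, by omega⟩
    · exact ⟨⟨1, by omega⟩, by rw [h0]; simp [Fin.ext_iff]⟩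
    · exact ⟨⟨0, by omega⟩, Ne.symm h0⟩
  let c : Fin n → Q := Function.update (Pi.single i (Y * s l)) l (-(Y * s i))
  have hci : c i = Y * s l := by simp [c, Function.update_of_ne hli.symm]
  have hcl : c l = -(Y * s i) := by simp [c]
  have hsum : ∑ m, g m • c m = 0 := by
    rw [Finset.sum_eq_add (s := Finset.univ) i l hli.symm (fun m _ hm => ?_)
      (fun h => absurd (Finset.mem_univ _) h) (fun h => absurd (Finset.mem_univ _) h)]
    · rw [hci, hcl, Algebra.smul_def, Algebra.smul_def, ← hrs i, ← hrs l]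
      linear_combination (s l * r i - s i * r l) * hXY
    · simp [c, Function.update_of_ne hm.2, Pi.single_eq_of_ne hm.1]
  obtain ⟨p, M, z, hz, hM⟩ := Module.Flat.isTrivialRelation_of_sum_smul_eq_zero hsum
  have hl : c l ∈ I := by
    rw [hz l]
    refine Ideal.sum_mem _ fun m _ => ?_
    rw [Algebra.smul_def]
    exact Ideal.mul_mem_right _ _ (Ideal.mem_map_of_mem _ (hmin (fun o => M o m) (hM m) l))
  rw [hcl, neg_mem_iff] at hl
  obtain ⟨w, hw⟩ := (IsLocalRing.notMem_maximalIdeal.1 hi).exists_right_inv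
  have := Ideal.mul_mem_right w _ hl
  rwa [mul_assoc, hw, mul_one] at this

/-- A flat map to a node for which both branch parameters have a power in the base is unramified. -/
theorem map_eq_of_radicial [IsNoetherianRing A] [IsLocalHom (algebraMap A Q)]
    {X Y : Q} (hspan : Ideal.span {X, Y} = maximalIdeal Q) (hXY : X * Y = 0)
    (hX : ∀ n, X ^ n ≠ 0) (hY : ∀ n, Y ^ n ≠ 0)
    {x₀ y₀ : Q} (hx : x₀ - X ∈ maximalIdeal Q ^ 2) (hy : y₀ - Y ∈ maximalIdeal Q ^ 2)
    {q : ℕ} (hq : 0 < q) (hxq : x₀ ^ q ∈ (algebraMap A Q).range) (hyq : y₀ ^ q ∈ (algebraMap A Q).range) :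
    (maximalIdeal A).map (algebraMap A Q) = maximalIdeal Q := by
  classical
  have hle : (maximalIdeal A).map (algebraMap A Q) ≤ maximalIdeal Q := map_maximalIdeal_le _
  refine le_antisymm hle ?_
  have hXm : X ∈ maximalIdeal Q := hspan ▸ Ideal.subset_span (by simp)
  have hYm : Y ∈ maximalIdeal Q := hspan ▸ Ideal.subset_span (by simp)
  have hspan' : Ideal.span {Y, X} = maximalIdeal Q := by rw [Set.pair_comm]; exact hspan
  have hYX : Y * X = 0 := by rw [mul_comm]; exact hXY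
  obtain ⟨⟨sx, hsx⟩, βx, hβxu, hβx⟩ := exists_decomp hspan hXY hx
  obtain ⟨⟨sy, hsy⟩, βy, hβyu, hβy⟩ := exists_decomp hspan' hYX hy
  obtain ⟨a, ha⟩ := hxq
  obtain ⟨c, hc⟩ := hyq
  have hx0 : ∀ N, x₀ ^ N ≠ 0 := fun N h => hX (1 * N + 1) (by
    have := mul_pow_eq (e := 1) (by simpa using hβx) N
    rw [h, mul_zero] at this
    exact (hβxu.pow N).mul_left_eq_zero.1 this.symm)
  have hy0 : ∀ N, y₀ ^ N ≠ 0 := fun N h => hY (1 * N + 1) (by
    have := mul_pow_eq (e := 1) (by simpa using hβy) N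
    rw [h, mul_zero] at this
    exact (hβyu.pow N).mul_left_eq_zero.1 this.symm)
  have hmemX : x₀ ∈ maximalIdeal Q := by
    simpa using add_mem (Ideal.pow_le_self two_ne_zero hx) hXm
  have hmemY : y₀ ∈ maximalIdeal Q := by
    simpa using add_mem (Ideal.pow_le_self two_ne_zero hy) hYm
  have ham : a ∈ maximalIdeal A := by
    by_contra h
    have := (IsLocalRing.notMem_maximalIdeal.1 h).map (algebraMap A Q)
    rw [ha, isUnit_pow_iff hq.ne'] at this
    exact (IsLocalRing.mem_maximalIdeal _).1 hmemX this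
  have hcm : c ∈ maximalIdeal A := by
    by_contra h
    have := (IsLocalRing.notMem_maximalIdeal.1 h).map (algebraMap A Q)
    rw [hc, isUnit_pow_iff hq.ne'] at this
    exact (IsLocalRing.mem_maximalIdeal _).1 hmemY this
  -- minimal generators
  have hexg : ∃ n, ∃ g : Fin n → A, maximalIdeal A = Ideal.span (Set.range g) := by
    obtain ⟨n, g, hg⟩ := Submodule.fg_iff_exists_fin_generating_family.1
      (IsNoetherian.noetherian (maximalIdeal A))
    exact ⟨n, g, hg.symm⟩
  obtain ⟨g, hg⟩ := Nat.find_spec hexg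
  have hnmin : ∀ {m}, (∃ g : Fin m → A, maximalIdeal A = Ideal.span (Set.range g)) → Nat.find hexg ≤ m :=
    fun h => Nat.find_min' hexg h
  generalize Nat.find hexg = n at g hg hnmin
  rcases Nat.lt_or_ge n 2 with hn | hn
  · -- principal case
    obtain ⟨π, hπ⟩ : ∃ π, maximalIdeal A = Ideal.span {π} := by
      rcases Nat.lt_or_ge n 1 with h0 | h1
      · obtain rfl : n = 0 := by omega
        exact ⟨0, by rw [hg, Set.range_eq_empty g]; simp⟩
      · obtain rfl : n = 1 := by omega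
        refine ⟨g 0, hg.trans (congrArg Ideal.span ?_)⟩
        rw [Set.range_unique]; rfl
    have hfac : ∀ w : A, w ≠ 0 → w ∈ maximalIdeal A → ∃ i u, 0 < i ∧ IsUnit u ∧ w = π ^ i * u := by
      intro w hw hwm
      have hK := Ideal.iInf_pow_eq_bot_of_isLocalRing (maximalIdeal A) (maximalIdeal.isMaximal A).ne_top
      have hex : ∃ i, w ∉ maximalIdeal A ^ i := by
        by_contra hall
        push Not at hall
        exact hw (by simpa [hK] using Ideal.mem_iInf.2 hall)
      obtain ⟨i, hi, hi'⟩ : ∃ i, w ∈ maximalIdeal A ^ i ∧ w ∉ maximalIdeal A ^ (i + 1) := by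
        have h0 : Nat.find hex ≠ 0 := fun h0 => by
          have := Nat.find_spec hex
          rw [h0, pow_zero, Ideal.one_eq_top] at this
          exact this trivial
        exact ⟨Nat.find hex - 1, not_not.1 (Nat.find_min hex (by omega)), by
          rw [Nat.sub_add_cancel (Nat.one_le_iff_ne_zero.2 h0)]; exact Nat.find_spec hex⟩
      rw [hπ, Ideal.span_singleton_pow, Ideal.mem_span_singleton] at hi
      obtain ⟨u, rfl⟩ := hi
      refine ⟨i, u, Nat.pos_of_ne_zero fun h => hi' (by subst h; simpa using hwm),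
        IsLocalRing.notMem_maximalIdeal.1 fun hu => hi' ?_, rfl⟩
      rw [pow_succ]
      exact Ideal.mul_mem_mul (Ideal.pow_mem_pow (hπ ▸ Ideal.mem_span_singleton_self π) i) hu
    exfalso
    obtain ⟨i, ua, hipos, hua, rfl⟩ := hfac a (fun h => hx0 q (by rw [← ha, h, map_zero])) ham
    obtain ⟨l, uc, hlpos, huc, rfl⟩ := hfac c (fun h => hy0 q (by rw [← hc, h, map_zero])) hcm
    have heq : x₀ ^ (q * l) * algebraMap A Q uc ^ i = y₀ ^ (q * i) * algebraMap A Q ua ^ l := by
      rw [pow_mul, pow_mul, ← ha, ← hc]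
      simp only [map_mul, map_pow]
      ring
    have key : ∀ {X Y x₀ y₀ u v s β : Q} {i l : ℕ}, X ∈ maximalIdeal Q → (∀ n, X ^ n ≠ 0) → IsUnit β →
        IsUnit u → X * x₀ = X ^ (1 + 1) * β → X * y₀ = X ^ (2 + 1) * s →
        x₀ ^ l * u = y₀ ^ i * v → 2 * i ≤ l := by
      intro X Y x₀ y₀ u v s β i l hXm hX hβ hu h1 h2 h
      by_contra hlt
      refine hX (1 * l + 1) (eq_zero_of_pow_eq (u := β ^ l * u) (v := s ^ i * v) hXm (by omega : 1 * l + 1 < 2 * i + 1)
        ((hβ.pow l).mul hu) ?_)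
      rw [← mul_assoc, ← mul_assoc, ← mul_pow_eq h1 l, ← mul_pow_eq h2 i, mul_assoc, mul_assoc, h]
    have k1 := key (Y := Y) hXm hX hβxu ((huc.map (algebraMap A Q)).pow i) (by simpa using hβx) (by simpa using hsy) heq
    have k2 := key (Y := X) hYm hY hβyu ((hua.map (algebraMap A Q)).pow l) (by simpa using hβy) (by simpa using hsx)
      heq.symm
    have : q * i = 0 := by omega
    rcases Nat.mul_eq_zero.1 this with h | h <;> omega
  · have hmin : ∀ b : Fin n → A, ∑ i, g i * b i = 0 → ∀ i, b i ∈ maximalIdeal A := by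
      intro b hb i
      by_contra hbi
      obtain ⟨w, hw⟩ := (IsLocalRing.notMem_maximalIdeal.1 hbi).exists_right_inv
      obtain ⟨m, rfl⟩ : ∃ m, n = m + 1 := ⟨n - 1, by omega⟩
      have := hnmin (m := m) ⟨g ∘ i.succAbove, le_antisymm (hg.le.trans (Ideal.span_le.2 ?_))
        (Ideal.span_le.2 fun z hz => hg.ge (Ideal.subset_span (Set.range_comp_subset_range _ _ hz)))⟩
      · omega
      rintro _ ⟨o, rfl⟩
      by_cases ho : o = i
      · subst ho
        rw [Fin.sum_univ_succAbove _ o] at hb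
        have e : g o = -w * ∑ t, g (o.succAbove t) * b (o.succAbove t) := by
          linear_combination w * hb - g o * hw
        rw [SetLike.mem_coe, e]
        exact Ideal.mul_mem_left _ _ (Ideal.sum_mem _ fun t _ => Ideal.mul_mem_right _ _ (Ideal.subset_span ⟨t, rfl⟩))
      · obtain ⟨t, rfl⟩ := Fin.exists_succAbove_eq ho
        exact Ideal.subset_span ⟨t, rfl⟩
    have hXpow : X ^ (1 * q + 1) ∈ (maximalIdeal A).map (algebraMap A Q) := by
      have h1 := mul_pow_eq (e := 1) (by simpa using hβx) q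
      have h2 : X * x₀ ^ q ∈ (maximalIdeal A).map (algebraMap A Q) :=
        Ideal.mul_mem_left _ _ (ha ▸ Ideal.mem_map_of_mem _ ham)
      rw [h1] at h2
      obtain ⟨w, hw⟩ := (hβxu.pow q).exists_right_inv
      have := Ideal.mul_mem_right w _ h2
      rwa [mul_assoc, hw, mul_one] at this
    have hYpow : Y ^ (1 * q + 1) ∈ (maximalIdeal A).map (algebraMap A Q) := by
      have h1 := mul_pow_eq (e := 1) (by simpa using hβy) q
      have h2 : Y * y₀ ^ q ∈ (maximalIdeal A).map (algebraMap A Q) :=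
        Ideal.mul_mem_left _ _ (hc ▸ Ideal.mem_map_of_mem _ hcm)
      rw [h1] at h2
      obtain ⟨w, hw⟩ := (hβyu.pow q).exists_right_inv
      have := Ideal.mul_mem_right w _ h2
      rwa [mul_assoc, hw, mul_one] at this
    rw [← hspan, Ideal.span_le]
    rintro z (rfl | rfl)
    · exact mem_of_gens g hg hmin hn hspan' hYX ⟨_, hX _, hXpow⟩ hX
    · exact mem_of_gens g hg hmin hn hspan hXY ⟨_, hY _, hYpow⟩ hY

end Groth.Agent.NodeLib7
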