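import Groth.Agent.EGA43.DeltaBaseChange.Ring
import Mathlib.RingTheory.Unramified.Field
import Mathlib.Algebra.DualNumber
import Mathlib.FieldTheory.IsAlgClosed.Basic

/-!
# Closed points and extension of the base field
-/

set_option autoImplicit false
set_option backward.isDefEq.respectTransparency false
set_option linter.style.haveILetI false

universe u

open IsLocalRing TensorProduct

namespace Groth.Agent.NodeLib7

open EGA43.DeltaBaseChange

variable {k : Type u} [Field k] {A : Type u} [CommRing A] [IsLocalRing A] [Algebra k A]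
  [Module.Finite k (ResidueField A)] {K : Type u} [Field K] [Algebra k K] [IsAlgClosed K]
  (P : Ideal (A ⊗[k] K)) [P.IsPrime] (hP : P.comap (algebraMap A (A ⊗[k] K)) = maximalIdeal A)

include hP in
/-- A prime over the closed point is the kernel of a point with values in `K`. -/
theorem exists_proj : ∃ ψ : A ⊗[k] K →ₐ[k] K,
    (∀ z, ψ z = 0 ↔ z ∈ P) ∧ ∀ l : K, ψ ((1 : A) ⊗ₜ[k] l) = l := by
  let ρ : K →+* (A ⊗[k] K) ⧸ P :=
    (Ideal.Quotient.mk P).comp (Algebra.TensorProduct.includeRight : K →ₐ[k] A ⊗[k] K).toRingHom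
  letI := ρ.toAlgebra
  haveI : Algebra.IsIntegral K ((A ⊗[k] K) ⧸ P) := ⟨fun z => by
    obtain ⟨z, rfl⟩ := Ideal.Quotient.mk_surjective z
    induction z using TensorProduct.induction_on with
    | zero => rw [map_zero]; exact isIntegral_zero
    | add z z' hz hz' => rw [map_add]; exact hz.add hz'
    | tmul a l =>
      have e : Ideal.Quotient.mk P (a ⊗ₜ[k] l) =
          Ideal.Quotient.mk P (a ⊗ₜ[k] (1 : K)) * algebraMap K _ l := by
        show _ = _ * Ideal.Quotient.mk P ((1 : A) ⊗ₜ[k] l)
        rw [← map_mul, Algebra.TensorProduct.tmul_mul_tmul, mul_one, one_mul]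
      rw [e]
      refine IsIntegral.mul ?_ isIntegral_algebraMap
      obtain ⟨g, hg, hga⟩ := Algebra.IsIntegral.isIntegral (R := k) (residue A a)
      refine ⟨g.map (algebraMap k K), hg.map _, ?_⟩
      have hmem : Polynomial.aeval a g ∈ maximalIdeal A := by
        rw [← residue_eq_zero_iff]
        have := Polynomial.aeval_algHom_apply (IsScalarTower.toAlgHom k A (ResidueField A)) a g
        exact this.symm.trans hga
      rw [← hP, Ideal.mem_comap] at hmem
      rw [Polynomial.eval₂_map]
      have e2 : (algebraMap K ((A ⊗[k] K) ⧸ P)).comp (algebraMap k K) =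
          (Ideal.Quotient.mk P).comp (algebraMap k (A ⊗[k] K)) := RingHom.ext fun r => by
        exact congrArg (Ideal.Quotient.mk P) ((Algebra.TensorProduct.includeRight : K →ₐ[k] A ⊗[k] K).commutes r)
      rw [e2, ← Polynomial.hom_eval₂]
      refine Ideal.Quotient.eq_zero_iff_mem.2 ?_
      have e3 := Polynomial.aeval_algHom_apply (Algebra.TensorProduct.includeLeft : A →ₐ[k] A ⊗[k] K) a g
      change Polynomial.aeval (a ⊗ₜ[k] (1 : K)) g ∈ P
      rw [show a ⊗ₜ[k] (1 : K) = (Algebra.TensorProduct.includeLeft : A →ₐ[k] A ⊗[k] K) a from rfl, e3]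
      exact hmem⟩
  let e := RingEquiv.ofBijective _ (IsAlgClosed.algebraMap_bijective_of_isIntegral (k := K) (K := (A ⊗[k] K) ⧸ P))
  refine ⟨{ toRingHom := e.symm.toRingHom.comp (Ideal.Quotient.mk P), commutes' := fun r => ?_ }, fun z => ?_, fun l => ?_⟩
  · show e.symm (Ideal.Quotient.mk P (algebraMap k _ r)) = algebraMap k K r
    rw [RingEquiv.symm_apply_eq]
    show _ = Ideal.Quotient.mk P ((1 : A) ⊗ₜ[k] algebraMap k K r)
    congr 1
    exact ((Algebra.TensorProduct.includeRight : K →ₐ[k] A ⊗[k] K).commutes r).symm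
  · show e.symm _ = 0 ↔ _
    rw [map_eq_zero_iff _ e.symm.injective, Ideal.Quotient.eq_zero_iff_mem]
  · exact e.symm_apply_apply l

include hP in
/-- The residue field at a prime over the closed point is `K`. -/
theorem residue_bijective :
    Function.Bijective ((residue (Localization.AtPrime P)).comp ((algebraMap (A ⊗[k] K) (Localization.AtPrime P)).comp
      (Algebra.TensorProduct.includeRight : K →ₐ[k] A ⊗[k] K).toRingHom)) := by
  obtain ⟨ψ, hψ, hψ1⟩ := exists_proj P hP
  refine ⟨RingHom.injective _, fun z => ?_⟩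
  obtain ⟨z, rfl⟩ := residue_surjective z
  obtain ⟨t, s, rfl⟩ := IsLocalization.exists_mk'_eq P.primeCompl z
  let f := (residue (Localization.AtPrime P)).comp (algebraMap (A ⊗[k] K) (Localization.AtPrime P))
  have key : ∀ w : A ⊗[k] K, f w = f ((1 : A) ⊗ₜ[k] ψ w) := fun w => by
    rw [← sub_eq_zero, ← map_sub]
    refine (residue_eq_zero_iff _).2 ?_
    rw [IsLocalization.AtPrime.to_map_mem_maximal_iff (Localization.AtPrime P) P, ← hψ, map_sub, hψ1, sub_self]
  have hs : ψ s ≠ 0 := fun h => s.2 ((hψ _).1 h)
  refine ⟨ψ t / ψ s, ?_⟩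
  set g := (residue (Localization.AtPrime P)).comp ((algebraMap (A ⊗[k] K) (Localization.AtPrime P)).comp
      (Algebra.TensorProduct.includeRight : K →ₐ[k] A ⊗[k] K).toRingHom)
  rw [map_div₀, div_eq_iff ((map_ne_zero g).2 hs)]
  show f ((1 : A) ⊗ₜ[k] ψ t) = residue _ (IsLocalization.mk' _ t s) * f ((1 : A) ⊗ₜ[k] ψ s)
  rw [← key, ← key]
  show f t = residue _ _ * residue _ (algebraMap _ _ (s : A ⊗[k] K))
  rw [← map_mul, IsLocalization.mk'_spec]
  rfl

omit [IsAlgClosed K] [Module.Finite k (ResidueField A)] in
include hP in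
/-- The extended maximal ideal is maximal at a point whose fibre is reduced and of dimension zero. -/
theorem map_eq_maximalIdeal_of_dimZero [Ring.KrullDimLE 0 (ResidueField A ⊗[k] K)]
    [_root_.IsReduced (ResidueField A ⊗[k] K)] :
    (maximalIdeal A).map (algebraMap A (Localization.AtPrime P)) = maximalIdeal (Localization.AtPrime P) := by
  haveI := isLocalHom P hP
  refine le_antisymm (map_maximalIdeal_le _) ?_
  rw [← IsLocalization.AtPrime.map_eq_maximalIdeal P (Localization.AtPrime P), Ideal.map_le_iff_le_comap]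
  intro b hb
  let T' := ResidueField A ⊗[k] K
  let π : A ⊗[k] K →ₐ[k] T' :=
    Algebra.TensorProduct.map (IsScalarTower.toAlgHom k A (ResidueField A)) (AlgHom.id k K)
  have hπ : RingHom.ker π = (maximalIdeal A).map (algebraMap A (A ⊗[k] K)) := by
    rw [Algebra.TensorProduct.map_ker _ _ residue_surjective Function.surjective_id]
    have e1 : RingHom.ker (AlgHom.id k K) = ⊥ := (RingHom.injective_iff_ker_eq_bot _).1 Function.injective_id
    rw [e1, Ideal.map_bot, sup_bot_eq]
    exact congrArg (Ideal.map _) (IsLocalRing.ker_residue (R := A))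
  have hsurj : Function.Surjective π.toRingHom :=
    TensorProduct.map_surjective residue_surjective Function.surjective_id
  have hkerP : RingHom.ker π.toRingHom ≤ P := by
    show RingHom.ker π ≤ P
    rw [hπ, Ideal.map_le_iff_le_comap]; exact hP.ge
  let P' : Ideal T' := P.map π.toRingHom
  haveI hP' : P'.IsPrime := Ideal.map_isPrime_of_surjective hsurj hkerP
  have hzero : algebraMap T' (Localization.AtPrime P') (π b) = 0 := by
    refine IsNilpotent.eq_zero (nilpotent_iff_mem_prime.2 fun J hJ => ?_)
    haveI := hJ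
    have hle : J.comap (algebraMap T' (Localization.AtPrime P')) ≤ P' := by
      intro z hz
      by_contra hzP
      exact hJ.ne_top (Ideal.eq_top_of_isUnit_mem _ hz
        (IsLocalization.map_units (Localization.AtPrime P') (⟨z, hzP⟩ : P'.primeCompl)))
    have hmax : (J.comap (algebraMap T' (Localization.AtPrime P'))).IsMaximal :=
      Ring.krullDimLE_zero_iff.1 inferInstance _ inferInstance
    have he := hmax.eq_of_le hP'.ne_top hle
    have hbP : π.toRingHom b ∈ P' := Ideal.mem_map_of_mem π.toRingHom hb
    rw [← he] at hbP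
    exact hbP
  obtain ⟨⟨s', hs'⟩, hsb⟩ := (IsLocalization.map_eq_zero_iff P'.primeCompl (Localization.AtPrime P') _).1 hzero
  obtain ⟨s, rfl⟩ := hsurj s'
  have hs : s ∉ P := fun h => hs' (Ideal.mem_map_of_mem π.toRingHom h)
  have hmem : s * b ∈ (maximalIdeal A).map (algebraMap A (A ⊗[k] K)) := by
    rw [← hπ, RingHom.mem_ker, map_mul]; exact hsb
  have h1 := Ideal.mem_map_of_mem (algebraMap (A ⊗[k] K) (Localization.AtPrime P)) hmem
  rw [Ideal.map_map, ← IsScalarTower.algebraMap_eq, map_mul] at h1
  obtain ⟨w, hw⟩ := (IsLocalization.map_units (Localization.AtPrime P) (⟨_, hs⟩ : P.primeCompl))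
  rw [Ideal.mem_comap]
  have := Ideal.mul_mem_left _ (↑w⁻¹) h1
  rwa [← hw, ← mul_assoc, Units.inv_mul, one_mul] at this

omit [IsAlgClosed K] [Module.Finite k (ResidueField A)] in
include hP in
/-- The extended maximal ideal is maximal at a point of an algebraic extension with reduced fibre. -/
theorem map_eq_maximalIdeal_of_isReduced [Algebra.IsIntegral k K] [_root_.IsReduced (ResidueField A ⊗[k] K)] :
    (maximalIdeal A).map (algebraMap A (Localization.AtPrime P)) = maximalIdeal (Localization.AtPrime P) := by
  let T' := ResidueField A ⊗[k] K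
  haveI : Algebra.IsIntegral (ResidueField A) T' := inferInstance
  haveI : Ring.KrullDimLE 0 T' := Ring.krullDimLE_zero_iff.2 fun q hq =>
    Ideal.isMaximal_of_isIntegral_of_isMaximal_comap (R := ResidueField A) q
      (by rw [Ideal.eq_bot_of_prime (q.comap (algebraMap (ResidueField A) T'))]; exact Ideal.bot_isMaximal)
  exact map_eq_maximalIdeal_of_dimZero P hP

/-- Tensoring a finite separable field with a field keeps it reduced. -/
theorem isReduced_tensor_of_isSeparable_left (k L K : Type u) [Field k] [Field L] [Field K] [Algebra k L]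
    [Algebra k K] [Module.Finite k L] [Algebra.IsSeparable k L] : _root_.IsReduced (L ⊗[k] K) := by
  haveI : Algebra.FormallyUnramified k L := Algebra.FormallyUnramified.of_isSeparable _ _
  haveI : Algebra.EssFiniteType K (K ⊗[k] L) := inferInstance
  haveI : _root_.IsReduced (K ⊗[k] L) := Algebra.FormallyUnramified.isReduced_of_field K _
  exact isReduced_of_injective (Algebra.TensorProduct.comm k L K) (Algebra.TensorProduct.comm k L K).injective

/-- Tensoring with a separable algebraic field keeps a field reduced. -/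
theorem isReduced_tensor_of_isSeparable_right (k L K : Type u) [Field k] [Field L] [Field K] [Algebra k L]
    [Algebra k K] [Algebra.IsSeparable k K] : _root_.IsReduced (L ⊗[k] K) := by
  refine IsReduced.tensorProduct_of_flat_of_forall_fg fun B hB => ?_
  haveI : Module.Finite k B := by
    obtain ⟨S, rfl⟩ := hB
    exact Module.Finite.iff_fg.2 (fg_adjoin_of_finite S.finite_toSet fun x _ => Algebra.IsIntegral.isIntegral x)
  letI : Field B := (isField_of_isIntegral_of_isField' (R := k) (S := B) (Field.toIsField k)).toField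
  haveI : Algebra.IsSeparable k B := Algebra.IsSeparable.of_algHom k K B.val
  haveI := isReduced_tensor_of_isSeparable_left k B L
  exact isReduced_of_injective (Algebra.TensorProduct.comm k L B) (Algebra.TensorProduct.comm k L B).injective

omit [IsAlgClosed K] in
include hP in
/-- At a point with separable residue field the maximal ideal is generated by that of `A`. -/
theorem map_eq_maximalIdeal_of_isSeparable [Algebra.IsIntegral k K] [Algebra.IsSeparable k (ResidueField A)] :
    (maximalIdeal A).map (algebraMap A (Localization.AtPrime P)) = maximalIdeal (Localization.AtPrime P) := by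
  haveI := isReduced_tensor_of_isSeparable_left k (ResidueField A) K
  exact map_eq_maximalIdeal_of_isReduced P hP

include hP in
/-- If the maximal ideal of `A` generates, the residue field is separable. -/
theorem isSeparable_of_map_eq
    (hm : (maximalIdeal A).map (algebraMap A (Localization.AtPrime P)) = maximalIdeal (Localization.AtPrime P)) :
    Algebra.IsSeparable k (ResidueField A) := by
  rw [← Algebra.FormallyUnramified.iff_isSeparable]
  by_contra hun
  obtain ⟨t, ht⟩ : ∃ t : ResidueField A, KaehlerDifferential.D k (ResidueField A) t ≠ 0 := by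
    by_contra hall
    push Not at hall
    refine hun ⟨⟨fun u v => ?_⟩⟩
    have key : ∀ w : Ω[ResidueField A⁄k], w = 0 := fun w => by
      have hw : w ∈ Submodule.span (ResidueField A) (Set.range (KaehlerDifferential.D k (ResidueField A))) := by
        rw [KaehlerDifferential.span_range_derivation]; trivial
      refine (Submodule.mem_bot (ResidueField A)).1 (Submodule.span_le.2 ?_ hw)
      rintro _ ⟨x, rfl⟩
      exact (Submodule.mem_bot (ResidueField A)).2 (hall x)
    rw [key u, key v]
  obtain ⟨f, hf⟩ : ∃ f : Ω[ResidueField A⁄k] →ₗ[ResidueField A] ResidueField A,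
      f (KaehlerDifferential.D k (ResidueField A) t) ≠ 0 := by
    by_contra hall
    push Not at hall
    exact ht ((Module.forall_dual_apply_eq_zero_iff (ResidueField A) _).1 hall)
  obtain ⟨ψ, hψ, hψ1⟩ := exists_proj P hP
  let ψA : A →ₐ[k] K := ψ.comp Algebra.TensorProduct.includeLeft
  have hψA : ∀ a ∈ maximalIdeal A, ψA a = 0 := fun a ha => (hψ _).2 (by rw [← hP] at ha; exact ha)
  let φ : ResidueField A →ₐ[k] K := Ideal.Quotient.liftₐ (maximalIdeal A) ψA hψA
  have hφ : ∀ a, φ (residue A a) = ψA a := fun a => rfl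
  let D := KaehlerDifferential.D k (ResidueField A)
  let F : ResidueField A →ₐ[k] DualNumber K :=
    { toFun := fun s => TrivSqZeroExt.inl (φ s) + TrivSqZeroExt.inr (φ (f (D s)))
      map_one' := TrivSqZeroExt.ext (by simp) (by simp)
      map_mul' := fun s s' => TrivSqZeroExt.ext (by simp) (by simp; ring)
      map_zero' := TrivSqZeroExt.ext (by simp) (by simp)
      map_add' := fun s s' => TrivSqZeroExt.ext (by simp) (by simp)
      commutes' := fun r => TrivSqZeroExt.ext (by simp [TrivSqZeroExt.algebraMap_eq_inl'])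
        (by simp [TrivSqZeroExt.algebraMap_eq_inl']) }
  let Φ : A ⊗[k] K →ₐ[k] DualNumber K :=
    Algebra.TensorProduct.lift (F.comp (IsScalarTower.toAlgHom k A (ResidueField A)))
      (IsScalarTower.toAlgHom k K (DualNumber K)) fun a l => Commute.all _ _
  have hΦ : ∀ (a : A) (l : K), Φ (a ⊗ₜ[k] l) = F (residue A a) * algebraMap K (DualNumber K) l := fun a l =>
    Algebra.TensorProduct.lift_tmul _ _ _ _ _
  have hfst : ∀ z, TrivSqZeroExt.fst (Φ z) = ψ z := fun z => by
    induction z using TensorProduct.induction_on with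
    | zero => simp
    | add z z' hz hz' => rw [map_add, map_add, TrivSqZeroExt.fst_add, hz, hz']
    | tmul a l =>
      rw [hΦ, TrivSqZeroExt.fst_mul, show a ⊗ₜ[k] l = (a ⊗ₜ[k] (1 : K)) * ((1 : A) ⊗ₜ[k] l) by
        rw [Algebra.TensorProduct.tmul_mul_tmul, mul_one, one_mul], map_mul, hψ1]
      simp [F, hφ, ψA, TrivSqZeroExt.algebraMap_eq_inl']
  obtain ⟨a, rfl⟩ := residue_surjective t
  let w : A ⊗[k] K := a ⊗ₜ[k] (1 : K) - (1 : A) ⊗ₜ[k] φ (residue A a)
  have hw : w ∈ P := (hψ _).1 (by rw [map_sub, hψ1, hφ]; exact sub_self _)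
  have hwB : algebraMap _ (Localization.AtPrime P) w ∈
      ((maximalIdeal A).map (algebraMap A (A ⊗[k] K))).map (algebraMap _ (Localization.AtPrime P)) := by
    rw [Ideal.map_map, ← IsScalarTower.algebraMap_eq, hm, IsLocalization.AtPrime.to_map_mem_maximal_iff _ P]
    exact hw
  obtain ⟨⟨⟨z, hz⟩, s⟩, hs⟩ := (IsLocalization.mem_map_algebraMap_iff P.primeCompl _).1 hwB
  obtain ⟨u, hu⟩ := (IsLocalization.eq_iff_exists P.primeCompl (Localization.AtPrime P)).1
    (show algebraMap _ (Localization.AtPrime P) (w * s) = algebraMap _ _ z by rw [map_mul]; exact hs)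
  have hΦz : Φ z = 0 := by
    have : (maximalIdeal A).map (algebraMap A (A ⊗[k] K)) ≤ RingHom.ker Φ.toRingHom :=
      Ideal.map_le_iff_le_comap.2 fun r hr => by
        show Φ (r ⊗ₜ[k] (1 : K)) = 0
        rw [hΦ, (residue_eq_zero_iff r).2 hr, map_zero, zero_mul]
    exact this hz
  have hunit : ∀ s : P.primeCompl, IsUnit (Φ s) := fun s => by
    rw [TrivSqZeroExt.isUnit_iff_isUnit_fst, isUnit_iff_ne_zero, hfst]
    exact fun h => s.2 ((hψ _).1 h)
  have h0 : Φ w = 0 := by
    have h2 := congrArg Φ hu
    rw [map_mul, map_mul, map_mul, hΦz, mul_zero, (hunit u).mul_right_eq_zero, (hunit s).mul_left_eq_zero] at h2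
    exact h2
  refine hf ?_
  have h3 := congrArg TrivSqZeroExt.snd h0
  simp [w, hΦ, F, D, TrivSqZeroExt.algebraMap_eq_inl'] at h3
  exact h3

end Groth.Agent.NodeLib7
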