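import Groth.Agent.NodeLib7.Descent
import Groth.Agent.NodeLib7.Tensor
import Groth.Agent.NodeLib7.Radicial
import Groth.Agent.HenselLib.HullNoeth
import Mathlib.FieldTheory.IsAlgClosed.Basic
import Mathlib.FieldTheory.PurelyInseparable.Basic
import Mathlib.RingTheory.RingHom.Flat

/-!
# Nodes and geometric points
-/

set_option autoImplicit false
set_option backward.isDefEq.respectTransparency false
set_option linter.style.haveILetI false

universe u

open IsLocalRing TensorProduct

namespace Groth.Agent.NodeLib7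

open EGA43.DeltaBaseChange

/-- Over an algebraically closed residue field a nondegenerate quadratic relation splits. -/
theorem exists_split {B : Type u} [CommRing B] [IsLocalRing B] [IsAlgClosed (ResidueField B)] {x y a b c : B}
    (h : NodeData B x y a b c) : ∃ x' y', NodeData B x' y' 0 1 0 := by
  have hxm : x ∈ maximalIdeal B := h.span ▸ Ideal.subset_span (by simp)
  have hym : y ∈ maximalIdeal B := h.span ▸ Ideal.subset_span (by simp)
  have hone : residue B (4 * 0 * 0 - 1 ^ 2) ≠ 0 := by simp
  have hd : 4 * residue B a * residue B c - residue B b ^ 2 ≠ 0 := by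
    simpa [map_sub, map_mul, map_pow, map_ofNat] using h.disc
  have cube : ∀ u ∈ maximalIdeal B, ∀ v ∈ maximalIdeal B, ∀ w ∈ maximalIdeal B,
      u * (v * w) ∈ maximalIdeal B ^ 3 := fun u hu v hv w hw => by
    rw [pow_succ', pow_two]; exact Ideal.mul_mem_mul hu (Ideal.mul_mem_mul hv hw)
  rcases eq_or_ne (residue B a) 0 with ha | ha
  · have hb : residue B b ≠ 0 := fun hb => hd (by rw [ha, hb]; ring)
    obtain ⟨bi, hbi⟩ : ∃ bi, bi * b = 1 :=
      (IsLocalRing.notMem_maximalIdeal.1 fun h0 => hb ((residue_eq_zero_iff b).2 h0)).exists_left_inv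
    refine ⟨b * x + c * y, y, ⟨le_antisymm (Ideal.span_le.2 ?_) ?_, hone, ?_, ?_, h.reg⟩⟩
    · exact Set.insert_subset (add_mem (Ideal.mul_mem_left _ _ hxm) (Ideal.mul_mem_left _ _ hym))
        (Set.singleton_subset_iff.2 hym)
    · rw [← h.span, Ideal.span_le]
      rintro z (rfl | rfl)
      · exact Ideal.mem_span_pair.2 ⟨bi, -(bi * c), by linear_combination z * hbi⟩
      · exact Ideal.subset_span (by simp)
    · have := sub_mem h.rel (cube a ((residue_eq_zero_iff a).1 ha) x hxm x hxm)
      convert this using 1; ring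
    · intro r s hrs
      obtain ⟨h1, h2⟩ := h.indep (r * b) (r * c + s) (by convert hrs using 1; ring)
      have hr : r ∈ maximalIdeal B := by
        have := Ideal.mul_mem_left _ bi h1
        rwa [show bi * (r * b) = r by linear_combination r * hbi] at this
      exact ⟨hr, by simpa using sub_mem h2 (Ideal.mul_mem_right c _ hr)⟩
  · obtain ⟨l₁, hl₁⟩ : ∃ l, residue B a * l ^ 2 + residue B b * l + residue B c = 0 := by
      obtain ⟨l, hl⟩ := IsAlgClosed.exists_root (Polynomial.C (residue B a) * Polynomial.X ^ 2 +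
        Polynomial.C (residue B b) * Polynomial.X + Polynomial.C (residue B c)) (by
          rw [Polynomial.degree_quadratic ha]; decide)
      exact ⟨l, by simpa using hl⟩
    set l₂ := -(residue B b / residue B a) - l₁ with hl₂
    have hsum : residue B a * (l₁ + l₂) = -residue B b := by rw [hl₂]; field_simp; ring
    have hprod : residue B a * (l₁ * l₂) = residue B c := by
      linear_combination l₁ * hsum - hl₁
    have hne : l₁ ≠ l₂ := fun he => hd (by rw [← hprod, ← he]; rw [← he] at hsum; linear_combination (residue B b - 2 * residue B a * l₁) * hsum * (-1))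
    obtain ⟨L₁, rfl⟩ := residue_surjective l₁
    obtain ⟨L₂, hL₂⟩ := residue_surjective l₂
    rw [← hL₂] at hsum hprod hne
    obtain ⟨ai, hai⟩ : ∃ ai, ai * a = 1 :=
      (IsLocalRing.notMem_maximalIdeal.1 fun h0 => ha ((residue_eq_zero_iff a).2 h0)).exists_left_inv
    obtain ⟨di, hdi⟩ : ∃ di, di * (L₂ - L₁) = 1 :=
      (IsLocalRing.notMem_maximalIdeal.1 fun h0 => hne (by
        rw [← residue_eq_zero_iff, map_sub, sub_eq_zero] at h0; exact h0.symm)).exists_left_inv
    refine ⟨x - L₁ * y, x - L₂ * y, ⟨le_antisymm (Ideal.span_le.2 ?_) ?_, hone, ?_, ?_, h.reg⟩⟩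
    · exact Set.insert_subset (sub_mem hxm (Ideal.mul_mem_left _ _ hym))
        (Set.singleton_subset_iff.2 (sub_mem hxm (Ideal.mul_mem_left _ _ hym)))
    · rw [← h.span, Ideal.span_le]
      rintro z (rfl | rfl)
      · exact Ideal.mem_span_pair.2 ⟨1 + L₁ * di, -(L₁ * di), by linear_combination L₁ * y * hdi⟩
      · exact Ideal.mem_span_pair.2 ⟨di, -di, by linear_combination z * hdi⟩
    · have h1 : -a * (L₁ + L₂) - b ∈ maximalIdeal B := by
        rw [← residue_eq_zero_iff, map_sub, map_mul, map_neg, map_add]; linear_combination -hsum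
      have h2 : a * (L₁ * L₂) - c ∈ maximalIdeal B := by
        rw [← residue_eq_zero_iff, map_sub, map_mul, map_mul]; linear_combination hprod
      have := Ideal.mul_mem_left _ ai (add_mem h.rel (add_mem (cube _ h1 x hxm y hym) (cube _ h2 y hym y hym)))
      convert this using 1
      linear_combination -(x - L₁ * y) * (x - L₂ * y) * hai
    · intro r s hrs
      obtain ⟨h1, h2⟩ := h.indep (r + s) (-(r * L₁ + s * L₂)) (by convert hrs using 1; ring)
      have hs : s ∈ maximalIdeal B := by
        have := Ideal.mul_mem_left _ di (add_mem (Ideal.mul_mem_left _ L₁ h1) h2)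
        have := neg_mem this
        rwa [show -(di * (L₁ * (r + s) + -(r * L₁ + s * L₂))) = s by linear_combination s * hdi] at this
      exact ⟨by simpa using sub_mem h1 hs, hs⟩

/-- A node whose residue field is an algebraically closed field of scalars is an ordinary double point. -/
theorem exists_split_equiv {B : Type u} [CommRing B] [IsLocalRing B] [IsNoetherianRing B] {K : Type u} [Field K]
    [IsAlgClosed K] (j : K →+* B) (hbij : Function.Bijective ((residue B).comp j)) {x y a b c : B}
    (h : NodeData B x y a b c) :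
    ∃ e : AdicCompletion (maximalIdeal B) B ≃+*
        (MvPowerSeries (Fin 2) K ⧸ Ideal.span {(MvPowerSeries.X 0 * MvPowerSeries.X 1 : MvPowerSeries (Fin 2) K)}),
      ∀ t : K, e (algebraMap B _ (j t)) = Ideal.Quotient.mk _ (MvPowerSeries.C t) := by
  letI : Algebra K B := j.toAlgebra
  replace hbij : Function.Bijective (algebraMap K (ResidueField B)) := hbij
  let ρ := RingEquiv.ofBijective (algebraMap K (ResidueField B)) hbij
  haveI : IsAlgClosed (ResidueField B) := IsAlgClosed.of_ringEquiv K _ ρ
  haveI : Algebra.FormallySmooth K (ResidueField B) :=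
    Algebra.FormallySmooth.of_equiv (AlgEquiv.ofBijective (Algebra.ofId K (ResidueField B)) hbij)
  obtain ⟨x', y', h'⟩ := exists_split h
  obtain ⟨e, he⟩ := exists_completion_equiv (k := K) h'
  let μ : MvPowerSeries (Fin 2) (ResidueField B) ≃+* MvPowerSeries (Fin 2) K :=
    RingEquiv.ofRingHom (MvPowerSeries.map ρ.symm.toRingHom) (MvPowerSeries.map ρ.toRingHom)
      (RingHom.ext fun p => MvPowerSeries.ext fun d => by simp)
      (RingHom.ext fun p => MvPowerSeries.ext fun d => by simp)
  have hμ : Ideal.span {(MvPowerSeries.X 0 * MvPowerSeries.X 1 : MvPowerSeries (Fin 2) K)} =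
      (Ideal.span {qf (residue B 0) (residue B 1) (residue B 0)}).map μ.toRingHom := by
    rw [Ideal.map_span, Set.image_singleton]
    congr 2
    show _ = MvPowerSeries.map ρ.symm.toRingHom _
    simp [qf]
  refine ⟨e.trans (Ideal.quotientEquiv _ _ μ hμ), fun t => ?_⟩
  show Ideal.quotientEquiv _ _ μ hμ (e (algebraMap B _ (algebraMap K B t))) = _
  rw [he, Ideal.quotientEquiv_mk]
  congr 1
  show MvPowerSeries.map ρ.symm.toRingHom (MvPowerSeries.C _) = _
  rw [MvPowerSeries.map_C]
  congr 1
  exact ρ.symm_apply_apply t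

variable {k : Type u} [Field k] {A : Type u} [CommRing A] [IsLocalRing A] [Algebra k A]
  {K : Type u} [Field K] [Algebra k K] (P : Ideal (A ⊗[k] K)) [P.IsPrime]
  (hP : P.comap (algebraMap A (A ⊗[k] K)) = maximalIdeal A)

include hP in
/-- Every geometric point over a node is an ordinary double point. -/
theorem exists_split_completion [IsAlgClosed K] [Algebra.IsIntegral k K] [Module.Finite k (ResidueField A)]
    [Algebra.IsSeparable k (ResidueField A)] [IsNoetherianRing (Localization.AtPrime P)]
    {x y a b c : A} (h : NodeData A x y a b c) :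
    ∃ e : AdicCompletion (maximalIdeal (Localization.AtPrime P)) (Localization.AtPrime P) ≃+*
        (MvPowerSeries (Fin 2) K ⧸ Ideal.span {(MvPowerSeries.X 0 * MvPowerSeries.X 1 : MvPowerSeries (Fin 2) K)}),
      ∀ t : K, e (algebraMap (Localization.AtPrime P) _ (algebraMap (A ⊗[k] K) (Localization.AtPrime P)
          ((Algebra.TensorProduct.includeRight : K →ₐ[k] A ⊗[k] K) t))) =
        Ideal.Quotient.mk _ (MvPowerSeries.C t) := by
  haveI := isLocalHom P hP
  exact exists_split_equiv _ (residue_bijective P hP) (h.map (map_eq_maximalIdeal_of_isSeparable P hP))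

include hP in
/-- Descent through a separable extension followed by a purely inseparable one. -/
theorem map_eq_of_tower (ks : Type u) [Field ks] [Algebra k ks] [Algebra ks K] [IsScalarTower k ks K]
    [Algebra.IsSeparable k ks] [IsPurelyInseparable ks K]
    [IsNoetherianRing (Localization.AtPrime P)]
    (e : AdicCompletion (maximalIdeal (Localization.AtPrime P)) (Localization.AtPrime P) ≃+*
        (MvPowerSeries (Fin 2) K ⧸ Ideal.span {(MvPowerSeries.X 0 * MvPowerSeries.X 1 : MvPowerSeries (Fin 2) K)})) :
    (maximalIdeal A).map (algebraMap A (Localization.AtPrime P)) = maximalIdeal (Localization.AtPrime P) := by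
  haveI := isLocalHom P hP
  let B := Localization.AtPrime P
  have hq : Ideal.span {qf (0 : K) 1 0} =
      Ideal.span {(MvPowerSeries.X 0 * MvPowerSeries.X 1 : MvPowerSeries (Fin 2) K)} := by simp [qf]
  let e' : AdicCompletion (maximalIdeal B) B ≃+* QQ (0 : K) 1 0 := e.trans (Ideal.quotEquivOfEq hq.symm)
  let η : A ⊗[k] ks →ₐ[k] A ⊗[k] K := Algebra.TensorProduct.map (AlgHom.id k A) (IsScalarTower.toAlgHom k ks K)
  let P' : Ideal (A ⊗[k] ks) := P.comap η.toRingHom
  have hP' : P'.comap (algebraMap A (A ⊗[k] ks)) = maximalIdeal A := by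
    rw [← hP]; ext a
    show η (a ⊗ₜ[k] (1 : ks)) ∈ P ↔ a ⊗ₜ[k] (1 : K) ∈ P
    simp [η]
  let A' := Localization.AtPrime P'
  let θ : A' →+* B := Localization.localRingHom P' P η.toRingHom rfl
  have hηflat : η.toRingHom.Flat := by
    let e₁ := (Algebra.TensorProduct.comm k A ks).toRingEquiv
    let e₂ := ((Algebra.TensorProduct.cancelBaseChange k ks ks K A).restrictScalars k).trans
      (Algebra.TensorProduct.comm k K A)
    let incl : (ks ⊗[k] A) →+* K ⊗[ks] (ks ⊗[k] A) :=
      (Algebra.TensorProduct.includeRight : (ks ⊗[k] A) →ₐ[ks] K ⊗[ks] (ks ⊗[k] A)).toRingHom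
    have hincl : incl.Flat := by
      have h1 : (algebraMap (ks ⊗[k] A) ((ks ⊗[k] A) ⊗[ks] K)).Flat := by
        rw [RingHom.flat_algebraMap_iff]; infer_instance
      have h2 := h1.comp (RingHom.Flat.of_bijective
        (f := (Algebra.TensorProduct.comm ks (ks ⊗[k] A) K).toRingEquiv.toRingHom)
        (Algebra.TensorProduct.comm ks (ks ⊗[k] A) K).bijective)
      exact h2
    have he : η.toRingHom = (e₂.toRingEquiv.toRingHom.comp incl).comp e₁.toRingHom := by
      refine RingHom.ext fun z => ?_
      induction z using TensorProduct.induction_on with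
      | zero => simp
      | add z z' hz hz' => rw [map_add, map_add, hz, hz']
      | tmul a l =>
        show η (a ⊗ₜ[k] l) = e₂ ((1 : K) ⊗ₜ[ks] (l ⊗ₜ[k] a))
        simp [η, e₂, Algebra.smul_def]
    rw [he]
    exact (RingHom.Flat.of_bijective e₁.bijective).comp
      (hincl.comp (RingHom.Flat.of_bijective e₂.toRingEquiv.bijective))
  have hθflat : θ.Flat := RingHom.Flat.localRingHom hηflat P P' rfl
  letI : Algebra A' B := θ.toAlgebra
  haveI : Module.Flat A' B := hθflat
  haveI : IsLocalHom (algebraMap A' B) := Localization.isLocalHom_localRingHom P' P η.toRingHom rfl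
  haveI : Module.FaithfullyFlat A' B := Module.FaithfullyFlat.of_flat_of_isLocalHom
  haveI : IsNoetherianRing A' := HenselLib.isNoetherianRing_of_faithfullyFlat A' B
  haveI : IsScalarTower A A' B := IsScalarTower.of_algebraMap_eq fun a => by
    rw [IsScalarTower.algebraMap_apply A (A ⊗[k] K) B, IsScalarTower.algebraMap_apply A (A ⊗[k] ks) A']
    exact ((Localization.localRingHom_to_map P' P η.toRingHom rfl _).trans
      (congrArg _ (by simp [η]))).symm
  haveI := isReduced_tensor_of_isSeparable_right k (ResidueField A) ks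
  have h1 : (maximalIdeal A).map (algebraMap A A') = maximalIdeal A' := map_eq_maximalIdeal_of_isReduced P' hP'
  suffices h2 : (maximalIdeal A').map (algebraMap A' B) = maximalIdeal B by
    rw [← h2, ← h1, Ideal.map_map, ← IsScalarTower.algebraMap_eq]
  -- into the completion
  let C := AdicCompletion (maximalIdeal B) B
  haveI : IsScalarTower A' B C := inferInstance
  haveI : Module.Flat A' C := Module.Flat.trans A' B C
  haveI : IsLocalHom (algebraMap A' C) := by
    rw [IsScalarTower.algebraMap_eq A' B C]; infer_instance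
  haveI := isLocalRing_QQ (0 : K) 1 0
  let Q := QQ (0 : K) 1 0
  let π : MvPowerSeries (Fin 2) K →+* Q := Ideal.Quotient.mk _
  let X := e'.symm (π (MvPowerSeries.X 0))
  let Y := e'.symm (π (MvPowerSeries.X 1))
  have hspan : Ideal.span {X, Y} = maximalIdeal C := by
    rw [show maximalIdeal C = ((maximalIdeal (MvPowerSeries (Fin 2) K)).map π).map e'.symm.toRingHom by
      rw [IsLocalRing.map_maximalIdeal_of_surjective π Ideal.Quotient.mk_surjective,
        IsLocalRing.map_maximalIdeal_of_surjective e'.symm.toRingHom e'.symm.surjective],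
      maximalIdeal_eq_span, Ideal.map_span, Set.image_pair, Ideal.map_span, Set.image_pair]
    rfl
  have hXY : X * Y = 0 := by
    show e'.symm _ * e'.symm _ = 0
    rw [← map_mul, ← map_mul, show π (MvPowerSeries.X 0 * MvPowerSeries.X 1) = 0 from
      Ideal.Quotient.eq_zero_iff_mem.2 (Ideal.subset_span (by simp [qf])), map_zero]
  have hpow : ∀ (i : Fin 2) n, (e'.symm (π (MvPowerSeries.X i))) ^ n ≠ 0 := by
    intro i n h0
    rw [← map_pow, ← map_pow, map_eq_zero_iff _ e'.symm.injective, Ideal.Quotient.eq_zero_iff_mem, hq,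
      Ideal.mem_span_singleton] at h0
    obtain ⟨w, hw⟩ := h0
    classical
    have h1 := congrArg (MvPowerSeries.coeff (Finsupp.single i n)) hw
    rw [MvPowerSeries.X_pow_eq, MvPowerSeries.coeff_monomial_same, mul_assoc, MvPowerSeries.X_def,
      MvPowerSeries.X_def, ← mul_assoc, MvPowerSeries.monomial_mul_monomial, MvPowerSeries.coeff_monomial_mul,
      if_neg] at h1
    · exact one_ne_zero h1
    · intro hle
      have h0 := hle 0
      have h1' := hle 1
      fin_cases i <;> simp at h0 h1'
  have hmC : maximalIdeal C = (maximalIdeal B).map (algebraMap B C) := AdicCompletion.maximalIdeal_eq_map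
  have happ : ∀ z : C, ∃ b : B, algebraMap B C b - z ∈ maximalIdeal C ^ 2 := by
    intro z
    obtain ⟨b, hb⟩ := CAlgH.exists_sub_mem_pow (algebraMap B C) hmC.symm (fun w => by
      obtain ⟨r, hr⟩ := (AdicCompletion.residueField_map_bijective_of_fg
        (IsNoetherian.noetherian (maximalIdeal B))).2 (residue C w)
      obtain ⟨r, rfl⟩ := residue_surjective r
      rw [IsLocalRing.ResidueField.map_residue] at hr
      exact ⟨r, by have := neg_mem (Ideal.Quotient.eq.1 hr); rwa [neg_sub] at this⟩) 2 z
    exact ⟨b, by rw [← neg_sub]; exact neg_mem hb⟩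
  obtain ⟨x₀, hx₀⟩ := happ X
  obtain ⟨y₀, hy₀⟩ := happ Y
  -- every element of `B` has a power in `A'`
  haveI : Nontrivial (A ⊗[k] K) := nontrivial_of_ne (0 : A ⊗[k] K) 1 fun h0 =>
    Ideal.IsPrime.ne_top ‹P.IsPrime› ((Ideal.eq_top_iff_one _).2 (h0 ▸ P.zero_mem))
  let p := ringExpChar k
  haveI : ExpChar k p := inferInstance
  haveI : ExpChar K p := expChar_of_injective_algebraMap (algebraMap k K).injective p
  haveI : ExpChar ks p := expChar_of_injective_algebraMap (algebraMap k ks).injective p
  haveI : ExpChar (A ⊗[k] K) p := expChar_of_injective_algebraMap (algebraMap k (A ⊗[k] K)).injective p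
  have hT : ∀ t : A ⊗[k] K, ∃ n, ∀ m ≥ n, t ^ p ^ m ∈ η.toRingHom.range := by
    intro t
    induction t using TensorProduct.induction_on with
    | zero => exact ⟨0, fun m _ => ⟨0, by rw [map_zero, zero_pow (pow_ne_zero _ (expChar_pos k p).ne')]⟩⟩
    | add t t' ht ht' =>
      obtain ⟨n, hn⟩ := ht
      obtain ⟨n', hn'⟩ := ht'
      exact ⟨max n n', fun m hm => by
        rw [add_pow_expChar_pow]
        exact add_mem (hn m (le_of_max_le_left hm)) (hn' m (le_of_max_le_right hm))⟩
    | tmul a l =>
      obtain ⟨n, ⟨w, hw⟩⟩ := IsPurelyInseparable.pow_mem ks p l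
      refine ⟨n, fun m hm => ?_⟩
      obtain ⟨d, rfl⟩ := Nat.exists_eq_add_of_le hm
      refine ⟨(a ^ p ^ (n + d)) ⊗ₜ[k] (w ^ p ^ d), ?_⟩
      show η _ = _
      rw [Algebra.TensorProduct.tmul_pow]
      simp [η, pow_add, pow_mul, ← hw]
  have hBpow : ∀ b : B, ∃ n, ∀ m ≥ n, b ^ p ^ m ∈ (algebraMap A' B).range := by
    intro b
    obtain ⟨t, s, rfl⟩ := IsLocalization.exists_mk'_eq P.primeCompl b
    obtain ⟨n, hn⟩ := hT t
    obtain ⟨n', hn'⟩ := hT s
    refine ⟨max n n', fun m hm => ?_⟩
    obtain ⟨t', ht'⟩ := hn m (le_of_max_le_left hm)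
    obtain ⟨s', hs'⟩ := hn' m (le_of_max_le_right hm)
    have hs'P : s' ∈ P'.primeCompl := fun h => s.2 (Ideal.IsPrime.mem_of_pow_mem ‹_› (p ^ m)
      (by rw [← hs']; exact h))
    refine ⟨IsLocalization.mk' A' t' (⟨s', hs'P⟩ : P'.primeCompl), ?_⟩
    show θ _ = _
    rw [Localization.localRingHom_mk', ← IsLocalization.mk'_pow]
    exact congrArg₂ _ ht' (Subtype.ext (hs'.trans (SubmonoidClass.coe_pow _ _).symm))
  obtain ⟨n, hn⟩ := hBpow x₀
  obtain ⟨n', hn'⟩ := hBpow y₀
  have himg : ∀ b : B, b ∈ (algebraMap A' B).range → algebraMap B C b ∈ (algebraMap A' C).range := by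
    rintro _ ⟨w, rfl⟩; exact ⟨w, IsScalarTower.algebraMap_apply A' B C w⟩
  have hC : (maximalIdeal A').map (algebraMap A' C) = maximalIdeal C :=
    map_eq_of_radicial hspan hXY (hpow 0) (hpow 1) hx₀ hy₀ (q := p ^ max n n')
      (pow_pos (expChar_pos k p) _)
      (by rw [← map_pow]; exact himg _ (hn _ (le_max_left _ _)))
      (by rw [← map_pow]; exact himg _ (hn' _ (le_max_right _ _)))
  haveI : Module.FaithfullyFlat B C := Module.FaithfullyFlat.of_flat_of_isLocalHom
  rw [← Ideal.comap_map_eq_self_of_faithfullyFlat (B := C) ((maximalIdeal A').map (algebraMap A' B)),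
    Ideal.map_map, ← IsScalarTower.algebraMap_eq, hC, hmC, Ideal.comap_map_eq_self_of_faithfullyFlat]


include hP in
/-- A geometric node forces a separable residue field and node data downstairs. -/
theorem exists_nodeData_of_geometric [IsAlgClosed K] [Algebra.IsAlgebraic k K] [Module.Finite k (ResidueField A)] [IsNoetherianRing A]
    [IsNoetherianRing (Localization.AtPrime P)]
    (e : AdicCompletion (maximalIdeal (Localization.AtPrime P)) (Localization.AtPrime P) ≃+*
        (MvPowerSeries (Fin 2) K ⧸ Ideal.span {(MvPowerSeries.X 0 * MvPowerSeries.X 1 : MvPowerSeries (Fin 2) K)})) :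
    Algebra.IsSeparable k (ResidueField A) ∧ _root_.IsReduced A ∧ ∃ x y a b c : A, NodeData A x y a b c := by
  haveI := isLocalHom P hP
  let B := Localization.AtPrime P
  have hq : Ideal.span {qf (0 : K) 1 0} =
      Ideal.span {(MvPowerSeries.X 0 * MvPowerSeries.X 1 : MvPowerSeries (Fin 2) K)} := by simp [qf]
  let e' : AdicCompletion (maximalIdeal B) B ≃+* QQ (0 : K) 1 0 := e.trans (Ideal.quotEquivOfEq hq.symm)
  have hd : (4 : K) * 0 * 0 - 1 ^ 2 ≠ 0 := by simp
  obtain ⟨X', Y', a', b', c', hB⟩ := exists_nodeRel_of_completion hd e'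
  haveI : _root_.IsReduced B := (nodeData_of_completion hd e').1
  suffices hm : (maximalIdeal A).map (algebraMap A B) = maximalIdeal B by
    haveI := isSeparable_of_map_eq P hP hm
    exact ⟨inferInstance, exists_nodeData_of_flat hB hm⟩
  haveI : IsPurelyInseparable (separableClosure k K) K := separableClosure.isPurelyInseparable k K
  haveI : Algebra.IsSeparable k (separableClosure k K) := separableClosure.isSeparable k K
  exact map_eq_of_tower P hP (separableClosure k K) e

end Groth.Agent.NodeLib7
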