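import Groth.Agent.NodeLib7.Core
import Groth.Agent.Et18.Translate
import Groth.Agent.CAlgH.AnalyticallyUnramified
import Groth.Agent.CAlgH.CohenFactor
import Groth.Agent.CAlgH.PowerSeriesComplete
import Groth.Agent.CAlgH3.CompleteHom

/-!
# The completion of a flat family at a node
-/

set_option autoImplicit false
set_option linter.style.haveILetI false

universe u

open IsLocalRing MvPowerSeries Finsupp

namespace Groth.Agent.NodeLib7

open Et18 in
/-- Normal form over a complete local ring, keeping the residues of the quadratic part. -/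
theorem exists_normal_quot {A : Type u} [CommRing A] [IsLocalRing A] [IsAdicComplete (maximalIdeal A) A]
    (F : MvPowerSeries (Fin 2) A) (hq : VanCyc.QuadNondeg (VanCyc.quadPart F))
    (h0 : constantCoeff F ∈ maximalIdeal A) (hl : ∀ i, coeff (single i 1) F ∈ maximalIdeal A) :
    ∃ (a b c h : A), h ∈ maximalIdeal A ∧ a - coeff (single 0 1 + single 0 1) F ∈ maximalIdeal A ∧
      b - coeff (single 0 1 + single 1 1) F ∈ maximalIdeal A ∧ c - coeff (single 1 1 + single 1 1) F ∈ maximalIdeal A ∧
      Nonempty ((MvPowerSeries (Fin 2) A ⧸ Ideal.span {F}) ≃ₐ[A]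
        (MvPowerSeries (Fin 2) A ⧸ Ideal.span {qf a b c - MvPowerSeries.C h})) := by
  classical
  obtain ⟨c, τ, hc, hτ, hlin⟩ := exists_gradient_zero F hq hl (I := maximalIdeal A)
  have hcong := coeff_translate_sub_mem (I := maximalIdeal A) (τ := τ.toAlgHom) hc hτ F
  have hd : ∀ d, coeff d (τ F) - coeff d F ∈ maximalIdeal A := fun d => by rw [← map_sub]; exact hcong d
  have ha : constantCoeff (τ F) ∈ maximalIdeal A := by
    have := add_mem (hd 0) h0
    simpa using this
  have hqp' : ∀ i j, VanCyc.quadPart (τ F) i j - VanCyc.quadPart F i j ∈ maximalIdeal A := fun i j => by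
    unfold VanCyc.quadPart
    split_ifs
    · exact hd _
    · exact hd _
    · simp
  have hq' : VanCyc.QuadNondeg (VanCyc.quadPart (τ F)) := by
    have e : (residue A).mapMatrix (VanCyc.polarMatrix (VanCyc.quadPart (τ F))) =
        (residue A).mapMatrix (VanCyc.polarMatrix (VanCyc.quadPart F)) := by
      ext i j
      have hr := fun i j => Ideal.Quotient.eq.2 (hqp' i j)
      simp only [RingHom.mapMatrix_apply, Matrix.map_apply, VanCyc.polarMatrix]
      split_ifs
      · rw [map_mul, map_mul]; exact congrArg _ (hr i i)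
      · exact hr i j
      · exact hr j i
    unfold VanCyc.QuadNondeg at hq ⊢
    refine isUnit_of_map_unit (residue A) _ ?_
    rw [RingHom.map_det, e, ← RingHom.map_det]
    exact hq.map _
  refine ⟨coeff (single 0 1 + single 0 1) (τ F), coeff (single 0 1 + single 1 1) (τ F),
    coeff (single 1 1 + single 1 1) (τ F), -constantCoeff (τ F), neg_mem ha, hd _, hd _, hd _, ?_⟩
  set f := τ F - MvPowerSeries.C (constantCoeff (τ F)) with hf
  have hne : ∀ d : Fin 2 →₀ ℕ, d ≠ 0 → coeff d f = coeff d (τ F) := fun d hd => by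
    rw [hf, map_sub, coeff_C, if_neg hd, sub_zero]
  have hlow : VanCyc.NoLowTerms f := ⟨by simp [hf], fun i => by rw [hne _ (by simp)]; exact hlin i⟩
  have hqp : VanCyc.quadPart f = VanCyc.quadPart (τ F) := by
    funext i j
    unfold VanCyc.quadPart
    split_ifs
    · exact hne _ (by simp)
    · exact hne _ (by simp)
    · rfl
  have hord := ordGE_sub_quadPart hlow
  rw [hqp, map_zero, add_zero, hf, sub_sub, add_comm (MvPowerSeries.C _)] at hord
  obtain ⟨_, _, _, _, ⟨e⟩⟩ := exists_subst_eq_qSeries_add (VanCyc.quadPart (τ F)) hq' (constantCoeff (τ F)) le_rfl hord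
  have eQ : qSeries (VanCyc.quadPart (τ F)) + MvPowerSeries.C (constantCoeff (τ F)) =
      qf (coeff (single 0 1 + single 0 1) (τ F)) (coeff (single 0 1 + single 1 1) (τ F))
        (coeff (single 1 1 + single 1 1) (τ F)) - MvPowerSeries.C (-constantCoeff (τ F)) := by
    simp [qSeries, VanCyc.quadEval, cTab, Fin.sum_univ_two, VanCyc.quadPart, ← Finsupp.single_add]
    ring
  rw [eQ] at e
  exact ⟨(Ideal.quotientEquivAlg (Ideal.span {F}) (Ideal.span {τ F}) τ
    (by rw [Ideal.map_span, Set.image_singleton]; rfl)).trans e⟩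

/-- A series with all coefficients in a finitely generated ideal lies in the extended ideal. -/
theorem mem_map_C_of_coeff_mem {A : Type u} [CommRing A] {σ : Type*} {J : Ideal A} (hJ : J.FG)
    (p : MvPowerSeries σ A) (hp : ∀ d, coeff d p ∈ J) : p ∈ J.map MvPowerSeries.C := by
  classical
  obtain ⟨s, rfl⟩ := hJ
  have : ∀ d, ∃ g : A → A, ∑ t ∈ s, g t * t = coeff d p := fun d =>
    Submodule.mem_span_finset.1 (hp d) |>.imp fun g hg => by simpa [smul_eq_mul] using hg.2
  choose g hg using this
  let G : A → MvPowerSeries σ A := fun t d => g d t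
  have e : p = ∑ t ∈ s, MvPowerSeries.C t * G t := by
    ext d
    rw [map_sum]
    refine (hg d).symm.trans (Finset.sum_congr rfl fun t _ => ?_)
    rw [coeff_C_mul, mul_comm]
    rfl
  rw [e]
  exact sum_mem fun t ht => Ideal.mul_mem_right _ _ (Ideal.mem_map_of_mem _ (Submodule.subset_span ht))

theorem coeff_mem_of_mem_map_C {A : Type u} [CommRing A] {σ : Type*} {J : Ideal A}
    {p : MvPowerSeries σ A} (hp : p ∈ J.map MvPowerSeries.C) (d : σ →₀ ℕ) : coeff d p ∈ J := by
  have h : J.map (MvPowerSeries.C (σ := σ) (R := A)) ≤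
      RingHom.ker (MvPowerSeries.map (σ := σ) (Ideal.Quotient.mk J)) := by
    rw [Ideal.map_le_iff_le_comap]
    intro x hx
    rw [Ideal.mem_comap, RingHom.mem_ker, map_C, Ideal.Quotient.eq_zero_iff_mem.2 hx, map_zero]
  have h1 := congrArg (coeff d) (RingHom.mem_ker.1 (h hp))
  rwa [coeff_map, map_zero, Ideal.Quotient.eq_zero_iff_mem] at h1

/-- The kernel of a map onto a flat algebra is pure. -/
theorem mem_map_mul_ker_of_flat {A P S : Type u} [CommRing A] [CommRing P] [CommRing S] [Algebra A P] [Algebra A S]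
    [Module.Flat A S] (Φ : P →ₐ[A] S) (hΦ : Function.Surjective Φ) (J : Ideal A) {z : P}
    (hz : z ∈ RingHom.ker Φ.toRingHom) (hzJ : z ∈ J.map (algebraMap A P)) :
    z ∈ J.map (algebraMap A P) * RingHom.ker Φ.toRingHom := by
  classical
  rw [Ideal.map, Submodule.mem_span_set'] at hzJ
  obtain ⟨n, p, g, rfl⟩ := hzJ
  choose r hr hg using fun i => (g i).2
  have h0 : ∑ i, r i • Φ (p i) = 0 := by
    have h1 : Φ (∑ i, p i • (g i : P)) = 0 := hz
    rw [map_sum] at h1
    refine Eq.trans (Finset.sum_congr rfl fun i _ => ?_) h1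
    rw [smul_eq_mul, map_mul, ← hg i, AlgHom.commutes, Algebra.smul_def, mul_comm]
  obtain ⟨κ, a, y, hy, ha⟩ := Module.Flat.isTrivialRelation_of_sum_smul_eq_zero (R := A) (M := S) h0
  choose β hβ using fun j => hΦ (y j)
  have e : ∑ i, p i • (g i : P) = ∑ i, algebraMap A P (r i) * (p i - ∑ j, algebraMap A P (a i j) * β j) := by
    have h2 : ∑ i, algebraMap A P (r i) * ∑ j, algebraMap A P (a i j) * β j = 0 := by
      simp only [Finset.mul_sum, ← mul_assoc, ← map_mul]
      rw [Finset.sum_comm]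
      simp only [← Finset.sum_mul, ← map_sum, ha, map_zero, zero_mul, Finset.sum_const_zero]
    simp only [mul_sub, Finset.sum_sub_distrib, h2, sub_zero, smul_eq_mul]
    exact Finset.sum_congr rfl fun i _ => by rw [← hg i, mul_comm]
  rw [e]
  refine sum_mem fun i _ => Ideal.mul_mem_mul (Ideal.mem_map_of_mem _ (hr i)) (RingHom.mem_ker.2 ?_)
  show Φ (p i - _) = 0
  simp [map_sum, hy i, hβ, Algebra.smul_def]

/-- The completion of a surjection of local rings, with its kernel. -/
theorem exists_completion_surjection {A B : Type u} [CommRing A] [IsLocalRing A] [IsNoetherianRing A] [CommRing B]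
    [IsLocalRing B] [IsNoetherianRing B] (π : A →+* B) (hπ : Function.Surjective π) :
    ∃ φ : AdicCompletion (maximalIdeal A) A →+* AdicCompletion (maximalIdeal B) B, Function.Surjective φ ∧
      RingHom.ker φ = (RingHom.ker π).map (algebraMap A (AdicCompletion (maximalIdeal A) A)) ∧
      ∀ a : A, φ (algebraMap A _ a) = algebraMap B _ (π a) := by
  have : IsLocalHom π := IsLocalHom.of_surjective π hπ
  have := Groth.Agent.Matlis6.isNoetherianRing_adicCompletion (maximalIdeal A)
  let m := maximalIdeal A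
  let Ah := AdicCompletion m A
  have hmB : m.map π = maximalIdeal B := by
    refine le_antisymm (Ideal.map_le_iff_le_comap.mpr fun a ha h => (mem_maximalIdeal a).mp ha (isUnit_of_map_unit π a h)) fun b hb => ?_
    obtain ⟨a, rfl⟩ := hπ b
    exact Ideal.mem_map_of_mem π ((mem_maximalIdeal a).mpr fun h => (mem_maximalIdeal _).mp hb (h.map π))
  have hle : ∀ n, m ^ n ≤ (maximalIdeal B ^ n).comap π := fun n => by
    rw [← hmB, ← Ideal.map_pow]; exact Ideal.le_comap_map
  let f : (n : ℕ) → Ah →+* B ⧸ maximalIdeal B ^ n := fun n =>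
    (Ideal.quotientMap (maximalIdeal B ^ n) π (hle n)).comp (AdicCompletion.evalₐ m n).toRingHom
  have hf : ∀ {i j : ℕ} (h : i ≤ j), (Ideal.Quotient.factorPow (maximalIdeal B) h).comp (f j) = f i := by
    intro i j h
    refine RingHom.ext fun x => ?_
    induction x using AdicCompletion.induction_on with
    | _ g =>
      show Ideal.Quotient.factorPow (maximalIdeal B) h (Ideal.quotientMap _ π (hle j) (AdicCompletion.evalₐ m j (AdicCompletion.mk m A g))) = Ideal.quotientMap _ π (hle i) (AdicCompletion.evalₐ m i (AdicCompletion.mk m A g))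
      rw [AdicCompletion.evalₐ_mk, AdicCompletion.evalₐ_mk]
      have := congrArg (Ideal.quotientMap (maximalIdeal B ^ i) π (hle i)) (AdicCompletion.Ideal.mk_eq_mk m h g)
      simpa [Ideal.quotientMap_mk] using this
  let φ : Ah →+* AdicCompletion (maximalIdeal B) B := AdicCompletion.liftRingHom (maximalIdeal B) f hf
  have hfg : m.FG := IsNoetherian.noetherian m
  have hmaxA : maximalIdeal Ah = m.map (algebraMap A Ah) := AdicCompletion.maximalIdeal_eq_map
  have hφof : ∀ a : A, φ (algebraMap A Ah a) = algebraMap B _ (π a) := by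
    intro a
    refine AdicCompletion.ext_evalₐ fun n => ?_
    rw [AdicCompletion.evalₐ_liftRingHom]
    simp [f]
  have hmapB : (maximalIdeal Ah).map φ = maximalIdeal (AdicCompletion (maximalIdeal B) B) := by
    rw [hmaxA, Ideal.map_map, show φ.comp (algebraMap A Ah) = (algebraMap B _).comp π from RingHom.ext hφof,
      ← Ideal.map_map, hmB, AdicCompletion.maximalIdeal_eq_map]
  have hsurj : Function.Surjective φ := by
    have : IsHausdorff ((maximalIdeal Ah).map φ) (AdicCompletion (maximalIdeal B) B) := by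
      rw [hmapB]; infer_instance
    apply surjective_of_mk_map_comp_surjective (I := maximalIdeal Ah) φ
    intro y
    obtain ⟨y, rfl⟩ := Ideal.Quotient.mk_surjective y
    obtain ⟨b, hb⟩ := Ideal.Quotient.mk_surjective (AdicCompletion.evalOneₐ (maximalIdeal B) y)
    obtain ⟨a, rfl⟩ := hπ b
    refine ⟨algebraMap A Ah a, ?_⟩
    rw [RingHom.comp_apply, hφof, Ideal.Quotient.eq, hmapB, AdicCompletion.maximalIdeal_eq_map,
      ← AdicCompletion.ker_evalOneₐ_eq_map _ (IsNoetherian.noetherian _), RingHom.mem_ker, map_sub, sub_eq_zero]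
    exact (AlgHom.commutes _ _).trans hb
  have hker : RingHom.ker φ = (RingHom.ker π).map (algebraMap A Ah) := by
    refine le_antisymm (fun x hx => ?_) (Ideal.map_le_iff_le_comap.mpr fun a ha => ?_)
    · let P := (RingHom.ker π).map (algebraMap A Ah)
      have hH : IsHausdorff (maximalIdeal Ah) (Ah ⧸ P) := inferInstance
      rw [← Ideal.Quotient.eq_zero_iff_mem]
      refine hH.haus _ fun n => ?_
      rw [SModEq.zero]
      have h1 : f n x = 0 := by
        rw [← AdicCompletion.evalₐ_liftRingHom (maximalIdeal B) f hf]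
        show AdicCompletion.evalₐ _ n (φ x) = 0
        rw [RingHom.mem_ker.mp hx, map_zero]
      obtain ⟨a, ha⟩ := Ideal.Quotient.mk_surjective (AdicCompletion.evalₐ m n x)
      simp only [f, RingHom.comp_apply, AlgHom.toRingHom_eq_coe, RingHom.coe_coe, ← ha, Ideal.quotientMap_mk,
        Ideal.Quotient.eq_zero_iff_mem, ← hmB, ← Ideal.map_pow] at h1
      obtain ⟨b, hb, hba⟩ := (Ideal.mem_map_iff_of_surjective π hπ).mp h1
      have h2 : algebraMap A Ah (a - b) ∈ P := Ideal.mem_map_of_mem _ (by rw [RingHom.mem_ker, map_sub, hba, sub_self])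
      have h3 : x - algebraMap A Ah (a - b) ∈ maximalIdeal Ah ^ n := by
        rw [hmaxA, ← Ideal.map_pow, ← Submodule.restrictScalars_mem A, ← Ideal.smul_top_eq_map,
          AdicCompletion.pow_smul_top_eq_ker_eval hfg, LinearMap.mem_ker, map_sub, sub_eq_zero]
        have h4 : AdicCompletion.evalₐ m n (algebraMap A Ah (a - b)) = AdicCompletion.evalₐ m n x := by
          rw [AlgHom.commutes, ← ha, Ideal.Quotient.algebraMap_eq, Ideal.Quotient.eq, sub_sub_cancel_left]
          exact (m ^ n).neg_mem hb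
        rw [← AdicCompletion.factor_evalₐ_eq_eval m x (by simp), ← AdicCompletion.factor_evalₐ_eq_eval m _ (by simp), h4]
      have h5 := Submodule.smul_mem_smul h3 (Submodule.mem_top : (1 : Ah ⧸ P) ∈ (⊤ : Submodule Ah (Ah ⧸ P)))
      rw [Algebra.smul_def, mul_one, Ideal.Quotient.algebraMap_eq, map_sub, Ideal.Quotient.eq_zero_iff_mem.mpr h2, sub_zero] at h5
      exact h5
    · rw [Ideal.mem_comap, RingHom.mem_ker, hφof, RingHom.mem_ker.mp ha, map_zero]
  exact ⟨φ, hsurj, hker, hφof⟩

/-- **Completed nodal family.** A flat complete local algebra with quadratic closed fibre. -/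
theorem exists_normal_form {R S κ : Type u} [CommRing R] [IsLocalRing R] [IsNoetherianRing R]
    [IsAdicComplete (maximalIdeal R) R] [CommRing S] [IsLocalRing S] [IsNoetherianRing S]
    [IsAdicComplete (maximalIdeal S) S] [Field κ] [Algebra R S] [IsLocalHom (algebraMap R S)] [Module.Flat R S]
    (π : R →+* κ) (hπ : Function.Surjective π) (a₀ b₀ c₀ : κ) (hdisc : b₀ ^ 2 - 4 * a₀ * c₀ ≠ 0)
    (θ : S →+* QQ a₀ b₀ c₀) (hθ : Function.Surjective θ)
    (hker : RingHom.ker θ = (maximalIdeal R).map (algebraMap R S))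
    (hθR : ∀ r, θ (algebraMap R S r) = Ideal.Quotient.mk _ (MvPowerSeries.C (π r))) :
    ∃ a b c h : R, IsUnit (b ^ 2 - 4 * a * c) ∧ h ∈ maximalIdeal R ∧ π a = a₀ ∧ π b = b₀ ∧ π c = c₀ ∧
      ∃ e : S ≃+* (MvPowerSeries (Fin 2) R ⧸ Ideal.span {qf a b c - MvPowerSeries.C h}),
        ∀ r, e (algebraMap R S r) = Ideal.Quotient.mk _ (MvPowerSeries.C r) := by
  classical
  haveI : IsLocalRing (QQ a₀ b₀ c₀) := isLocalRing_QQ a₀ b₀ c₀
  have hkerπ : RingHom.ker π = maximalIdeal R :=
    IsLocalRing.eq_maximalIdeal (RingHom.ker_isMaximal_of_surjective π hπ)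
  let P := MvPowerSeries (Fin 2) R
  haveI : IsAdicComplete (maximalIdeal P) P := CAlgH.isAdicComplete_maximalIdeal_mvPowerSeries
  haveI : IsLocalHom θ := IsLocalHom.of_surjective θ hθ
  -- lifts of the variables
  choose x hx using fun i : Fin 2 => hθ (Ideal.Quotient.mk _ (MvPowerSeries.X i))
  have hX : ∀ i, (Ideal.Quotient.mk (Ideal.span {qf a₀ b₀ c₀}) (MvPowerSeries.X i) : QQ a₀ b₀ c₀) ∈
      maximalIdeal (QQ a₀ b₀ c₀) := fun i => by
    rw [← IsLocalRing.map_maximalIdeal_of_surjective _ Ideal.Quotient.mk_surjective]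
    exact Ideal.mem_map_of_mem _ (X_mem i)
  have hxm : ∀ i, x i ∈ maximalIdeal S := fun i hu => hX i (hx i ▸ hu.map θ)
  obtain ⟨f, hfC, hfX⟩ := CAlgH.exists_mvPowerSeries_eval (algebraMap R S) (maximalIdeal S) x hxm
  let Φ : P →ₐ[R] S := { f with commutes' := fun r => RingHom.congr_fun hfC r }
  have hfC' : ∀ r, f (MvPowerSeries.C r) = algebraMap R S r := fun r => RingHom.congr_fun hfC r
  let μ : P →+* QQ a₀ b₀ c₀ := (Ideal.Quotient.mk _).comp (MvPowerSeries.map π)
  have hθf : θ.comp f = μ := by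
    refine CAlgH.CohenFactor.mvPowerSeries_hom_ext_hausdorff (maximalIdeal (QQ a₀ b₀ c₀)) _ _ (fun l => ?_) (fun i => ?_) (fun i => ?_)
    · simp [μ, hfC', hθR]
    · simp [μ, hfX, hx]
    · simpa [hfX, hx] using hX i
  have hθf' : ∀ p, θ (f p) = μ p := fun p => RingHom.congr_fun hθf p
  have hμ : Function.Surjective μ := fun z => by
    obtain ⟨z, rfl⟩ := Ideal.Quotient.mk_surjective z
    choose s hs using fun d => hπ (coeff d z)
    exact ⟨(fun d => s d : P), congrArg (Ideal.Quotient.mk _) (MvPowerSeries.ext fun d =>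
      (coeff_map _ _ _).trans (hs d))⟩
  have hmapC : (maximalIdeal R).map (algebraMap R S) = ((maximalIdeal R).map MvPowerSeries.C).map f := by
    rw [Ideal.map_map, hfC]
  have hmP : (maximalIdeal R).map MvPowerSeries.C ≤ maximalIdeal P := by
    rw [Ideal.map_le_iff_le_comap]
    exact fun r hr => (IsLocalRing.mem_maximalIdeal _).2 fun hu =>
      (IsLocalRing.mem_maximalIdeal _).1 hr (MvPowerSeries.constantCoeff_C (σ := Fin 2) r ▸ hu.map MvPowerSeries.constantCoeff)
  have hfm : (maximalIdeal P).map f ≤ maximalIdeal S := by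
    rw [Ideal.map_le_iff_le_comap]
    intro p hp
    refine (IsLocalRing.mem_maximalIdeal _).2 fun hu => ?_
    have h1 : IsUnit (μ p) := hθf' p ▸ hu.map θ
    haveI : IsLocalHom μ := IsLocalHom.of_surjective μ hμ
    exact (IsLocalRing.mem_maximalIdeal _).1 hp (isUnit_of_map_unit μ p h1)
  have happrox : ∀ z : S, ∃ p : P, z - f p ∈ (maximalIdeal R).map (algebraMap R S) := fun z => by
    obtain ⟨p, hp⟩ := hμ (θ z)
    exact ⟨p, hker ▸ RingHom.mem_ker.2 (by rw [map_sub, hθf', hp, sub_self])⟩
  have hsurj : Function.Surjective f := by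
    refine CAlgH3.surjective_of_maximalIdeal_le f hfm (fun z => ?_) (fun z hz => ?_)
    · obtain ⟨z, rfl⟩ := residue_surjective z
      obtain ⟨p, hp⟩ := happrox z
      exact ⟨p, (Ideal.Quotient.eq.2 (IsLocalRing.map_maximalIdeal_le _ hp)).symm⟩
    · refine Ideal.mem_sup_left ?_
      obtain ⟨p, hp⟩ := happrox z
      have hpm : p ∈ maximalIdeal P := by
        refine (IsLocalRing.mem_maximalIdeal _).2 fun hu => ?_
        have := sub_mem hz (IsLocalRing.map_maximalIdeal_le _ hp)
        rw [sub_sub_cancel] at this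
        exact (IsLocalRing.mem_maximalIdeal _).1 this (hu.map f)
      rw [← sub_add_cancel z (f p)]
      exact add_mem (Ideal.map_mono hmP (hmapC ▸ hp)) (Ideal.mem_map_of_mem _ hpm)
  -- a lift of the equation
  obtain ⟨a, rfl⟩ := hπ a₀
  obtain ⟨b, rfl⟩ := hπ b₀
  obtain ⟨c, rfl⟩ := hπ c₀
  have hqm : MvPowerSeries.map π (qf a b c) = qf (π a) (π b) (π c) := by simp [qf]
  have h1 : f (qf a b c) ∈ ((maximalIdeal R).map MvPowerSeries.C).map f := by
    rw [← hmapC, ← hker, RingHom.mem_ker, hθf']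
    show Ideal.Quotient.mk _ (MvPowerSeries.map π (qf a b c)) = 0
    rw [hqm, Ideal.Quotient.eq_zero_iff_mem]
    exact Ideal.mem_span_singleton_self _
  obtain ⟨w, hw, hwf⟩ := (Ideal.mem_map_iff_of_surjective f hsurj).1 h1
  let F : P := qf a b c - w
  have hFK : F ∈ RingHom.ker f := RingHom.mem_ker.2 (by rw [map_sub, hwf, sub_self])
  have hFd : ∀ d, coeff d F - coeff d (qf a b c) ∈ maximalIdeal R := fun d => by
    simpa [F] using neg_mem (coeff_mem_of_mem_map_C hw d)
  have hmapF : MvPowerSeries.map π F = qf (π a) (π b) (π c) := by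
    rw [← hqm]
    ext d
    rw [coeff_map, coeff_map, ← sub_eq_zero, ← map_sub, ← RingHom.mem_ker, hkerπ]
    exact hFd d
  -- the kernel
  have hK : RingHom.ker f = Ideal.span {F} := by
    refine le_antisymm ?_ ((Ideal.span_singleton_le_iff_mem _).2 hFK)
    refine Submodule.le_of_le_smul_of_le_jacobson_bot (I := maximalIdeal P) (IsNoetherian.noetherian _)
      (IsLocalRing.jacobson_eq_maximalIdeal ⊥ bot_ne_top).ge fun G hG => ?_
    have h2 : μ G = 0 := by rw [← hθf', RingHom.mem_ker.1 hG, map_zero]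
    obtain ⟨g, hg⟩ := Ideal.mem_span_singleton'.1 (Ideal.Quotient.eq_zero_iff_mem.1 h2)
    choose s hs using fun d => hπ (coeff d g)
    let g' : P := fun d => s d
    have hg' : MvPowerSeries.map π g' = g := MvPowerSeries.ext fun d => (coeff_map _ _ _).trans (hs d)
    have hz : G - g' * F ∈ (maximalIdeal R).map MvPowerSeries.C := by
      refine mem_map_C_of_coeff_mem (IsNoetherian.noetherian _) _ fun d => ?_
      rw [← hkerπ, RingHom.mem_ker, ← coeff_map, map_sub, map_mul, hg', hmapF, hg, sub_self, map_zero]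
    have hz' : G - g' * F ∈ RingHom.ker Φ.toRingHom := sub_mem hG (Ideal.mul_mem_left _ _ hFK)
    have h3 := mem_map_mul_ker_of_flat Φ hsurj (maximalIdeal R) hz' (by rwa [← MvPowerSeries.c_eq_algebraMap])
    rw [Submodule.mem_sup]
    refine ⟨g' * F, Ideal.mem_span_singleton'.2 ⟨g', rfl⟩, G - g' * F, ?_, by ring⟩
    rw [← MvPowerSeries.c_eq_algebraMap] at h3
    exact Ideal.mul_mono_left hmP h3
  -- normal form
  have hdF : VanCyc.QuadNondeg (VanCyc.quadPart F) := by
    unfold VanCyc.QuadNondeg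
    refine isUnit_of_map_unit (residue R) _ ?_
    rw [isUnit_iff_ne_zero, Matrix.det_fin_two]
    intro h0
    apply hdisc
    obtain ⟨k0, k1, k2⟩ := coeff_qf a b c
    have e0 := hFd (single 0 1 + single 0 1)
    have e1 := hFd (single 0 1 + single 1 1)
    have e2 := hFd (single 1 1 + single 1 1)
    rw [k0] at e0; rw [k1] at e1; rw [k2] at e2
    simp only [← hkerπ, RingHom.mem_ker, map_sub, sub_eq_zero] at e0 e1 e2
    rw [residue_eq_zero_iff, ← hkerπ, RingHom.mem_ker] at h0
    simp [VanCyc.polarMatrix, VanCyc.quadPart, ← Finsupp.single_add] at h0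
    simp only [← Finsupp.single_add, one_add_one_eq_two] at e0 e2
    rw [map_ofNat] at h0
    rw [← e0, ← e1, ← e2]
    linear_combination -h0
  have hcoef0 : ∀ d : Fin 2 →₀ ℕ, Finsupp.degree d ≠ 2 → coeff d F ∈ maximalIdeal R := fun d hd => by
    have h4 := hFd d
    rwa [qf_eq_qSeries, Et18.coeff_qSeries_of_degree_ne _ hd, sub_zero] at h4
  obtain ⟨a', b', c', h, hh, ha', hb', hc', ⟨e₁⟩⟩ := exists_normal_quot F hdF
    (by rw [← MvPowerSeries.coeff_zero_eq_constantCoeff_apply]; exact hcoef0 0 (by simp))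
    (fun i => hcoef0 _ (by simp))
  have hπeq : ∀ {u v w : R}, u - v ∈ maximalIdeal R → v - w ∈ maximalIdeal R → π u = π w := fun {u v w} h1 h2 => by
    rw [← hkerπ, RingHom.mem_ker, map_sub, sub_eq_zero] at h1 h2
    exact h1.trans h2
  obtain ⟨k0, k1, k2⟩ := coeff_qf a b c
  have hπa : π a' = π a := hπeq ha' (by have := hFd (single 0 1 + single 0 1); rwa [k0] at this)
  have hπb : π b' = π b := hπeq hb' (by have := hFd (single 0 1 + single 1 1); rwa [k1] at this)
  have hπc : π c' = π c := hπeq hc' (by have := hFd (single 1 1 + single 1 1); rwa [k2] at this)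
  let e₀ : (P ⧸ Ideal.span {F}) ≃+* S :=
    (Ideal.quotEquivOfEq hK.symm).trans (RingHom.quotientKerEquivOfSurjective hsurj)
  refine ⟨a', b', c', h, ?_, hh, hπa, hπb, hπc, e₀.symm.trans e₁.toRingEquiv, fun r => ?_⟩
  · refine IsLocalRing.notMem_maximalIdeal.1 fun hm => hdisc ?_
    rw [← hkerπ, RingHom.mem_ker] at hm
    simpa [hπa, hπb, hπc, map_sub, map_mul, map_pow, map_ofNat] using hm
  · have he : e₀ (Ideal.Quotient.mk _ (MvPowerSeries.C r)) = algebraMap R S r := hfC' r
    show e₁ (e₀.symm (algebraMap R S r)) = _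
    rw [← he, RingEquiv.symm_apply_apply]
    exact e₁.commutes r

end Groth.Agent.NodeLib7
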