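import Groth.Agent.NodeLib7.FromCompletion
import Mathlib.RingTheory.Flat.EquationalCriterion

/-!
# Nodes and flat unramified local homomorphisms
-/

set_option autoImplicit false
set_option linter.style.haveILetI false

universe u

open IsLocalRing

namespace Groth.Agent.NodeLib7

variable {A B : Type u} [CommRing A] [IsLocalRing A] [CommRing B] [IsLocalRing B]

/-- The data together with the uniqueness of the quadratic relation. -/
structure NodeRel (A : Type u) [CommRing A] [IsLocalRing A] (x y a b c : A) : Prop where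
  data : NodeData A x y a b c
  uniq : ∀ r s t : A, r * x ^ 2 + s * x * y + t * y ^ 2 ∈ maximalIdeal A ^ 3 →
    ∃ l : A, residue A r = residue A (l * a) ∧ residue A s = residue A (l * b) ∧ residue A t = residue A (l * c)

theorem exists_nodeRel_of_completion {κ : Type u} [Field κ] {a₀ b₀ c₀ : κ} [IsNoetherianRing A]
    (h : 4 * a₀ * c₀ - b₀ ^ 2 ≠ 0) (e : AdicCompletion (maximalIdeal A) A ≃+* QQ a₀ b₀ c₀) :
    ∃ x y a b c : A, NodeRel A x y a b c := by
  obtain ⟨-, x, y, a, b, c, hd, hu⟩ := nodeData_of_completion h e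
  exact ⟨x, y, a, b, c, hd, hu⟩

/-- Change of generators. -/
theorem NodeRel.change {X Y a b c : B} (h : NodeRel B X Y a b c) {x y : B}
    (hspan : Ideal.span {x, y} = maximalIdeal B) : ∃ a' b' c' : B, NodeRel B x y a' b' c' := by
  have hx : x ∈ maximalIdeal B := hspan ▸ Ideal.subset_span (by simp)
  have hy : y ∈ maximalIdeal B := hspan ▸ Ideal.subset_span (by simp)
  have hX : X ∈ maximalIdeal B := h.data.span ▸ Ideal.subset_span (by simp)
  have hY : Y ∈ maximalIdeal B := h.data.span ▸ Ideal.subset_span (by simp)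
  obtain ⟨α, β, hαβ⟩ := Ideal.mem_span_pair.1 (hspan.symm ▸ hX)
  obtain ⟨γ, δ, hγδ⟩ := Ideal.mem_span_pair.1 (hspan.symm ▸ hY)
  obtain ⟨p, q, hpq⟩ := Ideal.mem_span_pair.1 (h.data.span.symm ▸ hx)
  obtain ⟨r, s, hrs⟩ := Ideal.mem_span_pair.1 (h.data.span.symm ▸ hy)
  -- the matrices are inverse to each other modulo the maximal ideal
  have h1 := h.data.indep (α * p + β * r - 1) (α * q + β * s) (by
    have : (α * p + β * r - 1) * X + (α * q + β * s) * Y = 0 := by
      linear_combination α * hpq + β * hrs + hαβ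
    rw [this]; exact zero_mem _)
  have h2 := h.data.indep (γ * p + δ * r) (γ * q + δ * s - 1) (by
    have : (γ * p + δ * r) * X + (γ * q + δ * s - 1) * Y = 0 := by
      linear_combination γ * hpq + δ * hrs + hγδ
    rw [this]; exact zero_mem _)
  simp only [← residue_eq_zero_iff, map_sub, map_add, map_mul, map_one, sub_eq_zero] at h1 h2
  obtain ⟨e11, e12⟩ := h1
  obtain ⟨e21, e22⟩ := h2
  have hdet : residue B (α * δ - β * γ) * residue B (p * s - q * r) = 1 := by
    simp only [map_sub, map_mul]
    linear_combination (residue B γ * residue B q + residue B δ * residue B s) * e11 -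
      (residue B γ * residue B p + residue B δ * residue B r) * e12 + e22
  have hu : residue B (α * δ - β * γ) ≠ 0 := left_ne_zero_of_mul_eq_one hdet
  have hu' : residue B (p * s - q * r) ≠ 0 := right_ne_zero_of_mul_eq_one hdet
  refine ⟨a * α ^ 2 + b * α * γ + c * γ ^ 2, 2 * a * α * β + b * (α * δ + β * γ) + 2 * c * γ * δ,
    a * β ^ 2 + b * β * δ + c * δ ^ 2, ⟨hspan, ?_, ?_, ?_, h.data.reg⟩, ?_⟩
  · rw [show 4 * (a * α ^ 2 + b * α * γ + c * γ ^ 2) * (a * β ^ 2 + b * β * δ + c * δ ^ 2) -
        (2 * a * α * β + b * (α * δ + β * γ) + 2 * c * γ * δ) ^ 2 =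
      (α * δ - β * γ) ^ 2 * (4 * a * c - b ^ 2) by ring, map_mul, map_pow]
    exact mul_ne_zero (pow_ne_zero _ hu) h.data.disc
  · have := h.data.rel
    rw [← hαβ, ← hγδ] at this
    convert this using 1
    ring
  · intro u v huv
    rw [← hpq, ← hrs] at huv
    obtain ⟨i1, i2⟩ := h.data.indep (u * p + v * r) (u * q + v * s) (by convert huv using 1; ring)
    rw [← residue_eq_zero_iff] at i1 i2
    simp only [map_add, map_mul] at i1 i2
    refine ⟨(residue_eq_zero_iff u).1 ?_, (residue_eq_zero_iff v).1 ?_⟩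
    · refine (mul_eq_zero.1 ?_).resolve_right hu'
      simp only [map_sub, map_mul]
      linear_combination residue B s * i1 - residue B r * i2
    · refine (mul_eq_zero.1 ?_).resolve_right hu'
      simp only [map_sub, map_mul]
      linear_combination residue B p * i2 - residue B q * i1
  · intro u v w huvw
    rw [← hpq, ← hrs] at huvw
    obtain ⟨l, k1, k2, k3⟩ := h.uniq (u * p ^ 2 + v * p * r + w * r ^ 2)
      (2 * u * p * q + v * (p * s + q * r) + 2 * w * r * s) (u * q ^ 2 + v * q * s + w * s ^ 2)
      (by convert huvw using 1; ring)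
    simp only [map_add, map_mul, map_pow, map_ofNat] at k1 k2 k3 ⊢
    -- the inverse matrix
    have i11 : residue B p * residue B α + residue B q * residue B γ = 1 := by
      refine mul_left_cancel₀ hu ?_
      simp only [map_sub, map_mul]
      linear_combination residue B δ * residue B α * e11 - residue B β * residue B α * e21 + residue B δ * residue B γ * e12 -
        residue B β * residue B γ * e22
    have i12 : residue B p * residue B β + residue B q * residue B δ = 0 := by
      refine mul_left_cancel₀ hu ?_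
      simp only [map_sub, map_mul]
      linear_combination residue B δ * residue B β * e11 - residue B β * residue B β * e21 +
        residue B δ * residue B δ * e12 - residue B β * residue B δ * e22
    have i21 : residue B r * residue B α + residue B s * residue B γ = 0 := by
      refine mul_left_cancel₀ hu ?_
      simp only [map_sub, map_mul]
      linear_combination -(residue B γ * residue B α) * e11 + residue B α * residue B α * e21 -
        residue B γ * residue B γ * e12 + residue B α * residue B γ * e22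
    have i22 : residue B r * residue B β + residue B s * residue B δ = 1 := by
      refine mul_left_cancel₀ hu ?_
      simp only [map_sub, map_mul]
      linear_combination -(residue B γ * residue B β) * e11 + residue B α * residue B β * e21 -
        residue B γ * residue B δ * e12 + residue B α * residue B δ * e22
    -- pull the proportionality back
    set P := residue B p
    set Q := residue B q
    set R := residue B r
    set S := residue B s
    set A₁ := residue B α
    set B₁ := residue B β
    set C₁ := residue B γ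
    set D₁ := residue B δ
    set U := residue B u
    set V := residue B v
    set W := residue B w
    refine ⟨l, ?_, ?_, ?_⟩
    · linear_combination A₁ ^ 2 * k1 + A₁ * C₁ * k2 + C₁ ^ 2 * k3 -
        U * (P * A₁ + Q * C₁ + 1) * i11 - V * ((R * A₁ + S * C₁) * i11 + i21) - W * (R * A₁ + S * C₁) * i21
    · linear_combination 2 * A₁ * B₁ * k1 + (A₁ * D₁ + B₁ * C₁) * k2 + 2 * C₁ * D₁ * k3 -
        2 * U * (P * A₁ + Q * C₁) * i12 - V * ((R * B₁ + S * D₁) * i11 + i22 + (R * A₁ + S * C₁) * i12) -
        2 * W * (R * B₁ + S * D₁) * i21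
    · linear_combination B₁ ^ 2 * k1 + B₁ * D₁ * k2 + D₁ ^ 2 * k3 -
        U * (P * B₁ + Q * D₁) * i12 - V * (R * B₁ + S * D₁) * i12 - W * (R * B₁ + S * D₁ + 1) * i22

section Flat

variable [Algebra A B] [IsLocalHom (algebraMap A B)] [Module.Flat A B]

theorem exists_exact_rel {x y a b c : B} (hspan : Ideal.span {x, y} = maximalIdeal B)
    (h : a * x ^ 2 + b * x * y + c * y ^ 2 ∈ maximalIdeal B ^ 3) :
    ∃ a' b' c' : B, a' * x ^ 2 + b' * (x * y) + c' * y ^ 2 = 0 ∧ a - a' ∈ maximalIdeal B ∧
      b - b' ∈ maximalIdeal B ∧ c - c' ∈ maximalIdeal B := by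
  have h3 : maximalIdeal B ^ 3 = maximalIdeal B * Ideal.span {x ^ 2, x * y, y ^ 2} := by
    rw [pow_succ', pow_two]
    congr 1
    rw [← hspan, Ideal.span_mul_span']
    refine le_antisymm (Ideal.span_le.2 ?_) (Ideal.span_le.2 ?_)
    · rintro _ ⟨u, hu, v, hv, rfl⟩
      rcases hu with rfl | rfl <;> rcases hv with rfl | rfl <;>
        refine Ideal.subset_span ?_ <;> simp [pow_two, mul_comm]
    · rintro z (rfl | rfl | rfl) <;> refine Ideal.subset_span ?_
      · exact ⟨x, by simp, x, by simp, (pow_two x).symm⟩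
      · exact ⟨x, by simp, y, by simp, rfl⟩
      · exact ⟨y, by simp, y, by simp, (pow_two y).symm⟩
  rw [h3, Ideal.mul_comm] at h
  obtain ⟨u, hu⟩ : ∃ u : B × B × B, (u.1 ∈ maximalIdeal B ∧ u.2.1 ∈ maximalIdeal B ∧ u.2.2 ∈ maximalIdeal B) ∧
      a * x ^ 2 + b * x * y + c * y ^ 2 = u.1 * x ^ 2 + u.2.1 * (x * y) + u.2.2 * y ^ 2 := by
    refine Submodule.mul_induction_on h (fun m hm n hn => ?_) ?_
    · rw [Ideal.mem_span_insert'] at hm
      obtain ⟨d, hd⟩ := hm
      obtain ⟨e, f, hef⟩ := Ideal.mem_span_pair.1 hd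
      exact ⟨(-d * n, e * n, f * n), ⟨Ideal.mul_mem_left _ _ hn, Ideal.mul_mem_left _ _ hn,
        Ideal.mul_mem_left _ _ hn⟩, by linear_combination (-n) * hef⟩
    · rintro m m' ⟨u, ⟨hu1, hu2, hu3⟩, rfl⟩ ⟨u', ⟨hv1, hv2, hv3⟩, rfl⟩
      exact ⟨(u.1 + u'.1, u.2.1 + u'.2.1, u.2.2 + u'.2.2), ⟨add_mem hu1 hv1, add_mem hu2 hv2, add_mem hu3 hv3⟩,
        by ring⟩
  obtain ⟨⟨hu1, hu2, hu3⟩, hu⟩ := hu
  exact ⟨a - u.1, b - u.2.1, c - u.2.2, by linear_combination hu, by rwa [sub_sub_cancel],
    by rwa [sub_sub_cancel], by rwa [sub_sub_cancel]⟩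

/-- Node data ascend along flat unramified local homomorphisms. -/
theorem NodeData.map {x y a b c : A} (h : NodeData A x y a b c)
    (hm : (maximalIdeal A).map (algebraMap A B) = maximalIdeal B) :
    NodeData B (algebraMap A B x) (algebraMap A B y) (algebraMap A B a) (algebraMap A B b) (algebraMap A B c) := by
  have hspan : Ideal.span {algebraMap A B x, algebraMap A B y} = maximalIdeal B := by
    rw [← hm, ← h.span, Ideal.map_span, Set.image_pair]
  refine ⟨hspan, ?_, ?_, ?_, ?_⟩
  · intro h0
    refine h.disc ?_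
    rw [residue_eq_zero_iff] at h0 ⊢
    rw [show (4 : B) * algebraMap A B a * algebraMap A B c - algebraMap A B b ^ 2 =
      algebraMap A B (4 * a * c - b ^ 2) by simp [map_sub, map_mul, map_pow, map_ofNat]] at h0
    by_contra hn
    exact (IsLocalRing.mem_maximalIdeal _).1 h0 ((IsLocalRing.notMem_maximalIdeal.1 hn).map _)
  · rw [← hm, ← Ideal.map_pow]
    have := Ideal.mem_map_of_mem (algebraMap A B) h.rel
    simpa [map_add, map_mul, map_pow] using this
  · intro r s hrs
    rw [pow_two, ← hspan, Ideal.span_mul_span'] at hrs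
    -- an exact relation
    obtain ⟨e, f, hef, hre, hsf⟩ : ∃ e f : B, e * algebraMap A B x + f * algebraMap A B y = 0 ∧
        r - e ∈ maximalIdeal B ∧ s - f ∈ maximalIdeal B := by
      have hm2 : r * algebraMap A B x + s * algebraMap A B y ∈
          maximalIdeal B * Ideal.span {algebraMap A B x, algebraMap A B y} := by
        conv => arg 1; arg 1; rw [← hspan]
        rw [Ideal.span_mul_span']; exact hrs
      obtain ⟨u, ⟨hu1, hu2⟩, hu⟩ : ∃ u : B × B, (u.1 ∈ maximalIdeal B ∧ u.2 ∈ maximalIdeal B) ∧
          r * algebraMap A B x + s * algebraMap A B y = u.1 * algebraMap A B x + u.2 * algebraMap A B y := by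
        refine Submodule.mul_induction_on hm2 (fun m hm n hn => ?_) ?_
        · obtain ⟨d, d', hd⟩ := Ideal.mem_span_pair.1 hn
          exact ⟨(m * d, m * d'), ⟨Ideal.mul_mem_right _ _ hm, Ideal.mul_mem_right _ _ hm⟩, by
            linear_combination (-m) * hd⟩
        · rintro m m' ⟨u, ⟨hu1, hu2⟩, rfl⟩ ⟨u', ⟨hv1, hv2⟩, rfl⟩
          exact ⟨(u.1 + u'.1, u.2 + u'.2), ⟨add_mem hu1 hv1, add_mem hu2 hv2⟩, by ring⟩
      exact ⟨r - u.1, s - u.2, by linear_combination hu, by rwa [sub_sub_cancel], by rwa [sub_sub_cancel]⟩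
    obtain ⟨n, M, z, hz, hM⟩ := Module.Flat.isTrivialRelation_of_sum_smul_eq_zero (f := ![x, y]) (x := ![e, f]) (by
      simp [Fin.sum_univ_two, Algebra.smul_def]; linear_combination hef)
    have key : ∀ i, ![e, f] i ∈ maximalIdeal B := fun i => by
      rw [hz i]
      refine Ideal.sum_mem _ fun j _ => ?_
      rw [Algebra.smul_def]
      refine Ideal.mul_mem_right _ _ (hm ▸ Ideal.mem_map_of_mem _ ?_)
      obtain ⟨h0, h1⟩ := h.indep (M 0 j) (M 1 j) (by
        have := hM j
        rw [Fin.sum_univ_two] at this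
        simp only [Matrix.cons_val_zero, Matrix.cons_val_one] at this
        rw [show M 0 j * x + M 1 j * y = 0 by linear_combination this]
        exact zero_mem _)
      fin_cases i
      · exact h0
      · exact h1
    refine ⟨?_, ?_⟩
    · have := add_mem hre (key 0); simpa using this
    · have := add_mem hsf (key 1); simpa using this
  · obtain ⟨t, ht, htr⟩ := h.reg
    refine ⟨algebraMap A B t, hm ▸ Ideal.mem_map_of_mem _ ht, fun z hz => ?_⟩
    have hinj : Function.Injective (LinearMap.lsmul A A t) :=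
      (injective_iff_map_eq_zero _).2 fun w hw => htr w (by simpa using hw)
    have h1 := Module.Flat.lTensor_preserves_injective_linearMap (M := B) _ hinj
    have h2 : (LinearMap.lsmul A A t).lTensor B (z ⊗ₜ 1) = 0 := by
      simp only [LinearMap.lTensor_tmul, LinearMap.lsmul_apply, TensorProduct.tmul_smul]
      rw [TensorProduct.smul_tmul', Algebra.smul_def, hz, TensorProduct.zero_tmul]
    simpa using congrArg (TensorProduct.rid A B) (h1 (h2.trans (map_zero _).symm))

/-- Node data descend along flat unramified local homomorphisms. -/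
theorem exists_nodeData_of_flat [IsNoetherianRing A] {X Y a₀ b₀ c₀ : B} (h : NodeRel B X Y a₀ b₀ c₀)
    [_root_.IsReduced B] (hm : (maximalIdeal A).map (algebraMap A B) = maximalIdeal B) :
    _root_.IsReduced A ∧ ∃ x y a b c : A, NodeData A x y a b c := by
  haveI : Module.FaithfullyFlat A B := Module.FaithfullyFlat.of_flat_of_isLocalHom
  have hred : _root_.IsReduced A :=
    isReduced_of_injective (algebraMap A B) (FaithfulSMul.algebraMap_injective A B)
  have hcomap : ∀ I : Ideal A, (I.map (algebraMap A B)).comap (algebraMap A B) = I := fun I =>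
    Ideal.comap_map_eq_self_of_faithfullyFlat I
  refine ⟨hred, ?_⟩
  have hnot : ∀ z ∈ maximalIdeal B, ¬ maximalIdeal B ≤ Ideal.span {z} ⊔ maximalIdeal B ^ 2 := by
    intro z hzm hz
    obtain ⟨p, q, hpq⟩ := Ideal.mem_span_pair.1 (h.data.span.symm ▸ hzm)
    have comb : ∀ w ∈ maximalIdeal B, ∃ d, w - d * z ∈ maximalIdeal B ^ 2 := fun w hw => by
      obtain ⟨u, hu, v, hv, rfl⟩ := Submodule.mem_sup.1 (hz hw)
      obtain ⟨d, rfl⟩ := Ideal.mem_span_singleton'.1 hu
      exact ⟨d, by simpa using hv⟩
    obtain ⟨d, hd⟩ := comb X (h.data.span ▸ Ideal.subset_span (by simp))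
    obtain ⟨d', hd'⟩ := comb Y (h.data.span ▸ Ideal.subset_span (by simp))
    obtain ⟨i1, i2⟩ := h.data.indep (1 - d * p) (-(d * q)) (by convert hd using 1; rw [← hpq]; ring)
    obtain ⟨j1, j2⟩ := h.data.indep (-(d' * p)) (1 - d' * q) (by convert hd' using 1; rw [← hpq]; ring)
    rw [← residue_eq_zero_iff] at i1 i2 j1 j2
    simp only [map_sub, map_one, map_mul, map_neg, neg_eq_zero, sub_eq_zero, mul_eq_zero] at i1 i2 j1 j2
    rcases i2 with h0 | h0
    · rw [h0, zero_mul] at i1; exact one_ne_zero i1
    · rw [h0, mul_zero] at j2; exact one_ne_zero j2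
  -- two elements of the maximal ideal of `A` generating that of `B`
  obtain ⟨x, hxm, hx⟩ : ∃ x ∈ maximalIdeal A, algebraMap A B x ∉ maximalIdeal B ^ 2 := by
    by_contra hall
    push Not at hall
    refine hnot X (h.data.span ▸ Ideal.subset_span (by simp)) ?_
    exact (hm.symm.le.trans (Ideal.map_le_iff_le_comap.2 fun z hz => hall z hz :
      (maximalIdeal A).map (algebraMap A B) ≤ maximalIdeal B ^ 2)).trans le_sup_right
  have hxB : algebraMap A B x ∈ maximalIdeal B := hm ▸ Ideal.mem_map_of_mem _ hxm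
  obtain ⟨y, hym, hy⟩ : ∃ y ∈ maximalIdeal A, algebraMap A B y ∉
      Ideal.span {algebraMap A B x} ⊔ maximalIdeal B ^ 2 := by
    by_contra hall
    push Not at hall
    exact hnot _ hxB (hm.symm.le.trans (Ideal.map_le_iff_le_comap.2 fun z hz => hall z hz))
  have hyB : algebraMap A B y ∈ maximalIdeal B := hm ▸ Ideal.mem_map_of_mem _ hym
  have hspanB : Ideal.span {algebraMap A B x, algebraMap A B y} = maximalIdeal B := by
    obtain ⟨p, q, hpq⟩ := Ideal.mem_span_pair.1 (h.data.span.symm ▸ hxB)
    obtain ⟨r, s, hrs⟩ := Ideal.mem_span_pair.1 (h.data.span.symm ▸ hyB)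
    have hu : IsUnit (p * s - q * r) := by
      by_contra hu
      rw [← mem_nonunits_iff, ← IsLocalRing.mem_maximalIdeal, ← residue_eq_zero_iff, map_sub, map_mul, map_mul,
        sub_eq_zero] at hu
      -- the second is then a multiple of the first
      obtain ⟨l, hl⟩ : ∃ l : B, residue B r = residue B (l * p) ∧ residue B s = residue B (l * q) := by
        rcases eq_or_ne (residue B p) 0 with hp | hp
        · have hq : residue B q ≠ 0 := fun hq => hx (by
            rw [← hpq, pow_two]
            exact add_mem (Ideal.mul_mem_mul ((residue_eq_zero_iff p).1 hp) (h.data.span ▸ Ideal.subset_span (by simp)))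
              (Ideal.mul_mem_mul ((residue_eq_zero_iff q).1 hq) (h.data.span ▸ Ideal.subset_span (by simp))))
          obtain ⟨l, hl⟩ := residue_surjective (residue B s / residue B q)
          rw [hp, zero_mul] at hu
          exact ⟨l, by rw [map_mul, hp, mul_zero]; exact (mul_eq_zero.1 hu.symm).resolve_left hq,
            by rw [map_mul, hl, div_mul_cancel₀ _ hq]⟩
        · obtain ⟨l, hl⟩ := residue_surjective (residue B r / residue B p)
          refine ⟨l, by rw [map_mul, hl, div_mul_cancel₀ _ hp], ?_⟩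
          rw [map_mul, hl, div_mul_eq_mul_div, eq_div_iff hp]
          linear_combination hu
      refine hy (Submodule.mem_sup.2 ⟨l * algebraMap A B x, Ideal.mem_span_singleton'.2 ⟨l, rfl⟩,
        (r - l * p) * X + (s - l * q) * Y, ?_, by linear_combination hrs - l * hpq⟩)
      rw [pow_two]
      refine add_mem (Ideal.mul_mem_mul ?_ (h.data.span ▸ Ideal.subset_span (by simp)))
        (Ideal.mul_mem_mul ?_ (h.data.span ▸ Ideal.subset_span (by simp))) <;>
        rw [← residue_eq_zero_iff, map_sub, sub_eq_zero]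
      exacts [hl.1, hl.2]
    obtain ⟨w, hw⟩ := hu.exists_left_inv
    refine le_antisymm (Ideal.span_le.2 (Set.insert_subset hxB (Set.singleton_subset_iff.2 hyB))) ?_
    rw [← h.data.span, Ideal.span_le]
    rintro z (rfl | rfl)
    · refine Ideal.mem_span_pair.2 ⟨w * s, -(w * q), ?_⟩
      linear_combination z * hw - w * s * hpq + w * q * hrs
    · refine Ideal.mem_span_pair.2 ⟨-(w * r), w * p, ?_⟩
      linear_combination z * hw + w * r * hpq - w * p * hrs
  obtain ⟨a', b', c', h'⟩ := h.change hspanB
  have hspanA : Ideal.span {x, y} = maximalIdeal A := by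
    rw [← hcomap (Ideal.span {x, y}), Ideal.map_span, Set.image_pair, hspanB, ← hm, hcomap]
  have hindA : ∀ u v : A, u * x + v * y ∈ maximalIdeal A ^ 2 → u ∈ maximalIdeal A ∧ v ∈ maximalIdeal A := by
    intro u v huv
    have := Ideal.mem_map_of_mem (algebraMap A B) huv
    rw [Ideal.map_pow, hm, map_add, map_mul, map_mul] at this
    obtain ⟨i1, i2⟩ := h'.data.indep _ _ this
    exact ⟨hcomap (maximalIdeal A) ▸ hm.symm ▸ i1, hcomap (maximalIdeal A) ▸ hm.symm ▸ i2⟩
  obtain ⟨a₁, b₁, c₁, hexact, ha₁, hb₁, hc₁⟩ := exists_exact_rel hspanB h'.data.rel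
  obtain ⟨n, M, z, hz, hM⟩ := Module.Flat.isTrivialRelation_of_sum_smul_eq_zero (f := ![x ^ 2, x * y, y ^ 2]) (x := ![a₁, b₁, c₁]) (by
    simp [Fin.sum_univ_three, Algebra.smul_def]; linear_combination hexact)
  obtain ⟨i, j, hij⟩ : ∃ i j, M i j ∉ maximalIdeal A := by
    by_contra hall
    push Not at hall
    have key : ∀ i, ![a₁, b₁, c₁] i ∈ maximalIdeal B := fun i => by
      rw [hz i]
      refine Ideal.sum_mem _ fun j _ => ?_
      rw [Algebra.smul_def]
      exact Ideal.mul_mem_right _ _ (hm ▸ Ideal.mem_map_of_mem _ (hall i j))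
    refine h'.data.disc ?_
    have e1 : residue B a' = 0 := by
      rw [residue_eq_zero_iff]; simpa using add_mem ha₁ (key 0)
    have e2 : residue B b' = 0 := by
      rw [residue_eq_zero_iff]; simpa using add_mem hb₁ (key 1)
    simp [map_sub, map_mul, map_pow, e1, e2]
  have hrel : M 0 j * x ^ 2 + M 1 j * x * y + M 2 j * y ^ 2 = 0 := by
    have := hM j
    rw [Fin.sum_univ_three] at this
    simp only [Matrix.cons_val_zero, Matrix.cons_val_one, Matrix.cons_val_two, Matrix.head_cons,
      Matrix.tail_cons] at this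
    linear_combination this
  obtain ⟨l, l1, l2, l3⟩ := h'.uniq (algebraMap A B (M 0 j)) (algebraMap A B (M 1 j)) (algebraMap A B (M 2 j)) (by
    rw [← map_pow, ← map_pow, ← map_mul, ← map_mul, ← map_mul, ← map_mul, ← map_add, ← map_add, hrel, map_zero]
    exact zero_mem _)
  have hl : residue B l ≠ 0 := by
    intro hl
    refine hij ?_
    rw [map_mul, hl, zero_mul, residue_eq_zero_iff] at l1 l2 l3
    fin_cases i
    · exact hcomap (maximalIdeal A) ▸ hm.symm ▸ l1
    · exact hcomap (maximalIdeal A) ▸ hm.symm ▸ l2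
    · exact hcomap (maximalIdeal A) ▸ hm.symm ▸ l3
  refine ⟨x, y, M 0 j, M 1 j, M 2 j, hspanA, ?_, by rw [hrel]; exact zero_mem _, hindA, ?_⟩
  · intro h0
    rw [residue_eq_zero_iff] at h0
    have h1 := hm ▸ Ideal.mem_map_of_mem (algebraMap A B) h0
    rw [← residue_eq_zero_iff] at h1
    refine h'.data.disc ?_
    simp only [map_sub, map_mul, map_pow, map_ofNat] at h1 ⊢
    rw [l1, l2, l3, map_mul, map_mul, map_mul] at h1
    have e : residue B l ^ 2 * (4 * residue B a' * residue B c' - residue B b' ^ 2) = 0 := by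
      linear_combination h1
    exact (mul_eq_zero.1 e).resolve_left (pow_ne_zero _ hl)
  · haveI := hred
    refine exists_regular fun hF => hx ?_
    rw [IsLocalRing.isField_iff_maximalIdeal_eq.1 hF, Ideal.mem_bot] at hxm
    rw [hxm, map_zero]
    exact zero_mem _

end Flat

end Groth.Agent.NodeLib7
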