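import Groth.Agent.CAlgH3.Factorial

/-!
# Principal ideals in two-dimensional regular local rings
-/

set_option autoImplicit false
set_option linter.style.haveILetI false

universe u

open IsLocalRing

namespace Groth.Agent.NodeLib7

variable {T : Type u} [CommRing T] [IsRegularLocalRing T]

/-- A prime of a regular local ring of dimension at most two containing two relatively prime elements,
one of them nonzero, is the maximal ideal. -/
theorem eq_maximalIdeal_of_isRelPrime_regular (hdim : ringKrullDim T ≤ 2) {f g : T} (hf : f ≠ 0)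
    (hfg : IsRelPrime f g) {P : Ideal T} (hP : P.IsPrime) (hfP : f ∈ P) (hgP : g ∈ P) :
    P = maximalIdeal _ := by
  haveI : IsDomain T := CAlgH3.isDomain_of_isRegularLocalRing T
  haveI := CAlgH3.ufm_of_regular T
  by_contra hne
  have hP0 : P ≠ ⊥ := fun h => hf (by rw [h, Ideal.mem_bot] at hfP; exact hfP)
  obtain ⟨p, hpP, hp⟩ := Ideal.IsPrime.exists_mem_prime_of_ne_bot hP hP0
  have hlt : P < maximalIdeal _ := lt_of_le_of_ne (IsLocalRing.le_maximalIdeal hP.ne_top) hne
  have hPp : P = Ideal.span {p} := by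
    by_contra hPp
    haveI hsp : (Ideal.span {p}).IsPrime := (Ideal.span_singleton_prime hp.ne_zero).2 hp
    have h1 : Ideal.span {p} < P := lt_of_le_of_ne ((Ideal.span_singleton_le_iff_mem _).2 hpP) (Ne.symm hPp)
    have h0 : (⊥ : Ideal T) < Ideal.span {p} :=
      bot_lt_iff_ne_bot.2 fun h => hp.ne_zero (Ideal.span_singleton_eq_bot.1 h)
    let l : LTSeries (PrimeSpectrum T) :=
      RelSeries.fromListIsChain [⟨⊥, Ideal.isPrime_bot⟩, ⟨Ideal.span {p}, hsp⟩, ⟨P, hP⟩,
        ⟨maximalIdeal _, inferInstance⟩] (by simp) (by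
          simp only [List.isChain_cons_cons, List.IsChain.singleton, and_true]
          exact ⟨h0, h1, hlt⟩)
    have h3 := (Order.LTSeries.length_le_krullDim l).trans hdim
    change ((3 : ℕ) : WithBot ℕ∞) ≤ ((2 : ℕ) : WithBot ℕ∞) at h3
    exact absurd (Nat.cast_le.1 h3) (by omega)
  rw [hPp, Ideal.mem_span_singleton] at hfP hgP
  exact hp.not_unit (hfg hfP hgP)

/-- An ideal inside `m²` containing an element outside `m³`, and such that some element of `m` is
regular modulo it, is generated by that element. -/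
theorem eq_span_singleton_of_regular (hdim : ringKrullDim T ≤ 2) {K : Ideal T} {F : T} (hF : F ∈ K)
    (hF3 : F ∉ maximalIdeal T ^ 3) (hK : K ≤ maximalIdeal T ^ 2)
    {t : T} (ht : t ∈ maximalIdeal T) (hreg : ∀ z, t * z ∈ K → z ∈ K) : K = Ideal.span {F} := by
  haveI : IsDomain T := CAlgH3.isDomain_of_isRegularLocalRing T
  haveI := CAlgH3.ufm_of_regular T
  have hF0 : F ≠ 0 := fun h => hF3 (h ▸ zero_mem _)
  refine le_antisymm (fun G hG => ?_) ((Ideal.span_singleton_le_iff_mem _).2 hF)
  obtain ⟨F', G', d, hco, hFd, hGd⟩ := UniqueFactorizationMonoid.exists_reduced_factors F hF0 G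
  rw [Ideal.mem_span_singleton]
  by_cases hu : IsUnit F'
  · obtain ⟨F', rfl⟩ := hu
    exact ⟨(F'⁻¹ : Tˣ) * G', by
      rw [← hFd, ← hGd]; rw [mul_assoc, Units.mul_inv_cancel_left]⟩
  exfalso
  have hF'0 : F' ≠ 0 := fun h => hF0 (by rw [← hFd, h, mul_zero])
  have hrad : t ∈ (Ideal.span {F', G'}).radical := by
    rw [Ideal.radical_eq_sInf]
    refine Ideal.mem_sInf.2 fun {P} ⟨hle, hP⟩ => ?_
    rw [eq_maximalIdeal_of_isRelPrime_regular hdim hF'0 hco hP (hle (Ideal.subset_span (by simp)))
      (hle (Ideal.subset_span (by simp)))]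
    exact ht
  obtain ⟨n, hn⟩ := hrad
  have hd : d ∈ K := by
    have h1 : t ^ n * d ∈ K := by
      obtain ⟨r, s, hrs⟩ := Ideal.mem_span_pair.1 hn
      rw [← hrs, add_mul, mul_assoc, mul_assoc, mul_comm F', mul_comm G', hFd, hGd]
      exact add_mem (Ideal.mul_mem_left _ _ hF) (Ideal.mul_mem_left _ _ hG)
    clear hn
    induction n with
    | zero => simpa using h1
    | succ n ih => exact ih (hreg _ (by rw [← mul_assoc, ← pow_succ']; exact h1))
  refine hF3 ?_
  rw [← hFd, pow_succ]
  exact Ideal.mul_mem_mul (hK hd) ((IsLocalRing.mem_maximalIdeal _).2 hu)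

end Groth.Agent.NodeLib7
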