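import Groth.Agent.NodeLib7.LocalForm
import Groth.Agent.NodeLib7.Regular
import Groth.Agent.NodeLib7.Descent
import Groth.Agent.CAlgH.AdicSmoothField
import Mathlib.RingTheory.Unramified.LocalRing

/-!
# The equation of a node in étale coordinates
-/

set_option autoImplicit false
set_option linter.style.haveILetI false

universe u

open IsLocalRing

namespace Groth.Agent.NodeLib7

variable {R : Type u} [CommRing R] {B : Type u} [CommRing B] [Algebra R B] {t : Fin 2 → B}

theorem IsFrame.pd_mem_map (h : IsFrame R t) (p : Ideal R) (i : Fin 2) {z : B}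
    (hz : z ∈ p.map (algebraMap R B)) : h.pd i z ∈ p.map (algebraMap R B) := by
  refine Submodule.span_induction ?_ ?_ ?_ ?_ hz
  · rintro _ ⟨r, _, rfl⟩
    rw [Derivation.map_algebraMap]
    exact zero_mem _
  · rw [map_zero]; exact zero_mem _
  · intro x y _ _ hx hy
    rw [map_add]; exact add_mem hx hy
  · intro a x hxm hx
    rw [smul_eq_mul, Derivation.leibniz, smul_eq_mul, smul_eq_mul]
    exact add_mem (Ideal.mul_mem_left _ _ hx) (Ideal.mul_mem_right _ _ hxm)

theorem derivation_mem_pow (D : Derivation R B B) (Q : Ideal B) :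
    ∀ (n : ℕ) {z : B}, z ∈ Q ^ (n + 1) → D z ∈ Q ^ n
  | 0, z, _ => by simp
  | n + 1, z, hz => by
    rw [pow_succ'] at hz
    refine Submodule.mul_induction_on hz (fun x hx y hy => ?_) fun x y hx hy => by
      rw [map_add]; exact add_mem hx hy
    rw [Derivation.leibniz, smul_eq_mul, smul_eq_mul]
    refine add_mem ?_ (Ideal.mul_mem_right _ _ hy)
    rw [pow_succ']
    exact Ideal.mul_mem_mul hx (derivation_mem_pow D Q n hy)

/-- Gradient and Hessian of a function congruent to a quadratic form in the coordinates. -/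
theorem IsFrame.quad_facts (h : IsFrame R t) (p : Ideal R) (Q : Ideal B) (hpQ : p.map (algebraMap R B) ≤ Q)
    (ht : ∀ i, t i ∈ Q) {a b c G : B}
    (hG : G - (a * t 0 ^ 2 + b * t 0 * t 1 + c * t 1 ^ 2) ∈ p.map (algebraMap R B)) :
    (∀ i, h.pd i G ∈ Q) ∧ (h.hess G).det - (4 * a * c - b ^ 2) ∈ Q ∧
      ∀ i j, h.pd i (h.pd j G) - (!![2 * a, b; b, 2 * c] : Matrix (Fin 2) (Fin 2) B) i j ∈ Q := by
  have hπ : ∀ z ∈ p.map (algebraMap R B), Ideal.Quotient.mk Q z = 0 := fun z hz =>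
    Ideal.Quotient.eq_zero_iff_mem.2 (hpQ hz)
  have h1 : ∀ i, h.pd i G - h.pd i (a * t 0 ^ 2 + b * t 0 * t 1 + c * t 1 ^ 2) ∈ p.map (algebraMap R B) :=
    fun i => by rw [← map_sub]; exact h.pd_mem_map p i hG
  have h2 : ∀ i j, h.pd i (h.pd j G) - h.pd i (h.pd j (a * t 0 ^ 2 + b * t 0 * t 1 + c * t 1 ^ 2)) ∈
      p.map (algebraMap R B) := fun i j => by rw [← map_sub]; exact h.pd_mem_map p i (h1 j)
  have ht' : ∀ i, Ideal.Quotient.mk Q (t i) = 0 := fun i => Ideal.Quotient.eq_zero_iff_mem.2 (ht i)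
  have hgrad : ∀ i, h.pd i G ∈ Q := by
    intro i
    rw [← Ideal.Quotient.eq_zero_iff_mem]
    have := hπ _ (h1 i)
    rw [map_sub, sub_eq_zero] at this
    rw [this]
    simp [Derivation.leibniz, pow_two, ht']
  have hM : ∀ i j, h.pd i (h.pd j G) - (!![2 * a, b; b, 2 * c] : Matrix (Fin 2) (Fin 2) B) i j ∈ Q := by
    intro i j
    rw [← Ideal.Quotient.eq]
    have := hπ _ (h2 i j)
    rw [map_sub, sub_eq_zero] at this
    rw [this]
    fin_cases i <;> fin_cases j <;>
      simp [Derivation.leibniz, pow_two, h.pd_coord, ht', map_ofNat] <;> ring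
  refine ⟨hgrad, ?_, hM⟩
  rw [← Ideal.Quotient.eq, Matrix.det_fin_two]
  have e : ∀ i j, Ideal.Quotient.mk Q (h.hess G i j) =
      Ideal.Quotient.mk Q ((!![2 * a, b; b, 2 * c] : Matrix (Fin 2) (Fin 2) B) i j) := fun i j =>
    Ideal.Quotient.eq.2 (hM i j)
  rw [map_sub, map_mul, map_mul, e, e, e, e]
  simp [map_ofNat]
  ring

/-- A nondegenerate quadratic form in the coordinates has order exactly two. -/
theorem IsFrame.quad_not_mem_cube (h : IsFrame R t) (p : Ideal R) (Q : Ideal B) [Q.IsPrime]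
    (hpQ : p.map (algebraMap R B) ≤ Q) (ht : ∀ i, t i ∈ Q) {a b c s : B} (hs : s ∉ Q)
    (hd : 4 * a * c - b ^ 2 ∉ Q) :
    s * (a * t 0 ^ 2 + b * t 0 * t 1 + c * t 1 ^ 2) ∉ Q ^ 3 ⊔ p.map (algebraMap R B) := by
  intro hmem
  obtain ⟨-, -, hM⟩ := h.quad_facts p Q hpQ ht (a := s * a) (b := s * b) (c := s * c)
    (G := s * (a * t 0 ^ 2 + b * t 0 * t 1 + c * t 1 ^ 2)) (by ring_nf; exact zero_mem _)
  have h0 : ∀ i j, h.pd i (h.pd j (s * (a * t 0 ^ 2 + b * t 0 * t 1 + c * t 1 ^ 2))) ∈ Q := by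
    intro i j
    obtain ⟨x, hx, y, hy, hxy⟩ := Submodule.mem_sup.1 hmem
    rw [← hxy, map_add, map_add]
    refine add_mem ?_ (hpQ (h.pd_mem_map p i (h.pd_mem_map p j hy)))
    simpa using derivation_mem_pow (h.pd i) Q 1 (derivation_mem_pow (h.pd j) Q 2 hx)
  have key : ∀ i j, (!![2 * (s * a), s * b; s * b, 2 * (s * c)] : Matrix (Fin 2) (Fin 2) B) i j ∈ Q :=
    fun i j => by simpa using sub_mem (h0 i j) (hM i j)
  have hb : s * b ∈ Q := by simpa using key 0 1
  have hac : (2 * (s * a)) * (2 * (s * c)) ∈ Q := Ideal.mul_mem_right _ _ (by simpa using key 0 0)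
  have : s ^ 2 * (4 * a * c - b ^ 2) ∈ Q := by
    rw [show s ^ 2 * (4 * a * c - b ^ 2) = (2 * (s * a)) * (2 * (s * c)) - (s * b) * (s * b) by ring]
    exact sub_mem hac (Ideal.mul_mem_right _ _ hb)
  exact (Ideal.IsPrime.mem_or_mem ‹_› this).elim (fun h' => hs (Ideal.IsPrime.mem_of_pow_mem ‹_› 2 h')) hd

/-- The coordinates generate the maximal ideal of a point of a fibre. -/
theorem IsFrame.maximalIdeal_le (h : IsFrame R t) (p : Ideal R) (Q : Ideal B) [Q.IsPrime]
    (hQp : Q.comap (algebraMap R B) = p) (ht : ∀ i, t i ∈ Q) :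
    maximalIdeal (Localization.AtPrime Q) ≤
      (p.map (algebraMap R B) ⊔ Ideal.span (Set.range t)).map (algebraMap B (Localization.AtPrime Q)) := by
  algebraize [(MvPolynomial.aeval (R := R) t).toRingHom]
  haveI : Algebra.Etale (MvPolynomial (Fin 2) R) B := h
  haveI : IsScalarTower R (MvPolynomial (Fin 2) R) B :=
    IsScalarTower.of_algebraMap_eq fun r => ((MvPolynomial.aeval (R := R) t).commutes r).symm
  let S := MvPolynomial (Fin 2) R
  let p' : Ideal S := Q.under S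
  letI : Algebra (Localization.AtPrime p') (Localization.AtPrime Q) :=
    (Localization.localRingHom p' Q (algebraMap S B) rfl).toAlgebra
  haveI : Algebra.FormallyUnramified B (Localization.AtPrime Q) := .of_isLocalization Q.primeCompl
  haveI : Algebra.IsUnramifiedAt S Q := Algebra.FormallyUnramified.comp S B (Localization.AtPrime Q)
  haveI : Localization.AtPrime.IsLiesOverAlgebra p' Q := ⟨rfl⟩
  rw [← ((Algebra.isUnramifiedAt_iff_map_eq S p' Q).1 inferInstance).2,
    IsScalarTower.algebraMap_eq S B (Localization.AtPrime Q), ← Ideal.map_map]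
  refine Ideal.map_mono (Ideal.map_le_iff_le_comap.2 fun f hf => ?_)
  have key : ∀ f : S, MvPolynomial.aeval t f - algebraMap R B (MvPolynomial.aeval (fun _ => (0 : R)) f) ∈
      Ideal.span (Set.range t) := fun q => by
    induction q using MvPolynomial.induction_on with
    | C r => simp
    | add q q' hq hq' => rw [map_add, map_add, map_add, add_sub_add_comm]; exact add_mem hq hq'
    | mul_X q i hq =>
      simp only [map_mul, MvPolynomial.aeval_X, map_zero, mul_zero, sub_zero]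
      exact Ideal.mul_mem_left _ _ (Ideal.subset_span ⟨i, rfl⟩)
  have hspan : Ideal.span (Set.range t) ≤ Q := Ideal.span_le.2 fun _ ⟨i, hi⟩ => hi ▸ ht i
  have hf0 : MvPolynomial.aeval (fun _ => (0 : R)) f ∈ p := by
    rw [← hQp, Ideal.mem_comap]
    have := sub_mem (show MvPolynomial.aeval t f ∈ Q from hf) (hspan (key f))
    simpa using this
  show MvPolynomial.aeval t f ∈ p.map (algebraMap R B) ⊔ Ideal.span (Set.range t)
  rw [← sub_add_cancel (MvPolynomial.aeval t f) (algebraMap R B (MvPolynomial.aeval (fun _ => (0 : R)) f))]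
  exact add_mem (Ideal.mem_sup_right (key f)) (Ideal.mem_sup_left (Ideal.mem_map_of_mem _ hf0))

/-- **The equation of a node.** In étale coordinates an ideal cutting out, flatly over the base, a
family with a node in the fibre is generated near the node by one function with nondegenerate
critical point on the fibre. -/
theorem exists_equation_core (h : IsFrame R t) (p : Ideal R) [p.IsPrime] (Q : Ideal B) [Q.IsPrime]
    (hQp : Q.comap (algebraMap R B) = p) (ht : ∀ i, t i ∈ Q) (K : Ideal B) (hK : K.FG)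
    (hflat : K ⊓ p.map (algebraMap R B) ≤ p.map (algebraMap R B) * K)
    {O : Type u} [CommRing O] [IsLocalRing O] (ω : B →+* O)
    (hωs : ∀ o : O, ∃ b, ∃ s ∉ Q, ω s * o = ω b)
    (hωk : ∀ b, ω b = 0 ↔ ∃ s ∉ Q, s * b ∈ K ⊔ p.map (algebraMap R B))
    (hωQ : ∀ b, b ∈ Q ↔ ω b ∈ maximalIdeal O) {a b c : O}
    (hd : NodeData O (ω (t 0)) (ω (t 1)) a b c) :
    ∃ F ∈ K, ∃ g ∉ Q, (∀ z ∈ K, ∃ w, g * z = w * F) ∧ (∀ i, h.pd i F ∈ Q) ∧ (h.hess F).det ∉ Q := by
  classical
  let pB : Ideal B := p.map (algebraMap R B)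
  have hpQ : pB ≤ Q := Ideal.map_le_iff_le_comap.2 hQp.ge
  have hu : ∀ s ∉ Q, IsUnit (ω s) := fun s hs => by
    by_contra h'
    exact hs ((hωQ s).2 h')
  -- the equation
  obtain ⟨a', b', c', hexact, haa, hbb, hcc⟩ := exists_exact_rel hd.span hd.rel
  obtain ⟨A₁, s₁, hs₁, hA⟩ := hωs a'
  obtain ⟨B₁, s₂, hs₂, hB⟩ := hωs b'
  obtain ⟨C₁, s₃, hs₃, hC⟩ := hωs c'
  let q : B := (A₁ * s₂ * s₃) * t 0 ^ 2 + (B₁ * s₁ * s₃) * t 0 * t 1 + (C₁ * s₁ * s₂) * t 1 ^ 2
  have hωq : ω q = 0 := by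
    simp only [q, map_add, map_mul, map_pow, ← hA, ← hB, ← hC]
    linear_combination (ω s₁ * ω s₂ * ω s₃) * hexact
  have hdisc : 4 * (A₁ * s₂ * s₃) * (C₁ * s₁ * s₂) - (B₁ * s₁ * s₃) ^ 2 ∉ Q := by
    rw [hωQ, ← residue_eq_zero_iff]
    simp only [map_sub, map_mul, map_pow, map_ofNat, ← hA, ← hB, ← hC]
    have e : ∀ (x y : O), x - y ∈ maximalIdeal O → residue O x = residue O y := fun x y hxy =>
      Ideal.Quotient.eq.2 hxy
    have hne : ∀ s ∉ Q, residue O (ω s) ≠ 0 := fun s hs h0 => hs ((hωQ s).2 ((residue_eq_zero_iff _).1 h0))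
    have hd' := hd.disc
    simp only [map_sub, map_mul, map_pow, map_ofNat] at hd'
    rw [← e a a' haa, ← e b b' hbb, ← e c c' hcc]
    intro h0
    refine mul_ne_zero (mul_ne_zero (mul_ne_zero (pow_ne_zero 2 (hne _ hs₁)) (pow_ne_zero 2 (hne _ hs₂)))
      (pow_ne_zero 2 (hne _ hs₃))) hd' ?_
    linear_combination h0
  obtain ⟨s₀, hs₀, hmem⟩ := (hωk q).1 hωq
  obtain ⟨F, hFK, y, hy, hFy⟩ := Submodule.mem_sup.1 hmem
  have hG : F - (s₀ * (A₁ * s₂ * s₃) * t 0 ^ 2 + s₀ * (B₁ * s₁ * s₃) * t 0 * t 1 +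
      s₀ * (C₁ * s₁ * s₂) * t 1 ^ 2) ∈ pB := by
    convert neg_mem hy using 1
    linear_combination hFy
  obtain ⟨hgrad, hdet, -⟩ := h.quad_facts p Q hpQ ht hG
  have hH : (h.hess F).det ∉ Q := fun hmem' => by
    have h' := sub_mem hmem' hdet
    rw [sub_sub_cancel, show 4 * (s₀ * (A₁ * s₂ * s₃)) * (s₀ * (C₁ * s₁ * s₂)) - (s₀ * (B₁ * s₁ * s₃)) ^ 2 =
      s₀ ^ 2 * (4 * (A₁ * s₂ * s₃) * (C₁ * s₁ * s₂) - (B₁ * s₁ * s₃) ^ 2) by ring] at h'
    exact (Ideal.IsPrime.mem_or_mem ‹_› h').elim (fun h'' => hs₀ (Ideal.IsPrime.mem_of_pow_mem ‹_› 2 h'')) hdisc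
  -- the fibre
  let L := Localization.AtPrime Q
  let φ : B →+* L := algebraMap B L
  let I : Ideal L := p.map (algebraMap R L)
  have hI : pB.map φ = I := by
    rw [Ideal.map_map, ← IsScalarTower.algebraMap_eq]
  have hIm : I ≤ maximalIdeal L := by
    rw [← hI, ← Localization.AtPrime.map_eq_maximalIdeal]
    exact Ideal.map_mono hpQ
  let T := L ⧸ I
  haveI : Nontrivial T := Ideal.Quotient.nontrivial_iff.2 fun h' =>
    (maximalIdeal.isMaximal L).ne_top (top_le_iff.1 (h' ▸ hIm))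
  haveI : IsLocalRing T := IsLocalRing.of_surjective' (Ideal.Quotient.mk I) Ideal.Quotient.mk_surjective
  let η : B →+* T := (Ideal.Quotient.mk I).comp φ
  have hmT : maximalIdeal T = Q.map η := by
    rw [← IsLocalRing.map_maximalIdeal_of_surjective (Ideal.Quotient.mk I) Ideal.Quotient.mk_surjective,
      ← Localization.AtPrime.map_eq_maximalIdeal, Ideal.map_map]
  have hηu : ∀ s ∉ Q, IsUnit (η s) := fun s hs =>
    RingHom.isUnit_map (Ideal.Quotient.mk I) (IsLocalization.map_units L (⟨s, hs⟩ : Q.primeCompl))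
  have hη : ∀ z : T, ∃ b, ∃ s ∉ Q, η s * z = η b := by
    intro z
    obtain ⟨z, rfl⟩ := Ideal.Quotient.mk_surjective z
    obtain ⟨⟨b, s, hs⟩, hbs⟩ := IsLocalization.surj Q.primeCompl z
    exact ⟨b, s, hs, by rw [mul_comm]; exact (map_mul _ _ _).symm.trans (congrArg _ hbs)⟩
  have hηk : ∀ b, η b = 0 ↔ ∃ s ∉ Q, s * b ∈ pB := fun b => by
    show Ideal.Quotient.mk I (φ b) = 0 ↔ _
    rw [Ideal.Quotient.eq_zero_iff_mem, ← hI, IsLocalization.algebraMap_mem_map_algebraMap_iff Q.primeCompl]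
    rfl
  let k := p.ResidueField
  have hpk : p ≤ RingHom.ker (algebraMap R T) := fun r hr => by
    show Ideal.Quotient.mk I (algebraMap R L r) = 0
    exact Ideal.Quotient.eq_zero_iff_mem.2 (Ideal.mem_map_of_mem _ hr)
  have hpu : p.primeCompl ≤ (IsUnit.submonoid T).comap (algebraMap R T) := fun r hr => by
    show IsUnit (algebraMap R T r)
    rw [show algebraMap R T r = η (algebraMap R B r) by
      show Ideal.Quotient.mk I (algebraMap R L r) = Ideal.Quotient.mk I (φ (algebraMap R B r))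
      rw [← IsScalarTower.algebraMap_apply]]
    exact hηu _ fun h' => hr (hQp ▸ h')
  letI : Algebra k T := (Ideal.ResidueField.lift p (algebraMap R T) hpk hpu).toAlgebra
  haveI : IsScalarTower R k T := IsScalarTower.of_algebraMap_eq fun r =>
    (Ideal.ResidueField.lift_algebraMap p (algebraMap R T) hpk hpu r).symm
  haveI := h.smooth
  haveI : Algebra.EssFiniteType B L := Algebra.EssFiniteType.of_isLocalization L Q.primeCompl
  haveI : Algebra.EssFiniteType R L := Algebra.EssFiniteType.comp R B L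
  haveI : Algebra.EssFiniteType L T := Algebra.EssFiniteType.of_surjective (Algebra.ofId L T) Ideal.Quotient.mk_surjective
  haveI : Algebra.EssFiniteType R T := Algebra.EssFiniteType.comp R L T
  haveI : Algebra.EssFiniteType k T := Algebra.EssFiniteType.of_comp R k T
  haveI : IsNoetherianRing T := Algebra.EssFiniteType.isNoetherianRing k T
  haveI : Algebra.FormallySmooth B L := Algebra.FormallySmooth.of_isLocalization Q.primeCompl
  haveI : Algebra.FormallySmooth R L := Algebra.FormallySmooth.comp R B L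
  haveI : Algebra.FormallySmooth k T := by
    refine Algebra.FormallySmooth.of_comp_surjective fun W _ _ J hJ f => ?_
    letI : Algebra R W := ((algebraMap k W).comp (algebraMap R k)).toAlgebra
    haveI : IsScalarTower R k W := IsScalarTower.of_algebraMap_eq fun _ => rfl
    let f₀ : L →ₐ[R] W ⧸ J := (f.restrictScalars R).comp (Ideal.Quotient.mkₐ R I)
    let g : L →ₐ[R] W := Algebra.FormallySmooth.lift J ⟨2, hJ⟩ f₀
    have hg : ∀ z ∈ I, g z = 0 := by
      intro z hz
      have : I ≤ RingHom.ker g := Ideal.map_le_iff_le_comap.2 fun r hr => by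
        show g (algebraMap R L r) = 0
        rw [g.commutes, IsScalarTower.algebraMap_apply R k W, Ideal.algebraMap_residueField_eq_zero.2 hr, map_zero]
      exact this hz
    let g' : T →ₐ[R] W := Ideal.Quotient.liftₐ I g hg
    refine ⟨{ g'.toRingHom with commutes' := fun x => ?_ }, ?_⟩
    · have : g'.toRingHom.comp (algebraMap k T) = algebraMap k W :=
        Ideal.ResidueField.ringHom_ext (RingHom.ext fun r => by
          show g' (algebraMap k T (algebraMap R k r)) = algebraMap k W (algebraMap R k r)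
          rw [← IsScalarTower.algebraMap_apply, g'.commutes, IsScalarTower.algebraMap_apply R k W])
      exact RingHom.congr_fun this x
    · refine AlgHom.ext fun z => ?_
      obtain ⟨z, rfl⟩ := Ideal.Quotient.mk_surjective z
      exact AlgHom.congr_fun (Algebra.FormallySmooth.comp_lift J ⟨2, hJ⟩ f₀) z
  haveI : IsRegularLocalRing T := CAlgH.AdicSmooth.isRegularLocalRing_of_adicSmooth (k := k)
    fun _ _ _ J hJ ψ _ => ⟨Algebra.FormallySmooth.lift J ⟨2, hJ⟩ ψ, Algebra.FormallySmooth.comp_lift J ⟨2, hJ⟩ ψ⟩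
  have hspanT : maximalIdeal T = Ideal.span {η (t 0), η (t 1)} := by
    refine le_antisymm ?_ ?_
    · rw [← IsLocalRing.map_maximalIdeal_of_surjective (Ideal.Quotient.mk I) Ideal.Quotient.mk_surjective]
      refine (Ideal.map_mono (h.maximalIdeal_le p Q hQp ht)).trans ?_
      rw [Ideal.map_map, Ideal.map_sup, sup_le_iff]
      refine ⟨Ideal.map_le_iff_le_comap.2 fun z hz => ?_, ?_⟩
      · have : η z = 0 := (hηk z).2 ⟨1, fun h1 => (Ideal.IsPrime.ne_top ‹Q.IsPrime›)
          ((Ideal.eq_top_iff_one _).2 h1), by simpa using hz⟩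
        rw [Ideal.mem_comap]
        show η z ∈ Ideal.span {η (t 0), η (t 1)}
        rw [this]
        exact zero_mem _
      · rw [Ideal.map_span, Ideal.span_le]
        rintro _ ⟨_, ⟨i, rfl⟩, rfl⟩
        fin_cases i
        · exact Ideal.subset_span (by simp [η, φ, L])
        · exact Ideal.subset_span (by simp [η, φ, L])
    · rw [hmT, Ideal.span_le]
      exact Set.insert_subset (Ideal.mem_map_of_mem η (ht 0))
        (Set.singleton_subset_iff.2 (Ideal.mem_map_of_mem η (ht 1)))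
  have hdim : ringKrullDim T ≤ 2 := by
    refine (ringKrullDim_le_spanFinrank_maximalIdeal T).trans ?_
    rw [hspanT]
    have : (Ideal.span {η (t 0), η (t 1)} : Ideal T).spanFinrank ≤ 2 := by
      refine (Submodule.spanFinrank_span_le_ncard_of_finite (Set.toFinite _)).trans ?_
      exact (Set.ncard_insert_le _ _).trans (by simp)
    exact_mod_cast this
  let J : Ideal T := K.map η
  have hωη : ∀ z, η z = 0 → ω z = 0 := fun z hz => by
    obtain ⟨s, hs, hsz⟩ := (hηk z).1 hz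
    exact (hωk z).2 ⟨s, hs, Ideal.mem_sup_right hsz⟩
  have hJ : ∀ z, η z ∈ J ↔ ω z = 0 := by
    intro z
    constructor
    · intro hz
      have : J ≤ (Ideal.span (η '' {y' | ω y' = 0}) : Ideal T) := Ideal.map_le_iff_le_comap.2 fun k hk =>
        Ideal.subset_span ⟨k, (hωk k).2 ⟨1, fun h1 => Ideal.IsPrime.ne_top ‹Q.IsPrime›
          ((Ideal.eq_top_iff_one _).2 h1), by simpa using Ideal.mem_sup_left hk⟩, rfl⟩
      obtain ⟨w, s, hs, hw, hwz⟩ : ∃ w, ∃ s, s ∉ Q ∧ ω w = 0 ∧ η w = η s * η z := by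
        suffices H : ∀ o ∈ (Ideal.span (η '' {y' | ω y' = 0}) : Ideal T), ∃ w, ∃ s, s ∉ Q ∧ ω w = 0 ∧ η w = η s * o from
          H _ (this hz)
        intro o ho
        induction ho using Submodule.span_induction with
        | mem o ho =>
          obtain ⟨w, hw, rfl⟩ := ho
          exact ⟨w, 1, fun h1 => Ideal.IsPrime.ne_top ‹Q.IsPrime› ((Ideal.eq_top_iff_one _).2 h1), hw, by simp⟩
        | zero => exact ⟨0, 1, fun h1 => Ideal.IsPrime.ne_top ‹Q.IsPrime› ((Ideal.eq_top_iff_one _).2 h1),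
            map_zero _, by simp⟩
        | add o o' _ _ ih ih' =>
          obtain ⟨w, s, hs, hw, e⟩ := ih
          obtain ⟨w', s', hs', hw', e'⟩ := ih'
          refine ⟨s' * w + s * w', s * s', fun hh => (Ideal.IsPrime.mem_or_mem ‹_› hh).elim hs hs',
            by simp [hw, hw'], ?_⟩
          simp only [map_add, map_mul, e, e']
          ring
        | smul r o _ ih =>
          obtain ⟨w, s, hs, hw, e⟩ := ih
          obtain ⟨r', s', hs', er⟩ := hη r
          refine ⟨r' * w, s * s', fun hh => (Ideal.IsPrime.mem_or_mem ‹_› hh).elim hs hs', by simp [hw], ?_⟩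
          rw [smul_eq_mul, map_mul, map_mul, e, ← er]
          ring
      have := hωη (w - s * z) (by rw [map_sub, map_mul, hwz, sub_self])
      rw [map_sub, hw, map_mul, zero_sub, neg_eq_zero] at this
      exact ((hu s hs).mul_right_eq_zero).1 this
    · intro hz
      obtain ⟨s, hs, hsz⟩ := (hωk z).1 hz
      obtain ⟨κ, hκ, π', hπ', e⟩ := Submodule.mem_sup.1 hsz
      have e' : η s * η z = η κ := by
        rw [← map_mul, ← e, map_add, (hηk π').2 ⟨1, fun h1 => Ideal.IsPrime.ne_top ‹Q.IsPrime›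
          ((Ideal.eq_top_iff_one _).2 h1), by simpa using hπ'⟩, add_zero]
      obtain ⟨si, hsi⟩ := (hηu s hs).exists_left_inv
      rw [show η z = si * η κ by linear_combination si * e' - η z * hsi]
      exact Ideal.mul_mem_left _ _ (Ideal.mem_map_of_mem η hκ)
  have hFm : η F ∉ maximalIdeal T ^ 3 := by
    intro hmem'
    rw [hmT, ← Ideal.map_pow] at hmem'
    have h1 : φ F ∈ ((Q ^ 3) ⊔ pB).map φ := by
      rw [Ideal.map_sup, hI]
      rw [show η = (Ideal.Quotient.mk I).comp φ from rfl, ← Ideal.map_map] at hmem'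
      exact Ideal.mem_quotient_iff_mem_sup.1 hmem'
    obtain ⟨s, hs, hsF⟩ := (IsLocalization.algebraMap_mem_map_algebraMap_iff Q.primeCompl L _ F).1 h1
    refine h.quad_not_mem_cube p Q hpQ ht (s := s * s₀) (fun hh => (Ideal.IsPrime.mem_or_mem ‹_› hh).elim hs hs₀)
      hdisc ?_
    rw [show s * s₀ * ((A₁ * s₂ * s₃) * t 0 ^ 2 + (B₁ * s₁ * s₃) * t 0 * t 1 + (C₁ * s₁ * s₂) * t 1 ^ 2) =
      s * F + s * y by simp only [q] at hFy; linear_combination (-s) * hFy]
    exact add_mem hsF (Ideal.mem_sup_right (Ideal.mul_mem_left _ _ hy))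
  have hJm : J ≤ maximalIdeal T ^ 2 := by
    refine Ideal.map_le_iff_le_comap.2 fun z hz => ?_
    have hω0 : ω z = 0 := (hωk z).2 ⟨1, fun h1 => Ideal.IsPrime.ne_top ‹Q.IsPrime›
      ((Ideal.eq_top_iff_one _).2 h1), by simpa using Ideal.mem_sup_left hz⟩
    have hzQ : z ∈ Q := (hωQ z).2 (hω0 ▸ zero_mem _)
    have hzm : η z ∈ maximalIdeal T := hmT ▸ Ideal.mem_map_of_mem η hzQ
    rw [hspanT, Ideal.mem_span_pair] at hzm
    obtain ⟨r, r', hrr⟩ := hzm
    obtain ⟨r₀, s, hs, hr₀⟩ := hη r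
    obtain ⟨r₁, s', hs', hr₁⟩ := hη r'
    have h0 : ω (r₀ * s') * ω (t 0) + ω (r₁ * s) * ω (t 1) = 0 := by
      have := hωη (r₀ * s' * t 0 + r₁ * s * t 1 - s * s' * z) (by
        simp only [map_sub, map_add, map_mul, ← hrr, ← hr₀, ← hr₁]; ring)
      simpa [hω0] using this
    obtain ⟨hr, hr'⟩ := hd.indep _ _ (h0 ▸ zero_mem _)
    have m₀ : r₀ * s' ∈ Q := (hωQ _).2 hr
    have m₁ : r₁ * s ∈ Q := (hωQ _).2 hr'
    have g₀ : r ∈ maximalIdeal T := by
      obtain ⟨v, hv⟩ := ((hηu s hs).mul (hηu s' hs')).exists_left_inv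
      rw [show r = v * η (r₀ * s') by rw [map_mul, ← hr₀]; linear_combination (-r) * hv]
      exact Ideal.mul_mem_left _ _ (hmT ▸ Ideal.mem_map_of_mem η m₀)
    have g₁ : r' ∈ maximalIdeal T := by
      obtain ⟨v, hv⟩ := ((hηu s hs).mul (hηu s' hs')).exists_left_inv
      rw [show r' = v * η (r₁ * s) by rw [map_mul, ← hr₁]; linear_combination (-r') * hv]
      exact Ideal.mul_mem_left _ _ (hmT ▸ Ideal.mem_map_of_mem η m₁)
    rw [Ideal.mem_comap, ← hrr, pow_two]
    exact add_mem (Ideal.mul_mem_mul g₀ (hspanT ▸ Ideal.subset_span (by simp)))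
      (Ideal.mul_mem_mul g₁ (hspanT ▸ Ideal.subset_span (by simp)))
  obtain ⟨τ, hτm, hτr⟩ := hd.reg
  obtain ⟨τ₀, sτ, hsτ, hτ₀⟩ := hωs τ
  have hJF : J = Ideal.span {η F} := by
    refine eq_span_singleton_of_regular hdim (Ideal.mem_map_of_mem η hFK) hFm hJm (t := η τ₀)
      (hmT ▸ Ideal.mem_map_of_mem η ((hωQ τ₀).2 (hτ₀ ▸ Ideal.mul_mem_left _ _ hτm))) fun z hz => ?_
    obtain ⟨z₀, s, hs, hz₀⟩ := hη z
    have h1 : η (τ₀ * z₀) ∈ J := by
      rw [map_mul, ← hz₀, mul_left_comm]; exact Ideal.mul_mem_left _ _ hz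
    rw [hJ, map_mul, ← hτ₀, mul_assoc] at h1
    have h2 : η z₀ ∈ J := (hJ z₀).2 (hτr _ ((hu sτ hsτ).mul_right_eq_zero.1 h1))
    obtain ⟨si, hsi⟩ := (hηu s hs).exists_left_inv
    rw [show z = si * η z₀ by linear_combination si * hz₀ - z * hsi]
    exact Ideal.mul_mem_left _ _ h2
  -- Nakayama
  let KL : Ideal L := K.map φ
  have hKL : KL ≤ Ideal.span {φ F} ⊔ maximalIdeal L • KL := by
    refine Ideal.map_le_iff_le_comap.2 fun z hz => ?_
    have h1 : η z ∈ Ideal.span {η F} := hJF ▸ Ideal.mem_map_of_mem η hz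
    obtain ⟨w, hw⟩ := Ideal.mem_span_singleton'.1 h1
    obtain ⟨w₀, s, hs, hw₀⟩ := hη w
    obtain ⟨s', hs', hpz⟩ := (hηk (w₀ * F - s * z)).1 (by
      rw [map_sub, map_mul, map_mul, ← hw₀, mul_assoc, hw, sub_self])
    have hpK := hflat ⟨Ideal.mul_mem_left _ s' (sub_mem (Ideal.mul_mem_left _ _ hFK) (Ideal.mul_mem_left _ _ hz)), hpz⟩
    have h2 : φ (s' * (w₀ * F - s * z)) ∈ maximalIdeal L • KL := by
      have := Ideal.mem_map_of_mem φ hpK
      rw [Ideal.map_mul, hI] at this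
      exact Ideal.mul_mono_left hIm this
    have hu' : IsUnit (φ (s' * s)) := by
      rw [map_mul]
      exact (IsLocalization.map_units L (⟨s', hs'⟩ : Q.primeCompl)).mul
        (IsLocalization.map_units L (⟨s, hs⟩ : Q.primeCompl))
    obtain ⟨v, hv⟩ := hu'.exists_left_inv
    rw [Ideal.mem_comap, show φ z = v * φ (s' * w₀) * φ F + (-v) * φ (s' * (w₀ * F - s * z)) by
      simp only [map_sub, map_mul] at hv ⊢; linear_combination (-φ z) * hv]
    exact add_mem (Ideal.mem_sup_left (Ideal.mul_mem_left _ _ (Ideal.mem_span_singleton_self _)))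
      (Ideal.mem_sup_right (Ideal.mul_mem_left (maximalIdeal L • KL) _ h2))
  have hKF : KL ≤ Ideal.span {φ F} :=
    Submodule.le_of_le_smul_of_le_jacobson_bot (hK.map φ) (IsLocalRing.maximalIdeal_le_jacobson _) hKL
  obtain ⟨G, hGspan⟩ := hK
  have hg : ∀ z ∈ K, ∃ s ∉ Q, ∃ w, s * z = w * F := fun z hz => by
    have h1 : φ z ∈ (Ideal.span {F}).map φ := by
      rw [Ideal.map_span, Set.image_singleton]; exact hKF (Ideal.mem_map_of_mem φ hz)
    obtain ⟨s, hs, hsz⟩ := (IsLocalization.algebraMap_mem_map_algebraMap_iff Q.primeCompl L _ z).1 h1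
    obtain ⟨w, hw⟩ := Ideal.mem_span_singleton'.1 hsz
    exact ⟨s, hs, w, hw.symm⟩
  choose! σ hσ hσw using hg
  have hGK : ∀ z ∈ G, z ∈ K := fun z hz => hGspan ▸ Ideal.subset_span hz
  refine ⟨F, hFK, ∏ z ∈ G, σ z, ?_, fun z hz => ?_, hgrad, hH⟩
  · intro hmem'
    obtain ⟨z, hz, hzQ⟩ := (Ideal.IsPrime.prod_mem_iff).1 hmem'
    exact hσ z (hGK z hz) hzQ
  · have : K ≤ (Ideal.span {F}).colon ({∏ z ∈ G, σ z} : Set B) := by
      rw [← hGspan, Ideal.span_le]
      intro z hz
      rw [SetLike.mem_coe, Submodule.mem_colon_singleton, smul_eq_mul, ← Finset.mul_prod_erase G σ hz]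
      obtain ⟨w, hw⟩ := hσw z (hGK z hz)
      refine Ideal.mem_span_singleton'.2 ⟨w * ∏ x ∈ G.erase z, σ x, ?_⟩
      linear_combination (-∏ x ∈ G.erase z, σ x) * hw
    obtain ⟨w, hw⟩ := Ideal.mem_span_singleton'.1 (Submodule.mem_colon_singleton.1 (this hz))
    exact ⟨w, by rw [hw, smul_eq_mul, mul_comm]⟩

end Groth.Agent.NodeLib7
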