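import Groth.Agent.NodeLib7.Transfer
import Groth.Agent.NodeLib7.NodeEquation
import Mathlib.RingTheory.LocalRing.ResidueField.Ideal
import Mathlib.Algebra.MvPolynomial.PDeriv

/-!
# Local homomorphisms whose closed fibre is a node
-/

set_option autoImplicit false
set_option linter.style.haveILetI false

universe u

open IsLocalRing

namespace Groth.Agent.NodeLib7

/-- The closed fibre of the local homomorphism `φ` is a node with finite separable residue extension. -/
def IsNodeHom {A B : Type u} [CommRing A] [IsLocalRing A] [CommRing B] [IsLocalRing B] (φ : A →+* B)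
    [IsLocalHom φ] : Prop :=
  (letI := (ResidueField.map φ).toAlgebra;
    Module.Finite (ResidueField A) (ResidueField B) ∧ Algebra.IsSeparable (ResidueField A) (ResidueField B)) ∧
  ∃ (O : Type u) (_ : CommRing O) (_ : IsLocalRing O) (χ : B →+* O), Function.Surjective χ ∧
    RingHom.ker χ = (maximalIdeal A).map φ ∧ ∃ x y a b c : O, NodeData O x y a b c

variable {A B : Type u} [CommRing A] [IsLocalRing A] [CommRing B] [IsLocalRing B]

/-- Node data are invariant under isomorphisms. -/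
theorem NodeData.of_ringEquiv {O O' : Type u} [CommRing O] [IsLocalRing O] [CommRing O'] [IsLocalRing O']
    (e : O ≃+* O') {x y a b c : O} (h : NodeData O x y a b c) :
    NodeData O' (e x) (e y) (e a) (e b) (e c) := by
  letI : Algebra O O' := e.toRingHom.toAlgebra
  haveI : IsLocalHom (algebraMap O O') := ⟨fun z hz => by
    have := hz.map e.symm
    rwa [show e.symm (algebraMap O O' z) = z from e.symm_apply_apply z] at this⟩
  haveI : Module.Flat O O' := RingHom.flat_algebraMap_iff.1 (RingHom.Flat.of_bijective e.bijective)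
  refine h.map (B := O') ?_
  refine le_antisymm (map_maximalIdeal_le _) fun z hz => ?_
  rw [← e.apply_symm_apply z]
  refine Ideal.mem_map_of_mem _ ?_
  exact (IsLocalRing.mem_maximalIdeal _).2 fun hu => hz (by simpa using hu.map e)

theorem exists_quotient_data {φ : A →+* B} [IsLocalHom φ]
    (h : ∃ (O : Type u) (_ : CommRing O) (_ : IsLocalRing O) (χ : B →+* O), Function.Surjective χ ∧
      RingHom.ker χ = (maximalIdeal A).map φ ∧ ∃ x y a b c : O, NodeData O x y a b c) :
    ∃ (_ : IsLocalRing (B ⧸ (maximalIdeal A).map φ)), ∃ x y a b c : B ⧸ (maximalIdeal A).map φ,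
      NodeData (B ⧸ (maximalIdeal A).map φ) x y a b c := by
  obtain ⟨O, _, _, χ, hχ, hker, x, y, a, b, c, hd⟩ := h
  let e : (B ⧸ (maximalIdeal A).map φ) ≃+* O :=
    (Ideal.quotEquivOfEq hker.symm).trans (RingHom.quotientKerEquivOfSurjective hχ)
  haveI : IsLocalRing (B ⧸ (maximalIdeal A).map φ) := e.symm.isLocalRing
  exact ⟨inferInstance, _, _, _, _, _, hd.of_ringEquiv e.symm⟩

/-- Changing the source along an unramified local homomorphism. -/
theorem isNodeHom_comp_unramified {A' : Type u} [CommRing A'] [IsLocalRing A'] (ψ : A →+* A') [IsLocalHom ψ]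
    (φ : A' →+* B) [IsLocalHom φ] (hm : (maximalIdeal A).map ψ = maximalIdeal A')
    (hfin : letI := (ResidueField.map ψ).toAlgebra; Module.Finite (ResidueField A) (ResidueField A'))
    (hsep : letI := (ResidueField.map ψ).toAlgebra; Algebra.IsSeparable (ResidueField A) (ResidueField A')) :
    IsNodeHom (φ.comp ψ) ↔ IsNodeHom φ := by
  letI := (ResidueField.map ψ).toAlgebra
  letI := (ResidueField.map φ).toAlgebra
  letI : Algebra (ResidueField A) (ResidueField B) := (ResidueField.map (φ.comp ψ)).toAlgebra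
  haveI : IsScalarTower (ResidueField A) (ResidueField A') (ResidueField B) :=
    IsScalarTower.of_algebraMap_eq' (Ideal.Quotient.ringHom_ext (RingHom.ext fun _ => rfl))
  haveI := hfin
  haveI := hsep
  have hI : (maximalIdeal A).map (φ.comp ψ) = (maximalIdeal A').map φ := by rw [← Ideal.map_map, hm]
  constructor
  · rintro ⟨⟨hf, hs⟩, O, _, _, χ, hχ, hk, hd⟩
    exact ⟨⟨Module.Finite.of_restrictScalars_finite (ResidueField A) _ _,
      Algebra.isSeparable_tower_top_of_isSeparable (ResidueField A) _ _⟩, O, _, _, χ, hχ, hk.trans hI, hd⟩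
  · rintro ⟨⟨hf, hs⟩, O, _, _, χ, hχ, hk, hd⟩
    exact ⟨⟨Module.Finite.trans (ResidueField A') _,
      Algebra.IsSeparable.trans (ResidueField A) (ResidueField A') _⟩, O, _, _, χ, hχ, hk.trans hI.symm, hd⟩

/-- Changing the target along a flat unramified local homomorphism. -/
theorem isNodeHom_comp_etale (φ : A →+* B) [IsLocalHom φ] {B' : Type u} [CommRing B'] [IsLocalRing B']
    (ψ : B →+* B') [IsLocalHom ψ] (hflat : ψ.Flat) (hm : (maximalIdeal B).map ψ = maximalIdeal B')
    (hfin : letI := (ResidueField.map ψ).toAlgebra; Module.Finite (ResidueField B) (ResidueField B'))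
    (hsep : letI := (ResidueField.map ψ).toAlgebra; Algebra.IsSeparable (ResidueField B) (ResidueField B'))
    [IsNoetherianRing (B ⧸ (maximalIdeal A).map φ)]
    [IsNoetherianRing (B' ⧸ (maximalIdeal A).map (ψ.comp φ))] :
    IsNodeHom (ψ.comp φ) ↔ IsNodeHom φ := by
  letI := (ResidueField.map ψ).toAlgebra
  letI := (ResidueField.map φ).toAlgebra
  letI : Algebra (ResidueField A) (ResidueField B') := (ResidueField.map (ψ.comp φ)).toAlgebra
  haveI : IsScalarTower (ResidueField A) (ResidueField B) (ResidueField B') :=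
    IsScalarTower.of_algebraMap_eq' (Ideal.Quotient.ringHom_ext (RingHom.ext fun _ => rfl))
  haveI := hfin
  haveI := hsep
  let I := (maximalIdeal A).map φ
  let I' := (maximalIdeal A).map (ψ.comp φ)
  have hII' : I' = I.map ψ := (Ideal.map_map φ ψ).symm
  have hIm : I ≤ maximalIdeal B := map_maximalIdeal_le φ
  have hI'm : I' ≤ maximalIdeal B' := map_maximalIdeal_le (ψ.comp φ)
  haveI : Nontrivial (B ⧸ I) := Ideal.Quotient.nontrivial_iff.2 fun h' =>
    (maximalIdeal.isMaximal B).ne_top (top_le_iff.1 (h' ▸ hIm))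
  haveI : Nontrivial (B' ⧸ I') := Ideal.Quotient.nontrivial_iff.2 fun h' =>
    (maximalIdeal.isMaximal B').ne_top (top_le_iff.1 (h' ▸ hI'm))
  haveI : IsLocalRing (B ⧸ I) := IsLocalRing.of_surjective' _ Ideal.Quotient.mk_surjective
  haveI : IsLocalRing (B' ⧸ I') := IsLocalRing.of_surjective' _ Ideal.Quotient.mk_surjective
  have hmO : maximalIdeal (B ⧸ I) = (maximalIdeal B).map (Ideal.Quotient.mk I) :=
    (IsLocalRing.map_maximalIdeal_of_surjective (Ideal.Quotient.mk I) Ideal.Quotient.mk_surjective).symm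
  have hmO' : maximalIdeal (B' ⧸ I') = (maximalIdeal B').map (Ideal.Quotient.mk I') :=
    (IsLocalRing.map_maximalIdeal_of_surjective (Ideal.Quotient.mk I') Ideal.Quotient.mk_surjective).symm
  let ψ' : B ⧸ I →+* B' ⧸ I' := Ideal.quotientMap I' ψ (by rw [hII']; exact Ideal.le_comap_map)
  letI : Algebra (B ⧸ I) (B' ⧸ I') := ψ'.toAlgebra
  have hm' : (maximalIdeal (B ⧸ I)).map (algebraMap (B ⧸ I) (B' ⧸ I')) = maximalIdeal (B' ⧸ I') := by
    show (maximalIdeal (B ⧸ I)).map ψ' = _
    rw [hmO, hmO', ← hm, Ideal.map_map, Ideal.map_map]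
    rfl
  haveI : IsLocalHom (algebraMap (B ⧸ I) (B' ⧸ I')) := ((local_hom_TFAE _).out 0 2).2 hm'.le
  haveI : Module.Flat (B ⧸ I) (B' ⧸ I') := by
    letI := ψ.toAlgebra
    haveI : Module.Flat B B' := RingHom.flat_algebraMap_iff.1 hflat
    letI : Algebra (B ⧸ I) (B' ⧸ I.map (algebraMap B B')) :=
      (Ideal.quotientMap _ (algebraMap B B') Ideal.le_comap_map).toAlgebra
    have h1 : (Ideal.quotientMap (I.map ψ) ψ Ideal.le_comap_map).Flat := by
      haveI : IsScalarTower B (B ⧸ I) (B' ⧸ I.map (algebraMap B B')) :=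
        IsScalarTower.of_algebraMap_eq fun _ => rfl
      let e₀ := (Algebra.TensorProduct.comm B (B ⧸ I) B').trans
        ((Algebra.TensorProduct.quotIdealMapEquivTensorQuot B' I).symm.restrictScalars B)
      let e : TensorProduct B (B ⧸ I) B' ≃ₐ[B ⧸ I] B' ⧸ I.map (algebraMap B B') :=
        AlgEquiv.ofRingEquiv (f := e₀.toRingEquiv) fun z => by
          obtain ⟨z, rfl⟩ := Ideal.Quotient.mk_surjective z
          show e₀ (algebraMap (B ⧸ I) (TensorProduct B (B ⧸ I) B') (algebraMap B (B ⧸ I) z)) = _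
          rw [← IsScalarTower.algebraMap_apply, e₀.commutes]
          rfl
      exact RingHom.flat_algebraMap_iff.2 (Module.Flat.of_linearEquiv e.symm.toLinearEquiv)
    have h2 : ψ' = (Ideal.quotEquivOfEq hII'.symm).toRingHom.comp (Ideal.quotientMap (I.map ψ) ψ Ideal.le_comap_map) :=
      Ideal.Quotient.ringHom_ext (RingHom.ext fun _ => rfl)
    refine RingHom.flat_algebraMap_iff.1 ?_
    show ψ'.Flat
    rw [h2]
    exact h1.comp (RingHom.Flat.of_bijective (Ideal.quotEquivOfEq hII'.symm).bijective)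
  constructor
  · rintro ⟨⟨hf, hs⟩, hO⟩
    obtain ⟨_, x, y, a, b, c, hd⟩ := exists_quotient_data hO
    haveI := hf
    haveI := hs
    haveI : Module.Finite (ResidueField A) (ResidueField B) :=
      Module.Finite.of_injective (IsScalarTower.toAlgHom (ResidueField A) (ResidueField B) (ResidueField B')).toLinearMap
        (algebraMap (ResidueField B) (ResidueField B')).injective
    haveI : Algebra.IsSeparable (ResidueField A) (ResidueField B) :=
      Algebra.isSeparable_tower_bot_of_isSeparable (ResidueField A) (ResidueField B) (ResidueField B')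
    refine ⟨⟨inferInstance, inferInstance⟩, B ⧸ I, inferInstance, inferInstance, Ideal.Quotient.mk I,
      Ideal.Quotient.mk_surjective, Ideal.mk_ker, ?_⟩
    letI : Algebra (ResidueField A) (B' ⧸ I') := (Ideal.quotientMap I' (ψ.comp φ) Ideal.le_comap_map).toAlgebra
    haveI : IsLocalHom (Ideal.Quotient.mk I') := IsLocalHom.of_surjective _ Ideal.Quotient.mk_surjective
    let rA : ResidueField B' ≃+* ResidueField (B' ⧸ I') :=
      RingEquiv.ofBijective (ResidueField.map (Ideal.Quotient.mk I')) ⟨RingHom.injective _, fun z => by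
        obtain ⟨z, rfl⟩ := residue_surjective z
        obtain ⟨z, rfl⟩ := Ideal.Quotient.mk_surjective z
        exact ⟨residue _ z, ResidueField.map_residue _ z⟩⟩
    haveI : Algebra.IsSeparable (ResidueField A) (ResidueField (B' ⧸ I')) :=
      Algebra.IsSeparable.of_equiv_equiv (RingEquiv.refl (ResidueField A)) rA
        (RingHom.ext fun z => by
          obtain ⟨z, rfl⟩ := residue_surjective z
          rfl)
    exact exists_nodeData_descend (k := ResidueField A) hd hm'
  · rintro ⟨⟨hf, hs⟩, hO⟩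
    obtain ⟨_, x, y, a, b, c, hd⟩ := exists_quotient_data hO
    haveI := hf
    haveI := hs
    exact ⟨⟨Module.Finite.trans (ResidueField B) _, Algebra.IsSeparable.trans (ResidueField A) (ResidueField B) _⟩,
      B' ⧸ I', inferInstance, inferInstance, Ideal.Quotient.mk I', Ideal.Quotient.mk_surjective, Ideal.mk_ker,
      _, _, _, _, _, hd.map (B := B' ⧸ I') hm'⟩

section Model

open MvPolynomial

variable {C : Type u} [CommRing C] (a₀ : C) (P : Ideal C) [P.IsPrime]

theorem sub_subst_mem (i : Fin 2) (y : MvPolynomial (Fin 2) C) :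
    y - aeval (fun j => if j = i then 0 else (X j : MvPolynomial (Fin 2) C)) y ∈
      Ideal.span {(X i : MvPolynomial (Fin 2) C)} := by
  induction y using MvPolynomial.induction_on with
  | C r => simp
  | add q q' hq hq' => rw [map_add, add_sub_add_comm]; exact add_mem hq hq'
  | mul_X q j hq =>
    by_cases hj : j = i
    · subst hj
      simp only [map_mul, aeval_X, if_true, mul_zero, sub_zero]
      exact Ideal.mul_mem_left _ _ (Ideal.mem_span_singleton_self _)
    · simp only [map_mul, aeval_X, if_neg hj]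
      rw [← sub_mul]
      exact Ideal.mul_mem_right _ _ hq

theorem regular_model_domain {D : Type u} [CommRing D] [IsDomain D] (y : MvPolynomial (Fin 2) D)
    (h : (X 0 + X 1) * y ∈ Ideal.span {(X 0 * X 1 : MvPolynomial (Fin 2) D)}) :
    y ∈ Ideal.span {(X 0 * X 1 : MvPolynomial (Fin 2) D)} := by
  let σ : Fin 2 → (MvPolynomial (Fin 2) D →ₐ[D] MvPolynomial (Fin 2) D) := fun i =>
    aeval fun j => if j = i then 0 else X j
  obtain ⟨w, hw⟩ := Ideal.mem_span_singleton'.1 h
  have h1 : σ 1 y = 0 := by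
    have e := congrArg (σ 1) hw
    simp [σ] at e
    exact e
  have hm1 := sub_subst_mem 1 y
  rw [show (aeval fun j => if j = (1 : Fin 2) then 0 else (X j : MvPolynomial (Fin 2) D)) y = 0 from h1,
    sub_zero] at hm1
  obtain ⟨y₁, hy₁⟩ := Ideal.mem_span_singleton'.1 hm1
  have h0 : σ 0 y = 0 := by
    have e := congrArg (σ 0) hw
    simp [σ] at e
    exact e
  have h2 : σ 0 y₁ = 0 := by
    have e := congrArg (σ 0) hy₁
    rw [h0, map_mul] at e
    simp [σ] at e
    exact e
  have hm0 := sub_subst_mem 0 y₁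
  rw [show (aeval fun j => if j = (0 : Fin 2) then 0 else (X j : MvPolynomial (Fin 2) D)) y₁ = 0 from h2,
    sub_zero] at hm0
  obtain ⟨y₂, hy₂⟩ := Ideal.mem_span_singleton'.1 hm0
  exact Ideal.mem_span_singleton'.2 ⟨y₂, by rw [← hy₁, ← hy₂]; ring⟩

theorem regular_model (y : MvPolynomial (Fin 2) C)
    (h : (X 0 + X 1) * y ∈ P.map MvPolynomial.C ⊔ Ideal.span {(X 0 * X 1 : MvPolynomial (Fin 2) C)}) :
    y ∈ P.map MvPolynomial.C ⊔ Ideal.span {(X 0 * X 1 : MvPolynomial (Fin 2) C)} := by
  let μ : MvPolynomial (Fin 2) C →+* MvPolynomial (Fin 2) (C ⧸ P) := MvPolynomial.map (Ideal.Quotient.mk P)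
  have hμs : Function.Surjective μ := MvPolynomial.map_surjective _ Ideal.Quotient.mk_surjective
  have hμk : RingHom.ker μ = P.map MvPolynomial.C := by
    rw [MvPolynomial.ker_map, Ideal.mk_ker]
  have hJ : P.map MvPolynomial.C ⊔ Ideal.span {(X 0 * X 1 : MvPolynomial (Fin 2) C)} =
      (Ideal.span {(X 0 * X 1 : MvPolynomial (Fin 2) (C ⧸ P))}).comap μ := by
    rw [show Ideal.span {(X 0 * X 1 : MvPolynomial (Fin 2) (C ⧸ P))} =
      (Ideal.span {(X 0 * X 1 : MvPolynomial (Fin 2) C)}).map μ by simp [Ideal.map_span, μ],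
      Ideal.comap_map_of_surjective μ hμs, ← RingHom.ker_eq_comap_bot, hμk, sup_comm]
  rw [hJ, Ideal.mem_comap] at h ⊢
  rw [map_mul] at h
  refine regular_model_domain _ ?_
  simpa [μ] using h

/-- The local ring of `uv = a` at `u = v = 0` over a prime containing `a` is a node of its fibre. -/
theorem exists_nodeData_model (ha : a₀ ∈ P) {O : Type u} [CommRing O] [IsLocalRing O]
    (ω : MvPolynomial (Fin 2) C →+* O)
    (Q : Ideal (MvPolynomial (Fin 2) C)) [Q.IsPrime] (hQP : Q.comap MvPolynomial.C = P) (hX : ∀ i, X i ∈ Q)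
    (hωs : ∀ o : O, ∃ b, ∃ s ∉ Q, ω s * o = ω b)
    (hωk : ∀ b, ω b = 0 ↔ ∃ s ∉ Q, s * b ∈
      P.map MvPolynomial.C ⊔ Ideal.span {(X 0 * X 1 - MvPolynomial.C a₀ : MvPolynomial (Fin 2) C)})
    (hωQ : ∀ b, b ∈ Q ↔ ω b ∈ maximalIdeal O) :
    NodeData O (ω (X 0)) (ω (X 1)) 0 1 0 := by
  have hJJ : P.map MvPolynomial.C ⊔ Ideal.span {(X 0 * X 1 - MvPolynomial.C a₀ : MvPolynomial (Fin 2) C)} =
      P.map MvPolynomial.C ⊔ Ideal.span {(X 0 * X 1 : MvPolynomial (Fin 2) C)} := by
    have hCa : MvPolynomial.C a₀ ∈ P.map (MvPolynomial.C : C →+* MvPolynomial (Fin 2) C) := Ideal.mem_map_of_mem _ ha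
    refine le_antisymm (sup_le le_sup_left ((Ideal.span_singleton_le_iff_mem _).2
      (sub_mem (Ideal.mem_sup_right (Ideal.mem_span_singleton_self _)) (Ideal.mem_sup_left hCa))))
      (sup_le le_sup_left ((Ideal.span_singleton_le_iff_mem _).2 ?_))
    have h := add_mem (Ideal.mem_sup_right (S := P.map MvPolynomial.C) (Ideal.mem_span_singleton_self
      (X 0 * X 1 - MvPolynomial.C a₀ : MvPolynomial (Fin 2) C))) (Ideal.mem_sup_left hCa)
    rwa [sub_add_cancel] at h
  simp only [hJJ] at hωk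
  have h1Q : (1 : MvPolynomial (Fin 2) C) ∉ Q := fun h1 =>
    Ideal.IsPrime.ne_top ‹Q.IsPrime› ((Ideal.eq_top_iff_one _).2 h1)
  have hu : ∀ s ∉ Q, IsUnit (ω s) := fun s hs => by
    by_contra h'
    exact hs ((hωQ s).2 h')
  have hC0 : ∀ r ∈ P, ω (MvPolynomial.C r) = 0 := fun r hr =>
    (hωk _).2 ⟨1, h1Q, by rw [one_mul]; exact Ideal.mem_sup_left (Ideal.mem_map_of_mem _ hr)⟩
  have hdecomp : ∀ z : MvPolynomial (Fin 2) C, ∃ p q, z = MvPolynomial.C (constantCoeff z) + p * X 0 + q * X 1 := by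
    intro z
    induction z using MvPolynomial.induction_on with
    | C r => exact ⟨0, 0, by simp⟩
    | add z z' hz hz' =>
      obtain ⟨p, q, e⟩ := hz
      obtain ⟨p', q', e'⟩ := hz'
      exact ⟨p + p', q + q', by rw [map_add, map_add]; linear_combination e + e'⟩
    | mul_X z i hz =>
      fin_cases i
      · exact ⟨z, 0, by simp⟩
      · exact ⟨0, z, by simp⟩
  have hspan : Ideal.span {ω (X 0), ω (X 1)} = maximalIdeal O := by
    refine le_antisymm (Ideal.span_le.2 (Set.insert_subset ((hωQ _).1 (hX 0))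
      (Set.singleton_subset_iff.2 ((hωQ _).1 (hX 1))))) fun o ho => ?_
    obtain ⟨b, s, hs, hb⟩ := hωs o
    have hbQ : b ∈ Q := (hωQ b).2 (hb ▸ Ideal.mul_mem_left _ _ ho)
    obtain ⟨p, q, e⟩ := hdecomp b
    have hc : constantCoeff b ∈ P := by
      rw [← hQP, Ideal.mem_comap]
      rw [e] at hbQ
      have h2 : p * X 0 + q * X 1 ∈ Q := add_mem (Ideal.mul_mem_left _ _ (hX 0)) (Ideal.mul_mem_left _ _ (hX 1))
      rw [add_assoc] at hbQ
      exact (Submodule.add_mem_iff_left Q h2).1 hbQ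
    obtain ⟨si, hsi⟩ := (hu s hs).exists_left_inv
    rw [show o = si * ω b by linear_combination si * hb - o * hsi, e]
    refine Ideal.mul_mem_left _ _ ?_
    rw [map_add, map_add, map_mul, map_mul, hC0 _ hc, zero_add]
    exact Ideal.mem_span_pair.2 ⟨_, _, rfl⟩
  refine ⟨hspan, by simp, ?_, ?_, ?_⟩
  · rw [show (0 : O) * ω (X 0) ^ 2 + 1 * ω (X 0) * ω (X 1) + 0 * ω (X 1) ^ 2 = ω (X 0 * X 1) by
      rw [map_mul]; ring, (hωk _).2 ⟨1, h1Q, by rw [one_mul]; exact Ideal.mem_sup_right (Ideal.mem_span_singleton_self _)⟩]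
    exact zero_mem _
  · intro r r' hrs
    obtain ⟨r₀, s, hs, hr₀⟩ := hωs r
    obtain ⟨r₁, s', hs', hr₁⟩ := hωs r'
    let Z : MvPolynomial (Fin 2) C := r₀ * s' * X 0 + r₁ * s * X 1
    have hZ : ω Z ∈ (Q ^ 2).map ω := by
      have hm : maximalIdeal O ≤ Q.map ω := by
        rw [← hspan, Ideal.span_le]
        exact Set.insert_subset (Ideal.mem_map_of_mem ω (hX 0))
          (Set.singleton_subset_iff.2 (Ideal.mem_map_of_mem ω (hX 1)))
      rw [Ideal.map_pow]
      refine Ideal.pow_right_mono hm 2 ?_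
      rw [show ω Z = ω s * ω s' * (r * ω (X 0) + r' * ω (X 1)) by
        simp only [Z, map_add, map_mul, ← hr₀, ← hr₁]; ring]
      exact Ideal.mul_mem_left _ _ hrs
    -- lift to the polynomial ring
    obtain ⟨S, hS, hSZ⟩ : ∃ S ∉ Q, S * Z ∈ Q ^ 2 ⊔
        (P.map MvPolynomial.C ⊔ Ideal.span {(X 0 * X 1 : MvPolynomial (Fin 2) C)}) := by
      suffices H : ∀ o ∈ (Q ^ 2).map ω, ∃ S₁ ∉ Q, ∃ w ∈ Q ^ 2, ω S₁ * o = ω w by
        obtain ⟨S₁, hS₁, w, hw, e⟩ := H _ hZ
        obtain ⟨S₂, hS₂, hmem⟩ := (hωk (S₁ * Z - w)).1 (by rw [map_sub, map_mul, e, sub_self])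
        refine ⟨S₂ * S₁, fun h' => (Ideal.IsPrime.mem_or_mem ‹_› h').elim hS₂ hS₁, ?_⟩
        rw [show S₂ * S₁ * Z = S₂ * w + S₂ * (S₁ * Z - w) by ring]
        exact add_mem (Ideal.mem_sup_left (Ideal.mul_mem_left _ _ hw)) (Ideal.mem_sup_right hmem)
      intro o ho
      induction ho using Submodule.span_induction with
      | mem o ho =>
        obtain ⟨w, hw, rfl⟩ := ho
        exact ⟨1, h1Q, w, hw, by simp⟩
      | zero => exact ⟨1, h1Q, 0, zero_mem _, by simp⟩
      | add o o' _ _ ih ih' =>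
        obtain ⟨S₁, hS₁, w, hw, e⟩ := ih
        obtain ⟨S₂, hS₂, w', hw', e'⟩ := ih'
        refine ⟨S₁ * S₂, fun h' => (Ideal.IsPrime.mem_or_mem ‹_› h').elim hS₁ hS₂, S₂ * w + S₁ * w',
          add_mem (Ideal.mul_mem_left _ _ hw) (Ideal.mul_mem_left _ _ hw'), ?_⟩
        simp only [map_add, map_mul, ← e, ← e']
        ring
      | smul c o _ ih =>
        obtain ⟨S₁, hS₁, w, hw, e⟩ := ih
        obtain ⟨c₀, S₂, hS₂, ec⟩ := hωs c
        refine ⟨S₁ * S₂, fun h' => (Ideal.IsPrime.mem_or_mem ‹_› h').elim hS₁ hS₂, c₀ * w,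
          Ideal.mul_mem_left _ _ hw, ?_⟩
        rw [smul_eq_mul, map_mul, map_mul, ← e, ← ec]
        ring
    have key : ∀ i, pderiv i (S * Z) ∈ Q := by
      intro i
      obtain ⟨w, hw, j, hj, e⟩ := Submodule.mem_sup.1 hSZ
      rw [← e, map_add]
      refine add_mem (by simpa using derivation_mem_pow (pderiv i) Q 1 hw) ?_
      obtain ⟨w₁, hw₁, w₂, hw₂, e'⟩ := Submodule.mem_sup.1 hj
      rw [← e', map_add]
      refine add_mem ?_ ?_
      · refine Submodule.span_induction ?_ ?_ ?_ ?_ hw₁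
        · rintro _ ⟨r, _, rfl⟩
          rw [pderiv_C]; exact zero_mem _
        · rw [map_zero]; exact zero_mem _
        · intro x y _ _ hx hy
          rw [map_add]; exact add_mem hx hy
        · intro c x hxm hx
          rw [smul_eq_mul, Derivation.leibniz, smul_eq_mul, smul_eq_mul]
          refine add_mem (Ideal.mul_mem_left _ _ hx) (Ideal.mul_mem_right _ _ ?_)
          exact (Ideal.map_le_iff_le_comap.2 hQP.ge) hxm
      · obtain ⟨c, rfl⟩ := Ideal.mem_span_singleton'.1 hw₂
        rw [Derivation.leibniz, Derivation.leibniz, smul_eq_mul, smul_eq_mul, smul_eq_mul, smul_eq_mul]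
        exact add_mem (Ideal.mul_mem_left _ _ (add_mem (Ideal.mul_mem_right _ _ (hX 0))
          (Ideal.mul_mem_right _ _ (hX 1)))) (Ideal.mul_mem_right _ _ (Ideal.mul_mem_right _ _ (hX 0)))
    have hmk : ∀ i, Ideal.Quotient.mk Q (pderiv i (S * Z)) =
        Ideal.Quotient.mk Q (S * (![r₀ * s', r₁ * s] i)) := by
      intro i
      have hX' : ∀ j, Ideal.Quotient.mk Q (X j) = 0 := fun j => Ideal.Quotient.eq_zero_iff_mem.2 (hX j)
      fin_cases i <;>
        simp [Z, Derivation.leibniz, hX', pderiv_X, Pi.single_apply]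
    have hfin : ∀ i, ω (![r₀ * s', r₁ * s] i) ∈ maximalIdeal O := fun i => by
      refine (hωQ _).1 ((Ideal.IsPrime.mem_or_mem ‹_› ?_).resolve_left hS)
      rw [← Ideal.Quotient.eq_zero_iff_mem, ← hmk, Ideal.Quotient.eq_zero_iff_mem]
      exact key i
    constructor
    · have := hfin 0
      simp only [Matrix.cons_val_zero, map_mul, ← hr₀] at this
      rw [mul_comm, ← mul_assoc] at this
      exact (Ideal.unit_mul_mem_iff_mem _ ((hu s' hs').mul (hu s hs))).1 this
    · have := hfin 1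
      change ω (r₁ * s) ∈ maximalIdeal O at this
      simp only [map_mul, ← hr₁] at this
      rw [mul_comm, ← mul_assoc] at this
      exact (Ideal.unit_mul_mem_iff_mem _ ((hu s hs).mul (hu s' hs'))).1 this
  · refine ⟨ω (X 0 + X 1), (hωQ _).1 (add_mem (hX 0) (hX 1)), fun z hz => ?_⟩
    obtain ⟨b, s, hs, hb⟩ := hωs z
    have h0 : ω ((X 0 + X 1) * b) = 0 := by rw [map_mul, ← hb, mul_left_comm, hz, mul_zero]
    obtain ⟨S, hS, hmem⟩ := (hωk _).1 h0
    rw [mul_left_comm] at hmem
    have := (hωk b).2 ⟨S, hS, regular_model P _ hmem⟩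
    exact ((hu s hs).mul_right_eq_zero).1 (hb.trans this)

end Model

end Groth.Agent.NodeLib7
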