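import Groth.Agent.NodeLib7.NodalStalks
import Groth.Agent.NodeLib7.Point
import Groth.Agent.CAlgH.AdicSmoothRegularField
import Groth.Agent.FlatMor12.GenericSmooth
import Groth.Agent.GenSmoothLib.ClosedStalk
import Groth.Agent.CurvesLib24.Basic
import Groth.Agent.NodeLib7.NodeFamily
import Groth.Agent.NodeLib7.NodeHom
import Groth.Agent.Synt15.FieldScheme
import Groth.Agent.NodeLib7.NodeCompletion

/-!
# Closed subcurves of at-worst-nodal curves
-/

set_option autoImplicit false
set_option linter.style.haveILetI false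
set_option backward.isDefEq.respectTransparency false

universe u

open CategoryTheory CategoryTheory.Limits AlgebraicGeometry IsLocalRing

attribute [local instance] Curv2.stalkAlgebra

namespace Groth.Agent.NodeLib7

/-- Regular with formally smooth residue field implies formally smooth. -/
theorem formallySmooth_of_regular_of_residueField (K S : Type u) [Field K] [CommRing S]
    [Algebra K S] [Algebra.EssFiniteType K S] [IsRegularLocalRing S]
    [Algebra.FormallySmooth K (ResidueField S)] : Algebra.FormallySmooth K S := by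
  let B := Algebra.EssFiniteType.subalgebra K S
  let q : Ideal B := (maximalIdeal S).comap (algebraMap B S)
  haveI : q.IsPrime := Ideal.IsPrime.comap _
  have hM : Algebra.EssFiniteType.submonoid K S = q.primeCompl := by
    ext b
    show IsUnit (algebraMap B S b) ↔ algebraMap B S b ∉ maximalIdeal S
    rw [IsLocalRing.notMem_maximalIdeal]
  haveI : IsLocalization.AtPrime S q := by
    rw [IsLocalization.AtPrime, ← hM]; infer_instance
  let e₀ : Localization.AtPrime q ≃ₐ[B] S := IsLocalization.algEquiv q.primeCompl _ _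
  let e : Localization.AtPrime q ≃ₐ[K] S := e₀.restrictScalars K
  haveI : IsRegularLocalRing (Localization.AtPrime q) := .of_ringEquiv e.symm.toRingEquiv
  let er : ResidueField (Localization.AtPrime q) ≃ₐ[K] ResidueField S :=
    AlgEquiv.ofRingEquiv (f := ResidueField.mapEquiv e.toRingEquiv) fun r => by
      show residue S (e (algebraMap K _ r)) = residue S (algebraMap K S r)
      rw [e.commutes]
  haveI : Algebra.FormallySmooth K (ResidueField (Localization.AtPrime q)) := .of_equiv er.symm
  haveI := CAlgH.AdicSmooth.formallySmooth_localization (A := K) q CAlgH.AdicSmooth.of_regular_formallySmooth_residueField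
  exact .of_equiv e

/-- A surjection from a node onto a reduced ring of positive dimension with kernel in `m²` is bijective. -/
theorem injective_of_nodeData {k : Type u} [Field k] {A B : Type u} [CommRing A] [IsLocalRing A]
    [IsNoetherianRing A] [CommRing B] [IsLocalRing B] [Algebra k A] [Algebra.FormallySmooth k (ResidueField A)]
    (φ : A →+* B) (hφ : Function.Surjective φ) [_root_.IsReduced B] (hB : ¬ IsField B)
    {x y a b c : A} (h : NodeData A x y a b c) (hle : RingHom.ker φ ≤ maximalIdeal A ^ 2) :
    Function.Injective φ := by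
  haveI : IsNoetherianRing B := isNoetherianRing_of_surjective A B φ hφ
  haveI : IsLocalHom φ := IsLocalHom.of_surjective φ hφ
  obtain ⟨e, -⟩ := exists_completion_equiv (k := k) h
  obtain ⟨θ, hθ, hkθ, hθι⟩ := exists_completion_surjection φ hφ
  haveI : IsNoetherianRing (AdicCompletion (maximalIdeal A) A) := Matlis6.isNoetherianRing_adicCompletion _
  haveI : IsNoetherianRing (AdicCompletion (maximalIdeal B) B) := Matlis6.isNoetherianRing_adicCompletion _
  haveI := isLocalRing_QQ (residue A a) (residue A b) (residue A c)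
  let P := MvPowerSeries (Fin 2) (ResidueField A)
  let f : P →+* AdicCompletion (maximalIdeal A) A := e.symm.toRingHom.comp (Ideal.Quotient.mk _)
  have hf : Function.Surjective f := e.symm.surjective.comp Ideal.Quotient.mk_surjective
  haveI : IsLocalHom f := IsLocalHom.of_surjective f hf
  have hd : 4 * residue A a * residue A c - residue A b ^ 2 ≠ 0 := by
    simpa [map_sub, map_mul, map_pow, map_ofNat] using h.disc
  let q : P := qf (residue A a) (residue A b) (residue A c)
  have hkf : RingHom.ker f = Ideal.span {q} :=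
    (RingHom.ker_comp_of_injective _ e.symm.injective).trans Ideal.mk_ker
  have hfm : (maximalIdeal P).map f = maximalIdeal (AdicCompletion (maximalIdeal A) A) :=
    IsLocalRing.map_maximalIdeal_of_surjective f hf
  let K : Ideal P := RingHom.ker (θ.comp f)
  have hK : K ≤ maximalIdeal P ^ 2 := by
    intro p hp
    have h1 : f p ∈ maximalIdeal (AdicCompletion (maximalIdeal A) A) ^ 2 := by
      have h2 : f p ∈ (maximalIdeal A ^ 2).map (algebraMap A (AdicCompletion (maximalIdeal A) A)) :=
        Ideal.map_mono hle (hkθ ▸ RingHom.mem_ker.2 hp)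
      rwa [AdicCompletion.maximalIdeal_eq_map, ← Ideal.map_pow]
    rw [← hfm, ← Ideal.map_pow] at h1
    have h3 : p ∈ maximalIdeal P ^ 2 ⊔ Ideal.span {q} := by
      rw [← hkf, RingHom.ker_eq_comap_bot, ← Ideal.comap_map_of_surjective f hf]
      exact h1
    rwa [sup_eq_left.2 ((Ideal.span_singleton_le_iff_mem _).2 (qf_mem_sq _ _ _))] at h3
  obtain ⟨t, ht, htr⟩ := exists_regular (A := B) hB
  obtain ⟨τ, hτ⟩ := (hθ.comp hf) (algebraMap B (AdicCompletion (maximalIdeal B) B) t)
  have hτm : τ ∈ maximalIdeal P := by
    refine (IsLocalRing.mem_maximalIdeal _).2 fun hu => ?_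
    have h2 : IsUnit (algebraMap B (AdicCompletion (maximalIdeal B) B) t) := hτ ▸ hu.map (θ.comp f)
    haveI := CAlgH.isLocalHom_algebraMap_cpl B
    exact (IsLocalRing.mem_maximalIdeal _).1 ht (isUnit_of_map_unit (algebraMap B (EGA4.Cpl B)) t h2)
  have hreg : ∀ z : P, τ * z ∈ K → z ∈ K := by
    intro z hz
    rw [RingHom.mem_ker, map_mul] at hz
    have hreg0 : IsSMulRegular B t := fun u v huv =>
      sub_eq_zero.1 (htr _ (by rw [mul_sub, sub_eq_zero]; exact huv))
    have hinj : Function.Injective fun w : AdicCompletion (maximalIdeal B) B => t • w := fun u v huv =>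
      (hreg0.of_flat (S := AdicCompletion (maximalIdeal B) B)) (by simpa [Algebra.smul_def] using huv)
    refine RingHom.mem_ker.2 (hinj ?_)
    show t • _ = t • 0
    rw [smul_zero, Algebra.smul_def]
    rw [show (θ.comp f) τ = algebraMap B _ t from hτ] at hz
    exact hz
  have hqK : q ∈ K := by
    rw [RingHom.mem_ker, RingHom.comp_apply,
      RingHom.mem_ker.1 (hkf ▸ Ideal.mem_span_singleton_self q : q ∈ RingHom.ker f), map_zero]
  have hKq : K = Ideal.span {q} := eq_span_singleton hqK (not_qf_mem_cube hd) hK hτm hreg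
  rw [RingHom.injective_iff_ker_eq_bot, eq_bot_iff]
  intro z hz
  obtain ⟨p, hp⟩ := hf (algebraMap A _ z)
  have h4 : p ∈ RingHom.ker f := by
    rw [hkf, ← hKq, RingHom.mem_ker, RingHom.comp_apply, hp, hθι, RingHom.mem_ker.1 hz, map_zero]
  rw [RingHom.mem_ker, hp] at h4
  haveI := CAlgH.isLocalHom_algebraMap_cpl A
  haveI : Module.FaithfullyFlat A (EGA4.Cpl A) := Module.FaithfullyFlat.of_flat_of_isLocalHom
  exact (Ideal.mem_bot).2 (FaithfulSMul.algebraMap_injective A (EGA4.Cpl A) (h4.trans (map_zero _).symm))

/-- A reduced quotient of a node which is not a field is the node or is regular. -/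
theorem isRegular_of_nodeData {A B : Type u} [CommRing A] [IsLocalRing A] [IsNoetherianRing A]
    [CommRing B] [IsLocalRing B] (φ : A →+* B) (hφ : Function.Surjective φ) [_root_.IsReduced B] (hB : ¬ IsField B)
    {x y a b c : A} (h : NodeData A x y a b c) (hle : ¬ RingHom.ker φ ≤ maximalIdeal A ^ 2) :
    IsRegularLocalRing B := by
  haveI : IsNoetherianRing B := isNoetherianRing_of_surjective A B φ hφ
  obtain ⟨z, hz, hz2⟩ := SetLike.not_le_iff_exists.1 hle
  have hzm : z ∈ maximalIdeal A := IsLocalRing.le_maximalIdeal (RingHom.ker_ne_top φ) hz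
  obtain ⟨r, s, hrs⟩ := Ideal.mem_span_pair.1 (h.span ▸ hzm : z ∈ Ideal.span {x, y})
  have hxm : x ∈ maximalIdeal A := h.span ▸ Ideal.subset_span (by simp)
  have hym : y ∈ maximalIdeal A := h.span ▸ Ideal.subset_span (by simp)
  have h0 : φ r * φ x + φ s * φ y = 0 := by rw [← map_mul, ← map_mul, ← map_add, hrs]; exact hz
  have hmB : maximalIdeal B = Ideal.span {φ x, φ y} := by
    rw [← IsLocalRing.map_maximalIdeal_of_surjective φ hφ, ← h.span, Ideal.map_span, Set.image_pair]
  obtain ⟨g, hg⟩ : ∃ g, maximalIdeal B = Ideal.span {g} := by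
    by_cases hr : IsUnit r
    · refine ⟨φ y, ?_⟩
      rw [hmB]
      refine le_antisymm (Ideal.span_le.2 (Set.insert_subset ?_ (Set.singleton_subset_iff.2 (Ideal.subset_span rfl))))
        (Ideal.span_mono (by simp))
      obtain ⟨i, hi⟩ := (hr.map φ).exists_left_inv
      refine Ideal.mem_span_singleton'.2 ⟨-(i * φ s), ?_⟩
      linear_combination (φ x) * hi - i * h0
    · by_cases hs : IsUnit s
      · refine ⟨φ x, ?_⟩
        rw [hmB]
        refine le_antisymm (Ideal.span_le.2 (Set.insert_subset (Ideal.subset_span rfl) (Set.singleton_subset_iff.2 ?_)))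
          (Ideal.span_mono (by simp))
        obtain ⟨i, hi⟩ := (hs.map φ).exists_left_inv
        refine Ideal.mem_span_singleton'.2 ⟨-(i * φ r), ?_⟩
        linear_combination (φ y) * hi - i * h0
      · exact absurd (by
          rw [← hrs, pow_two]
          exact add_mem (Ideal.mul_mem_mul ((IsLocalRing.mem_maximalIdeal _).2 hr) hxm)
            (Ideal.mul_mem_mul ((IsLocalRing.mem_maximalIdeal _).2 hs) hym)) hz2
  refine IsRegularLocalRing.of_spanFinrank_maximalIdeal_le B ?_
  have h1 : (maximalIdeal B).spanFinrank ≤ 1 := by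
    rw [hg]
    exact (Submodule.spanFinrank_span_le_ncard_of_finite (Set.finite_singleton g)).trans (Set.ncard_singleton g).le
  have h2 : (1 : WithBot ℕ∞) ≤ ringKrullDim B := by
    by_contra hcon
    haveI : Ring.KrullDimLE 0 B := by
      rw [Ring.krullDimLE_iff]
      exact Order.le_of_lt_succ (lt_of_not_ge hcon)
    exact hB (Ring.KrullDimLE.isField_of_isReduced)
  exact le_trans (by exact_mod_cast h1) h2

/-- A local domain of dimension at most one has no proper reduced quotient of positive dimension. -/
theorem injective_of_dim_le_one {A B : Type u} [CommRing A] [IsLocalRing A] [IsDomain A]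
    (hdim : ringKrullDim A ≤ 1) [CommRing B] [IsLocalRing B] (φ : A →+* B) (hφ : Function.Surjective φ)
    [_root_.IsReduced B] (hB : ¬ IsField B) : Function.Injective φ := by
  haveI : Ring.KrullDimLE 1 A := (Ring.krullDimLE_iff).2 hdim
  by_contra hinj
  rw [RingHom.injective_iff_ker_eq_bot] at hinj
  refine hB ?_
  haveI : Ring.KrullDimLE 0 B := Ring.krullDimLE_zero_iff.2 fun P hP => by
    haveI := hP
    have hne : P.comap φ ≠ ⊥ := fun h0 => hinj (le_bot_iff.1 (h0 ▸ fun z hz => by
      rw [Ideal.mem_comap, RingHom.mem_ker.1 hz]; exact P.zero_mem))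
    haveI : (P.comap φ).IsMaximal := Ring.krullDimLE_one_iff_of_noZeroDivisors.1 inferInstance _ hne (Ideal.comap_isPrime φ P)
    rw [← Ideal.map_comap_of_surjective φ hφ P]
    exact (Ideal.map_eq_top_or_isMaximal_of_surjective φ hφ inferInstance).resolve_left
      (by rw [Ideal.map_comap_of_surjective φ hφ P]; exact hP.ne_top)
  exact Ring.KrullDimLE.isField_of_isReduced

section scheme

variable (k : Type u) [Field k]

/-- A formally smooth stalk gives a smooth point. -/
theorem formallySmooth_stalkMap {Y : Scheme.{u}} [Y.Over (Spec (CommRingCat.of k))] (y : Y)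
    [Algebra.FormallySmooth k (Y.presheaf.stalk y)] :
    ((Y ↘ Spec (CommRingCat.of k)).stalkMap y).hom.FormallySmooth := by
  let q := Y ↘ Spec (CommRingCat.of k)
  let z : PrimeSpectrum k := q.base y
  let α : CommRingCat.of k ⟶ (Spec (CommRingCat.of k)).presheaf.stalk (q.base y) :=
    StructureSheaf.toStalk (CommRingCat.of k) (q.base y)
  have hα : α ≫ q.stalkMap y = CommRingCat.ofHom (algebraMap k (Y.presheaf.stalk y)) := by
    refine Spec.map_injective ?_
    rw [Spec.map_comp, VarietyLib.specMap_stalkAlgebra]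
    refine Eq.trans ?_ (Scheme.SpecMap_stalkMap_fromSpecStalk q (x := y))
    exact congrArg (Spec.map (q.stalkMap y) ≫ ·) (Spec.fromSpecStalk_eq' (R := CommRingCat.of k) (x := q.base y)).symm
  haveI : IsIso α := by
    rw [ConcreteCategory.isIso_iff_bijective]
    letI : Algebra k ((Spec (CommRingCat.of k)).presheaf.stalk (q.base y)) := α.hom.toAlgebra
    haveI : IsLocalization.AtPrime ((Spec (CommRingCat.of k)).presheaf.stalk (q.base y)) z.asIdeal :=
      StructureSheaf.IsLocalization.to_stalk _ z
    exact IsField.localization_map_bijective (M := z.asIdeal.primeCompl) (fun h0 => h0 z.asIdeal.zero_mem)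
      (Field.toIsField k)
  have h2 : (α ≫ q.stalkMap y).hom.FormallySmooth := by
    rw [hα]; exact RingHom.formallySmooth_algebraMap.2 inferInstance
  exact (RingHom.FormallySmooth.respectsIso.cancel_left_isIso α (q.stalkMap y)).1 h2

/-- The local ring of a closed point of a space of pure dimension one is not a field. -/
theorem not_isField_stalk {Y : Scheme.{u}} (hY : ∀ Z ∈ irreducibleComponents (Y : Type u), topologicalKrullDim Z = 1)
    {y : Y} (hy : IsClosed ({y} : Set Y)) : ¬ IsField (Y.presheaf.stalk y) := by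
  intro hF
  have hgen : ∀ η : Y, η ⤳ y → η = y := fun η hη => by
    obtain ⟨P, hP⟩ : η ∈ Set.range (Y.fromSpecStalk y) := by rw [Scheme.range_fromSpecStalk]; exact hη
    letI := hF.toField
    haveI : Subsingleton ↥(Spec (Y.presheaf.stalk y)) :=
      inferInstanceAs (Subsingleton (PrimeSpectrum (Y.presheaf.stalk y)))
    rw [← hP, Subsingleton.elim P (IsLocalRing.closedPoint _), Scheme.fromSpecStalk_closedPoint]
  have hC := irreducibleComponent_mem_irreducibleComponents y
  obtain ⟨η, hη⟩ := QuasiSober.sober (isIrreducible_irreducibleComponent (x := y)) isClosed_irreducibleComponent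
  have hηy : η = y := hgen η (hη.specializes mem_irreducibleComponent)
  have hZ : irreducibleComponent y = {y} := by rw [← hη.def, hηy]; exact hy.closure_eq
  have h1 := hY _ hC
  haveI : Subsingleton ↥(irreducibleComponent y) := by rw [hZ]; infer_instance
  haveI : Subsingleton (TopologicalSpace.IrreducibleCloseds ↥(irreducibleComponent y)) := ⟨fun P Q => by
    apply SetLike.coe_injective
    exact (Set.subsingleton_of_subsingleton.eq_singleton_of_mem P.isIrreducible.nonempty.choose_spec).trans
      ((Set.subsingleton_of_subsingleton.eq_singleton_of_mem Q.isIrreducible.nonempty.choose_spec).trans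
        (by congr 1; exact Subsingleton.elim _ _)).symm⟩
  have h2 : topologicalKrullDim ↥(irreducibleComponent y) ≤ 0 := Order.krullDim_nonpos_of_subsingleton
  rw [h1] at h2
  exact absurd h2 (by norm_num)

variable (X : Scheme.{u}) [X.Over (Spec (CommRingCat.of k))]
  [LocallyOfFiniteType (X ↘ (Spec (CommRingCat.of k)))]

/-- Reduced closed subcurves of at-worst-nodal curves are at-worst-nodal. -/
theorem atWorstNodal_of_closedImmersion
    (hequi : ∀ Z ∈ irreducibleComponents (X : Type u), topologicalKrullDim Z = 1) (hX : Curv2.AtWorstNodal k X)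
    {Y : Scheme.{u}} (i : Y ⟶ X) [IsClosedImmersion i] [AlgebraicGeometry.IsReduced Y]
    (hY : ∀ Z ∈ irreducibleComponents (Y : Type u), topologicalKrullDim Z = 1) :
    @Curv2.AtWorstNodal k _ Y ⟨i ≫ (X ↘ (Spec (CommRingCat.of k)))⟩ := by
  letI : Y.Over (Spec (CommRingCat.of k)) := ⟨i ≫ (X ↘ (Spec (CommRingCat.of k)))⟩
  haveI : LocallyOfFiniteType (Y ↘ Spec (CommRingCat.of k)) :=
    (inferInstance : LocallyOfFiniteType (i ≫ (X ↘ (Spec (CommRingCat.of k)))))
  haveI : LocallyOfFinitePresentation (Y ↘ Spec (CommRingCat.of k)) := inferInstance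
  intro y hy
  have hxc : IsClosed ({i y} : Set X) := by simpa using i.isClosedMap _ hy
  let φ := (i.stalkMap y).hom
  have hφ : Function.Surjective φ := i.stalkMap_surjective y
  haveI := isNoetherianRing_stalk k X (i y)
  haveI : _root_.IsReduced (Y.presheaf.stalk y) := inferInstance
  have hB := not_isField_stalk hY hy
  have hk : ∀ t : k, φ (algebraMap k (X.presheaf.stalk (i y)) t) = algebraMap k (Y.presheaf.stalk y) t := by
    intro t
    exact RingHom.congr_fun (GenSmoothLib.stalkMap_stalkStr (Y ↘ Spec (CommRingCat.of k))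
      (X ↘ Spec (CommRingCat.of k)) i rfl y) t
  rcases hX _ hxc with ⟨U, hxU, hU⟩ | hn
  · left
    haveI := hU
    haveI : IsRegularLocalRing (U.toScheme.presheaf.stalk ⟨i y, hxU⟩) :=
      VarietyLib.isRegularLocalRing_stalk_of_smooth k U.toScheme (U.ι ≫ (X ↘ Spec (CommRingCat.of k))) _
    haveI : IsRegularLocalRing (X.presheaf.stalk (i y)) :=
      .of_ringEquiv (U.stalkIso ⟨i y, hxU⟩).commRingCatIsoToRingEquiv
    haveI : IsDomain (X.presheaf.stalk (i y)) := CAlgH3.isDomain_of_isRegularLocalRing _
    have hdim : ringKrullDim (X.presheaf.stalk (i y)) ≤ 1 :=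
      (CurvesLib24.stalk_dim_le_topologicalKrullDim (i y)).trans
        ((TopDim.dim_le_iSup (fun K : irreducibleComponents (X : Type u) => (K : Set X)) fun W => by
          obtain ⟨K, hK, hWK⟩ := exists_mem_irreducibleComponents_subset_of_isIrreducible _ W.isIrreducible
          exact ⟨⟨K, hK⟩, hWK⟩).trans (iSup_le fun K => (hequi K.1 K.2).le))
    have hbij : Function.Bijective φ := ⟨injective_of_dim_le_one hdim φ hφ hB, hφ⟩
    refine (SmoothLib.smooth_nhd_iff (Y ↘ Spec (CommRingCat.of k)) y).2 ?_
    haveI : LocallyOfFinitePresentation (X ↘ Spec (CommRingCat.of k)) := inferInstance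
    have hfs := (SmoothLib.smooth_nhd_iff (X ↘ Spec (CommRingCat.of k)) (i y)).1 ⟨U, hxU, hU⟩
    haveI : IsIso (i.stalkMap y) := (ConcreteCategory.isIso_iff_bijective _).2 hbij
    show ((i ≫ (X ↘ (Spec (CommRingCat.of k)))).stalkMap y).hom.FormallySmooth
    rw [Scheme.Hom.stalkMap_comp]
    exact (RingHom.FormallySmooth.respectsIso.cancel_right_isIso _ (i.stalkMap y)).2 hfs
  · obtain ⟨hsep, u, v, a, b, c, hd⟩ := ((isNode_iff k X _).1 hn).2
    haveI := hsep
    haveI := (isClosed_iff_finite k X _).1 hxc
    haveI : Algebra.FormallyEtale k (ResidueField (X.presheaf.stalk (i y))) := Algebra.FormallyEtale.of_isSeparable _ _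
    haveI : IsLocalHom φ := IsLocalHom.of_surjective φ hφ
    let er : ResidueField (X.presheaf.stalk (i y)) ≃ₐ[k] ResidueField (Y.presheaf.stalk y) :=
      AlgEquiv.ofRingEquiv (f := RingEquiv.ofBijective (ResidueField.map φ)
        ⟨RingHom.injective _, fun z => by
          obtain ⟨z, rfl⟩ := residue_surjective z
          obtain ⟨z, rfl⟩ := hφ z
          exact ⟨residue _ z, ResidueField.map_residue φ z⟩⟩) fun t => by
        show residue _ (φ (algebraMap k _ t)) = residue _ (algebraMap k _ t)
        rw [hk]
    haveI : Algebra.IsSeparable k (ResidueField (Y.presheaf.stalk y)) := AlgEquiv.Algebra.isSeparable er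
    by_cases hle : RingHom.ker φ ≤ maximalIdeal (X.presheaf.stalk (i y)) ^ 2
    · right
      let e : X.presheaf.stalk (i y) ≃+* Y.presheaf.stalk y :=
        RingEquiv.ofBijective φ ⟨injective_of_nodeData (k := k) φ hφ hB hd hle, hφ⟩
      exact (isNode_iff k Y y).2 ⟨hy, inferInstance, _, _, _, _, _, hd.of_ringEquiv e⟩
    · left
      haveI := isRegular_of_nodeData φ hφ hB hd hle
      haveI : Algebra.FormallyEtale k (ResidueField (Y.presheaf.stalk y)) := Algebra.FormallyEtale.of_isSeparable _ _
      haveI : Algebra.EssFiniteType k (Y.presheaf.stalk y) := by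
        obtain ⟨_, ⟨V, hV, rfl⟩, hyV, -⟩ :=
          Y.isBasis_affineOpens.exists_subset_of_mem_open (Set.mem_univ y) isOpen_univ
        have h3 := (Synt15.stalk_algebra_data (Y ↘ Spec (CommRingCat.of k)) hV hyV).1
        have e : (Y ↘ Spec (CommRingCat.of k)).appLE ⊤ ⊤ le_top = (Y ↘ Spec (CommRingCat.of k)).appTop := by
          exact ((Y ↘ Spec (CommRingCat.of k)).appLE_eq_app (U := ⊤))
        exact Eq.mp (by rw [e]) h3
      haveI := formallySmooth_of_regular_of_residueField k (Y.presheaf.stalk y)
      exact (SmoothLib.smooth_nhd_iff (Y ↘ Spec (CommRingCat.of k)) y).2 (formallySmooth_stalkMap k y)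

end scheme

end Groth.Agent.NodeLib7
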