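import Groth.Agent.NodeLib7.Core

/-!
# Consequences of a nodal completion
-/

set_option autoImplicit false
set_option linter.style.haveILetI false

universe u

open IsLocalRing

namespace Groth.Agent.NodeLib7

variable {κ : Type u} [Field κ] {a₀ b₀ c₀ : κ}

theorem squarefree_qf (h : 4 * a₀ * c₀ - b₀ ^ 2 ≠ 0) : Squarefree (qf a₀ b₀ c₀) := by
  intro p ⟨w, hw⟩
  by_contra hp
  have hpm : p ∈ maximalIdeal (MvPowerSeries (Fin 2) κ) := (IsLocalRing.mem_maximalIdeal _).2 hp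
  obtain ⟨l₀, l₁, hl⟩ : ∃ l₀ l₁ : κ, p - (MvPowerSeries.C l₀ * MvPowerSeries.X 0 +
      MvPowerSeries.C l₁ * MvPowerSeries.X 1) ∈ maximalIdeal (MvPowerSeries (Fin 2) κ) ^ 2 := by
    rw [maximalIdeal_eq_span, Ideal.mem_span_pair] at hpm
    obtain ⟨g, g', rfl⟩ := hpm
    refine ⟨MvPowerSeries.constantCoeff g, MvPowerSeries.constantCoeff g', ?_⟩
    have := add_mem (Ideal.mul_mem_mul (sub_C_mem g) (X_mem (κ := κ) 0))
      (Ideal.mul_mem_mul (sub_C_mem g') (X_mem (κ := κ) 1))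
    rw [← pow_two] at this
    convert this using 1; ring
  set L := MvPowerSeries.C l₀ * MvPowerSeries.X 0 + MvPowerSeries.C l₁ * MvPowerSeries.X (1 : Fin 2)
  have hL : L ∈ maximalIdeal (MvPowerSeries (Fin 2) κ) :=
    add_mem (Ideal.mul_mem_left _ _ (X_mem 0)) (Ideal.mul_mem_left _ _ (X_mem 1))
  have hpm' : p ∈ maximalIdeal (MvPowerSeries (Fin 2) κ) := (IsLocalRing.mem_maximalIdeal _).2 hp
  set w₀ := MvPowerSeries.constantCoeff w
  have h3 : qf (a₀ - w₀ * l₀ * l₀) (b₀ - 2 * w₀ * l₀ * l₁) (c₀ - w₀ * l₁ * l₁) ∈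
      maximalIdeal (MvPowerSeries (Fin 2) κ) ^ 3 := by
    have e : qf (a₀ - w₀ * l₀ * l₀) (b₀ - 2 * w₀ * l₀ * l₁) (c₀ - w₀ * l₁ * l₁) =
        (w - MvPowerSeries.C w₀) * (p * p) + MvPowerSeries.C w₀ * ((p - L) * p + L * (p - L)) := by
      simp only [qf, map_sub, map_mul, map_ofNat] at hw ⊢
      simp only [L]
      linear_combination hw
    rw [e]
    refine add_mem ?_ (Ideal.mul_mem_left _ _ (add_mem ?_ ?_))
    · rw [pow_succ', pow_two]; exact Ideal.mul_mem_mul (sub_C_mem w) (Ideal.mul_mem_mul hpm' hpm')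
    · rw [pow_succ]; exact Ideal.mul_mem_mul hl hpm'
    · rw [pow_succ']; exact Ideal.mul_mem_mul hL hl
  obtain ⟨ha, hb, hc⟩ := qf_mem_cube_iff.1 h3
  rw [sub_eq_zero] at ha hb hc
  exact h (by rw [ha, hb, hc]; ring)

theorem isReduced_QQ (h : 4 * a₀ * c₀ - b₀ ^ 2 ≠ 0) : _root_.IsReduced (QQ a₀ b₀ c₀) := by
  haveI : IsDomain (MvPowerSeries (Fin 2) κ) := NoZeroDivisors.to_isDomain _
  haveI := isUFD (κ := κ)
  rw [← Ideal.isRadical_iff_quotient_reduced, ← isRadical_iff_span_singleton]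
  exact (squarefree_qf h).isRadical

variable {A : Type u} [CommRing A] [IsLocalRing A]

theorem finrank_cotangent_eq_two [IsNoetherianRing A] {x y : A} (hspan : Ideal.span {x, y} = maximalIdeal A)
    (hind : ∀ r s : A, r * x + s * y ∈ maximalIdeal A ^ 2 → r ∈ maximalIdeal A ∧ s ∈ maximalIdeal A) :
    Module.finrank (ResidueField A) (CotangentSpace A) = 2 := by
  have hx : x ∈ maximalIdeal A := hspan ▸ Ideal.subset_span (by simp)
  have hy : y ∈ maximalIdeal A := hspan ▸ Ideal.subset_span (by simp)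
  let v : Fin 2 → CotangentSpace A :=
    ![(maximalIdeal A).toCotangent ⟨x, hx⟩, (maximalIdeal A).toCotangent ⟨y, hy⟩]
  have hsp : (maximalIdeal A) = Ideal.span {x, y} := hspan.symm
  have htop : ⊤ ≤ Submodule.span (ResidueField A) (Set.range v) := by
    rintro z -
    obtain ⟨⟨w, hw⟩, rfl⟩ := Ideal.toCotangent_surjective _ z
    obtain ⟨r, s, rfl⟩ := Ideal.mem_span_pair.1 (hsp ▸ hw)
    rw [show (⟨r * x + s * y, hw⟩ : maximalIdeal A) = r • ⟨x, hx⟩ + s • ⟨y, hy⟩ from Subtype.ext (by simp),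
      map_add, map_smul, map_smul]
    refine add_mem (Submodule.smul_of_tower_mem _ r (Submodule.subset_span ⟨0, rfl⟩))
      (Submodule.smul_of_tower_mem _ s (Submodule.subset_span ⟨1, rfl⟩))
  have hli : LinearIndependent (ResidueField A) v := by
    rw [Fintype.linearIndependent_iff]
    intro g hg i
    choose r hr using fun i => residue_surjective (g i)
    rw [Fin.sum_univ_two, ← hr 0, ← hr 1, ← ResidueField.algebraMap_eq, algebraMap_smul, algebraMap_smul] at hg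
    change r 0 • (maximalIdeal A).toCotangent ⟨x, hx⟩ + r 1 • (maximalIdeal A).toCotangent ⟨y, hy⟩ = 0 at hg
    rw [← map_smul, ← map_smul, ← map_add, Ideal.toCotangent_eq_zero] at hg
    obtain ⟨h0, h1⟩ := hind (r 0) (r 1) (by simpa using hg)
    rw [← hr i, residue_eq_zero_iff]
    fin_cases i
    · exact h0
    · exact h1
  exact (Module.finrank_eq_card_basis (Module.Basis.mk hli htop)).trans (Fintype.card_fin 2)

theorem indep_of_finrank [IsNoetherianRing A] {x y : A} (hspan : Ideal.span {x, y} = maximalIdeal A)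
    (h2 : Module.finrank (ResidueField A) (CotangentSpace A) = 2) (r s : A)
    (h : r * x + s * y ∈ maximalIdeal A ^ 2) : r ∈ maximalIdeal A ∧ s ∈ maximalIdeal A := by
  have hx : x ∈ maximalIdeal A := hspan ▸ Ideal.subset_span (by simp)
  have hy : y ∈ maximalIdeal A := hspan ▸ Ideal.subset_span (by simp)
  let v : Fin 2 → CotangentSpace A :=
    ![(maximalIdeal A).toCotangent ⟨x, hx⟩, (maximalIdeal A).toCotangent ⟨y, hy⟩]
  have htop : ⊤ ≤ Submodule.span (ResidueField A) (Set.range v) := by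
    rintro z -
    obtain ⟨⟨w, hw⟩, rfl⟩ := Ideal.toCotangent_surjective _ z
    obtain ⟨r, s, rfl⟩ := Ideal.mem_span_pair.1 (hspan.symm ▸ hw)
    rw [show (⟨r * x + s * y, hw⟩ : maximalIdeal A) = r • ⟨x, hx⟩ + s • ⟨y, hy⟩ from Subtype.ext (by simp),
      map_add, map_smul, map_smul]
    refine add_mem (Submodule.smul_of_tower_mem _ r (Submodule.subset_span ⟨0, rfl⟩))
      (Submodule.smul_of_tower_mem _ s (Submodule.subset_span ⟨1, rfl⟩))
  have hli := linearIndependent_of_top_le_span_of_card_eq_finrank htop (by rw [Fintype.card_fin, h2])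
  have h0 : residue A r • v 0 + residue A s • v 1 = 0 := by
    rw [← ResidueField.algebraMap_eq, algebraMap_smul, algebraMap_smul]
    show r • (maximalIdeal A).toCotangent ⟨x, hx⟩ + s • (maximalIdeal A).toCotangent ⟨y, hy⟩ = 0
    rw [← map_smul, ← map_smul, ← map_add, Ideal.toCotangent_eq_zero]
    simpa using h
  have := Fintype.linearIndependent_iff.1 hli ![residue A r, residue A s] (by rw [Fin.sum_univ_two]; simpa using h0)
  exact ⟨(residue_eq_zero_iff r).1 (this 0), (residue_eq_zero_iff s).1 (this 1)⟩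

theorem span_pair_eq [IsNoetherianRing A] {x y : A} (hx : x ∈ maximalIdeal A) (hy : y ∈ maximalIdeal A)
    (h : maximalIdeal A ≤ Ideal.span {x, y} ⊔ maximalIdeal A ^ 2) : Ideal.span {x, y} = maximalIdeal A := by
  refine le_antisymm (Ideal.span_le.2 (Set.insert_subset hx (Set.singleton_subset_iff.2 hy))) ?_
  refine Submodule.le_of_le_smul_of_le_jacobson_bot (I := maximalIdeal A) (IsNoetherian.noetherian _)
    (IsLocalRing.maximalIdeal_le_jacobson _) ?_
  rw [smul_eq_mul, ← pow_two]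
  exact h

theorem exists_regular [IsNoetherianRing A] [_root_.IsReduced A] (hA : ¬ IsField A) :
    ∃ t ∈ maximalIdeal A, ∀ z, t * z = 0 → z = 0 := by
  classical
  by_contra hcon
  push Not at hcon
  have hsub : (maximalIdeal A : Set A) ⊆ ⋃ p ∈ (minimalPrimes.finite_of_isNoetherianRing A).toFinset, (p : Set A) := by
    intro t ht
    obtain ⟨z, hz, hz0⟩ := hcon t ht
    obtain ⟨p, hp, hzp⟩ : ∃ p ∈ minimalPrimes A, z ∉ p := by
      by_contra hall
      push Not at hall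
      refine hz0 (IsNilpotent.eq_zero (mem_nilradical.1 ?_))
      rw [nilradical_eq_sInf]
      refine Ideal.mem_sInf.2 fun {q} hq => ?_
      haveI : q.IsPrime := hq
      obtain ⟨p, hp, hpq⟩ := Ideal.exists_minimalPrimes_le (bot_le : (⊥ : Ideal A) ≤ q)
      exact hpq (hall p hp)
    refine Set.mem_biUnion (Set.Finite.mem_toFinset _ |>.2 hp) ?_
    exact (hp.1.1.mem_or_mem (hz ▸ p.zero_mem)).resolve_right hzp
  obtain ⟨p, hp, hle⟩ := (Ideal.subset_union_prime ⊥ ⊥ (fun p hp _ _ =>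
    ((Set.Finite.mem_toFinset _).1 hp).1.1)).1 hsub
  rw [Set.Finite.mem_toFinset] at hp
  haveI := hp.1.1
  have hpm : p = maximalIdeal A := le_antisymm (le_maximalIdeal hp.1.1.ne_top) hle
  haveI : IsArtinianRing A := by
    haveI : Ring.KrullDimLE 0 A := Ring.krullDimLE_zero_iff.2 fun q hq => by
      have : q = maximalIdeal A := le_antisymm (le_maximalIdeal hq.ne_top)
        (hpm ▸ hp.2 ⟨hq, bot_le⟩ (hpm ▸ le_maximalIdeal hq.ne_top))
      exact this ▸ maximalIdeal.isMaximal A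
    exact isArtinianRing_iff_isNoetherianRing_krullDimLE_zero.2 ⟨inferInstance, inferInstance⟩
  exact hA (IsArtinianRing.isField_of_isReduced_of_isLocalRing A)

variable [IsNoetherianRing A]

/-- A nodal completion gives the node data, reducedness and uniqueness of the relation. -/
theorem nodeData_of_completion (h : 4 * a₀ * c₀ - b₀ ^ 2 ≠ 0)
    (e : AdicCompletion (maximalIdeal A) A ≃+* QQ a₀ b₀ c₀) :
    _root_.IsReduced A ∧ ∃ x y a b c : A, NodeData A x y a b c ∧
      ∀ r s t : A, r * x ^ 2 + s * x * y + t * y ^ 2 ∈ maximalIdeal A ^ 3 →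
        ∃ l : A, residue A r = residue A (l * a) ∧ residue A s = residue A (l * b) ∧
          residue A t = residue A (l * c) := by
  classical
  let C := AdicCompletion (maximalIdeal A) A
  let φ : A →+* QQ a₀ b₀ c₀ := e.toRingHom.comp (algebraMap A C)
  haveI := isLocalRing_QQ a₀ b₀ c₀
  have hmC : maximalIdeal C = (maximalIdeal A).map (algebraMap A C) := AdicCompletion.maximalIdeal_eq_map
  have hem : (maximalIdeal C).map e.toRingHom = maximalIdeal (QQ a₀ b₀ c₀) :=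
    IsLocalRing.map_maximalIdeal_of_surjective _ e.surjective
  have hcomap : ∀ j, (maximalIdeal (QQ a₀ b₀ c₀) ^ j).comap φ = maximalIdeal A ^ j := by
    intro j
    rw [← hem, ← Ideal.map_pow, ← Ideal.comap_comap,
      Ideal.comap_map_of_bijective e.toRingHom e.bijective]
    exact CAlgH.comap_pow_eq_of_flat (algebraMap A C) (inferInstance : Module.Flat A C) hmC.symm j
  have hres : ∀ w : QQ a₀ b₀ c₀, ∃ r, w - φ r ∈ maximalIdeal (QQ a₀ b₀ c₀) := by
    intro w
    obtain ⟨w, rfl⟩ := e.surjective w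
    obtain ⟨r, hr⟩ := (AdicCompletion.residueField_map_bijective_of_fg
      (IsNoetherian.noetherian (maximalIdeal A))).2 (residue C w)
    obtain ⟨r, rfl⟩ := residue_surjective r
    rw [IsLocalRing.ResidueField.map_residue] at hr
    refine ⟨r, ?_⟩
    show e w - e (algebraMap A C r) ∈ _
    rw [← map_sub, ← hem]
    refine Ideal.mem_map_of_mem e.toRingHom ?_
    have := neg_mem (Ideal.Quotient.eq.1 hr)
    rwa [neg_sub] at this
  have hmap : (maximalIdeal A).map φ = maximalIdeal (QQ a₀ b₀ c₀) := by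
    rw [← hem, hmC, Ideal.map_map]
  have hsurj := CAlgH.exists_sub_mem_pow φ hmap hres
  -- the quotient
  let π : MvPowerSeries (Fin 2) κ →+* QQ a₀ b₀ c₀ := Ideal.Quotient.mk _
  have hπm : ∀ j, maximalIdeal (QQ a₀ b₀ c₀) ^ j = (maximalIdeal (MvPowerSeries (Fin 2) κ) ^ j).map π := fun j => by
    rw [Ideal.map_pow, IsLocalRing.map_maximalIdeal_of_surjective π Ideal.Quotient.mk_surjective]
  have hπX : ∀ i, π (MvPowerSeries.X i) ∈ maximalIdeal (QQ a₀ b₀ c₀) := fun i => by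
    rw [← pow_one (maximalIdeal (QQ a₀ b₀ c₀)), hπm, pow_one]; exact Ideal.mem_map_of_mem π (X_mem i)
  have hπmem : ∀ (j : ℕ) (p : MvPowerSeries (Fin 2) κ), π p ∈ maximalIdeal (QQ a₀ b₀ c₀) ^ j →
      p ∈ maximalIdeal (MvPowerSeries (Fin 2) κ) ^ j ⊔ Ideal.span {qf a₀ b₀ c₀} := fun j p hp => by
    rwa [hπm, ← Ideal.mem_comap, Ideal.comap_map_of_surjective _ Ideal.Quotient.mk_surjective,
      ← RingHom.ker_eq_comap_bot, Ideal.mk_ker] at hp
  have hmem : ∀ (j : ℕ) (r : A), φ r ∈ maximalIdeal (QQ a₀ b₀ c₀) ^ j ↔ r ∈ maximalIdeal A ^ j := fun j r => by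
    rw [← hcomap j]; rfl
  have hmem1 : ∀ (r : A), φ r ∈ maximalIdeal (QQ a₀ b₀ c₀) ↔ r ∈ maximalIdeal A := fun r => by
    simpa using hmem 1 r
  obtain ⟨x, hx⟩ := hsurj 2 (π (MvPowerSeries.X 0))
  obtain ⟨y, hy⟩ := hsurj 2 (π (MvPowerSeries.X 1))
  obtain ⟨a, ha⟩ := hres (π (MvPowerSeries.C a₀))
  obtain ⟨b, hb⟩ := hres (π (MvPowerSeries.C b₀))
  obtain ⟨c, hc⟩ := hres (π (MvPowerSeries.C c₀))
  have hxm : x ∈ maximalIdeal A := by
    rw [← hmem1, show φ x = π (MvPowerSeries.X 0) - (π (MvPowerSeries.X 0) - φ x) by ring]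
    exact sub_mem (hπX 0) (Ideal.pow_le_self two_ne_zero hx)
  have hym : y ∈ maximalIdeal A := by
    rw [← hmem1, show φ y = π (MvPowerSeries.X 1) - (π (MvPowerSeries.X 1) - φ y) by ring]
    exact sub_mem (hπX 1) (Ideal.pow_le_self two_ne_zero hy)
  -- quadratic expressions
  have key : ∀ (r s t : A) (r' s' t' : κ), π (MvPowerSeries.C r') - φ r ∈ maximalIdeal (QQ a₀ b₀ c₀) →
      π (MvPowerSeries.C s') - φ s ∈ maximalIdeal (QQ a₀ b₀ c₀) →
      π (MvPowerSeries.C t') - φ t ∈ maximalIdeal (QQ a₀ b₀ c₀) →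
      φ (r * x ^ 2 + s * x * y + t * y ^ 2) - π (qf r' s' t') ∈ maximalIdeal (QQ a₀ b₀ c₀) ^ 3 := by
    intro r s t r' s' t' hr hs ht
    have hx' : φ x ∈ maximalIdeal (QQ a₀ b₀ c₀) := (hmem1 x).2 hxm
    have hy' : φ y ∈ maximalIdeal (QQ a₀ b₀ c₀) := (hmem1 y).2 hym
    have h1 : ∀ {u v w z : QQ a₀ b₀ c₀}, u ∈ maximalIdeal _ → v ∈ maximalIdeal _ → z - w ∈ maximalIdeal _ ^ 2 →
        ∀ d, d * (u * (z - w)) ∈ maximalIdeal (QQ a₀ b₀ c₀) ^ 3 := fun hu _ hzw d => by
      rw [pow_succ']; exact Ideal.mul_mem_left _ d (Ideal.mul_mem_mul hu hzw)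
    have h2 : ∀ {u v w : QQ a₀ b₀ c₀}, u ∈ maximalIdeal _ → v ∈ maximalIdeal _ → w ∈ maximalIdeal _ →
        u * (v * w) ∈ maximalIdeal (QQ a₀ b₀ c₀) ^ 3 := fun hu hv hw => by
      rw [pow_succ', pow_two]; exact Ideal.mul_mem_mul hu (Ideal.mul_mem_mul hv hw)
    have hX := hπX 0
    have hY := hπX 1
    have ecalc : π (qf r' s' t') - φ (r * x ^ 2 + s * x * y + t * y ^ 2) =
        (π (MvPowerSeries.C r') - φ r) * (φ x * φ x) + (π (MvPowerSeries.C s') - φ s) * (φ x * φ y) +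
        (π (MvPowerSeries.C t') - φ t) * (φ y * φ y) +
        (π (MvPowerSeries.C r') * ((π (MvPowerSeries.X 0) + φ x) * (π (MvPowerSeries.X 0) - φ x)) +
        π (MvPowerSeries.C s') * (π (MvPowerSeries.X 1) * (π (MvPowerSeries.X 0) - φ x)) +
        π (MvPowerSeries.C s') * (φ x * (π (MvPowerSeries.X 1) - φ y)) +
        π (MvPowerSeries.C t') * ((π (MvPowerSeries.X 1) + φ y) * (π (MvPowerSeries.X 1) - φ y))) := by
      simp only [qf, map_add, map_mul, map_pow]; ring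
    have := neg_mem (ecalc ▸ (add_mem (add_mem (add_mem (h2 hr hx' hx') (h2 hs hx' hy')) (h2 ht hy' hy'))
      (add_mem (add_mem (add_mem (h1 (v := φ x) (add_mem hX hx') hx' hx _) (h1 (v := φ x) hY hx' hx _))
        (h1 (v := φ y) hx' hy' hy _)) (h1 (v := φ y) (add_mem hY hy') hy' hy _))))
    rwa [neg_sub] at this
  have hrel : a * x ^ 2 + b * x * y + c * y ^ 2 ∈ maximalIdeal A ^ 3 := by
    rw [← hmem]
    have := key a b c a₀ b₀ c₀ ha hb hc
    rwa [show π (qf a₀ b₀ c₀) = 0 from Ideal.Quotient.eq_zero_iff_mem.2 (Ideal.subset_span rfl), sub_zero] at this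
  have hdisc : residue A (4 * a * c - b ^ 2) ≠ 0 := by
    intro h0
    rw [residue_eq_zero_iff, ← hmem1] at h0
    have hd : π (MvPowerSeries.C (4 * a₀ * c₀ - b₀ ^ 2)) ∈ maximalIdeal (QQ a₀ b₀ c₀) := by
      have e1 : π (MvPowerSeries.C (4 * a₀ * c₀ - b₀ ^ 2)) = φ (4 * a * c - b ^ 2) +
          (4 * (π (MvPowerSeries.C a₀) - φ a) * π (MvPowerSeries.C c₀) + 4 * φ a * (π (MvPowerSeries.C c₀) - φ c) -
            (π (MvPowerSeries.C b₀) + φ b) * (π (MvPowerSeries.C b₀) - φ b)) := by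
        simp only [map_sub, map_mul, map_pow, map_ofNat]; ring
      rw [e1]
      exact add_mem h0 (sub_mem (add_mem (Ideal.mul_mem_right _ _ (Ideal.mul_mem_left _ _ ha))
        (Ideal.mul_mem_left _ _ hc)) (Ideal.mul_mem_left _ _ hb))
    exact (IsLocalRing.mem_maximalIdeal _).1 hd
      (((isUnit_iff_ne_zero.2 h).map MvPowerSeries.C).map π)
  have hind : ∀ r s : A, r * x + s * y ∈ maximalIdeal A ^ 2 → r ∈ maximalIdeal A ∧ s ∈ maximalIdeal A := by
    intro r s hrs
    rw [← hmem] at hrs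
    obtain ⟨r', hr'⟩ : ∃ r' : κ, φ r - π (MvPowerSeries.C r') ∈ maximalIdeal (QQ a₀ b₀ c₀) := by
      obtain ⟨p, hp⟩ := Ideal.Quotient.mk_surjective (φ r)
      refine ⟨MvPowerSeries.constantCoeff p, ?_⟩
      rw [← hp, ← map_sub, ← pow_one (maximalIdeal (QQ a₀ b₀ c₀)), hπm, pow_one]
      exact Ideal.mem_map_of_mem π (sub_C_mem p)
    obtain ⟨s', hs'⟩ : ∃ s' : κ, φ s - π (MvPowerSeries.C s') ∈ maximalIdeal (QQ a₀ b₀ c₀) := by
      obtain ⟨p, hp⟩ := Ideal.Quotient.mk_surjective (φ s)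
      refine ⟨MvPowerSeries.constantCoeff p, ?_⟩
      rw [← hp, ← map_sub, ← pow_one (maximalIdeal (QQ a₀ b₀ c₀)), hπm, pow_one]
      exact Ideal.mem_map_of_mem π (sub_C_mem p)
    have h2 : π (MvPowerSeries.C r' * MvPowerSeries.X 0 + MvPowerSeries.C s' * MvPowerSeries.X 1) ∈
        maximalIdeal (QQ a₀ b₀ c₀) ^ 2 := by
      have e1 : π (MvPowerSeries.C r' * MvPowerSeries.X 0 + MvPowerSeries.C s' * MvPowerSeries.X 1) =
          φ (r * x + s * y) + (φ r * (π (MvPowerSeries.X 0) - φ x) + φ s * (π (MvPowerSeries.X 1) - φ y)) -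
          ((φ r - π (MvPowerSeries.C r')) * π (MvPowerSeries.X 0) +
           (φ s - π (MvPowerSeries.C s')) * π (MvPowerSeries.X 1)) := by
        simp only [map_add, map_mul]; ring
      rw [e1]
      refine sub_mem (add_mem hrs (add_mem (Ideal.mul_mem_left _ _ hx) (Ideal.mul_mem_left _ _ hy))) ?_
      rw [pow_two]
      exact add_mem (Ideal.mul_mem_mul hr' (hπX 0)) (Ideal.mul_mem_mul hs' (hπX 1))
    obtain ⟨rfl, rfl⟩ := linear_mem_sq (hπmem 2 _ h2)
    rw [map_zero, map_zero, sub_zero] at hr' hs'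
    exact ⟨(hmem1 r).1 hr', (hmem1 s).1 hs'⟩
  have hspan : Ideal.span {x, y} = maximalIdeal A := by
    refine span_pair_eq hxm hym fun z hz => ?_
    obtain ⟨p, hp⟩ := Ideal.Quotient.mk_surjective (φ z)
    have hp1 : p ∈ maximalIdeal (MvPowerSeries (Fin 2) κ) ^ 1 ⊔ Ideal.span {qf a₀ b₀ c₀} :=
      hπmem 1 p (by rw [pow_one]; exact hp ▸ (hmem1 z).2 hz)
    rw [pow_one, sup_eq_left.2 ((Ideal.span_singleton_le_iff_mem _).2
      (Ideal.pow_le_self two_ne_zero (qf_mem_sq a₀ b₀ c₀))), maximalIdeal_eq_span, Ideal.mem_span_pair] at hp1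
    obtain ⟨g, g', rfl⟩ := hp1
    obtain ⟨r, hr⟩ := hres (π g)
    obtain ⟨s, hs⟩ := hres (π g')
    refine Submodule.mem_sup.2 ⟨r * x + s * y, Ideal.mem_span_pair.2 ⟨r, s, rfl⟩, z - (r * x + s * y), ?_, by ring⟩
    rw [← hmem]
    have e1 : φ (z - (r * x + s * y)) = (π g - φ r) * π (MvPowerSeries.X 0) + (π g' - φ s) * π (MvPowerSeries.X 1) +
        (φ r * (π (MvPowerSeries.X 0) - φ x) + φ s * (π (MvPowerSeries.X 1) - φ y)) := by
      rw [map_sub, ← hp]
      simp only [map_add, map_mul]; ring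
    rw [e1]
    refine add_mem ?_ (add_mem (Ideal.mul_mem_left _ _ hx) (Ideal.mul_mem_left _ _ hy))
    rw [pow_two]
    exact add_mem (Ideal.mul_mem_mul hr (hπX 0)) (Ideal.mul_mem_mul hs (hπX 1))
  haveI := isReduced_QQ h
  haveI : Module.FaithfullyFlat A C := Module.FaithfullyFlat.of_flat_of_isLocalHom
  have hred : _root_.IsReduced A :=
    isReduced_of_injective φ (e.injective.comp (FaithfulSMul.algebraMap_injective A C))
  refine ⟨hred, x, y, a, b, c, ⟨hspan, hdisc, hrel, hind, ?_⟩, ?_⟩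
  · refine exists_regular fun hF => ?_
    have hm : maximalIdeal A = ⊥ := (IsLocalRing.isField_iff_maximalIdeal_eq.1 hF)
    have : (1 : A) ∈ maximalIdeal A := (hind 1 0 (by
      have : x = 0 := by rw [hm, Ideal.mem_bot] at hxm; exact hxm
      simp [this])).1
    exact (maximalIdeal.isMaximal A).ne_top ((Ideal.eq_top_iff_one _).2 this)
  · intro r s t hrst
    have lift : ∀ w : A, ∃ w' : κ, π (MvPowerSeries.C w') - φ w ∈ maximalIdeal (QQ a₀ b₀ c₀) := fun w => by
      obtain ⟨p, hp⟩ := Ideal.Quotient.mk_surjective (φ w)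
      refine ⟨MvPowerSeries.constantCoeff p, ?_⟩
      rw [← hp, ← map_sub, ← pow_one (maximalIdeal (QQ a₀ b₀ c₀)), hπm, pow_one]
      have := neg_mem (sub_C_mem p)
      rw [neg_sub] at this
      exact Ideal.mem_map_of_mem π this
    obtain ⟨r', hr'⟩ := lift r
    obtain ⟨s', hs'⟩ := lift s
    obtain ⟨t', ht'⟩ := lift t
    have h3 : π (qf r' s' t') ∈ maximalIdeal (QQ a₀ b₀ c₀) ^ 3 := by
      have := sub_mem ((hmem 3 _).2 hrst) (key r s t r' s' t' hr' hs' ht')
      rwa [sub_sub_cancel] at this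
    obtain ⟨l', rfl, rfl, rfl⟩ := exists_smul_of_mem (hπmem 3 _ h3)
    obtain ⟨l, hl⟩ := hres (π (MvPowerSeries.C l'))
    have : ∀ (w v : A) (v' : κ), π (MvPowerSeries.C (l' * v')) - φ w ∈ maximalIdeal (QQ a₀ b₀ c₀) →
        π (MvPowerSeries.C v') - φ v ∈ maximalIdeal (QQ a₀ b₀ c₀) → residue A w = residue A (l * v) := by
      intro w v v' hw hv
      rw [← sub_eq_zero, ← map_sub, residue_eq_zero_iff, ← hmem1]
      have e1 : φ (w - l * v) = -(π (MvPowerSeries.C (l' * v')) - φ w) +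
          ((π (MvPowerSeries.C l') - φ l) * π (MvPowerSeries.C v') + φ l * (π (MvPowerSeries.C v') - φ v)) := by
        simp only [map_sub, map_mul]; ring
      rw [e1]
      exact add_mem (neg_mem hw) (add_mem (Ideal.mul_mem_right _ _ hl) (Ideal.mul_mem_left _ _ hv))
    exact ⟨l, this r a a₀ hr' ha, this s b b₀ hs' hb, this t c c₀ ht' hc⟩

end Groth.Agent.NodeLib7
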