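import Groth.Agent.NodeLib7.Point
import Groth.Agent.NodeLib7.FromCompletion
import Groth.Agent.DualLib.GorRing
import Groth.Agent.LocCoh.Gorenstein
import Groth.Agent.Misc15.StalkLoc
import Groth.Agent.VarietyLib.SmoothStalk
import Groth.Agent.AbSchLib.SmoothReduced
import Groth.Agent.FBaseLib.Geom
import Groth.Agent.SmoothLib.StalkCrit

/-!
# Local rings of at-worst-nodal curves
-/

set_option autoImplicit false
set_option linter.style.haveILetI false
set_option backward.isDefEq.respectTransparency false

universe u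

open CategoryTheory CategoryTheory.Limits AlgebraicGeometry IsLocalRing

attribute [local instance] Curv2.stalkAlgebra Curv2.resAlgebra

namespace Groth.Agent.NodeLib7

/-- A property of local rings stable under localisation holds at all points once it holds at closed ones. -/
theorem forall_stalk_of_closed {X : Scheme.{u}} [JacobsonSpace X] (P : ∀ (A : Type u) [CommRing A], Prop)
    (congr : ∀ (A B : Type u) [CommRing A] [CommRing B], (A ≃+* B) → P A → P B)
    (loc : ∀ z : X, P (X.presheaf.stalk z) → ∀ (p : Ideal (X.presheaf.stalk z)) [p.IsPrime], P (Localization.AtPrime p))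
    (h : ∀ z : X, IsClosed ({z} : Set X) → P (X.presheaf.stalk z)) (x : X) : P (X.presheaf.stalk x) := by
  obtain ⟨z, hz, hzc⟩ := nonempty_inter_closedPoints (X := X) (Z := closure {x}) ⟨x, subset_closure rfl⟩
    (isClosed_closure (s := ({x} : Set X))).isLocallyClosed
  have hxz : x ⤳ z := specializes_iff_mem_closure.2 hz
  letI := (X.presheaf.stalkSpecializes hxz).hom.toAlgebra
  haveI := Misc15.isLocalization_stalkSpecializes hxz
  let p : Ideal (X.presheaf.stalk z) := (maximalIdeal (X.presheaf.stalk x)).comap (X.presheaf.stalkSpecializes hxz).hom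
  haveI : p.IsPrime := Ideal.comap_isPrime _ _
  have hp : p.primeCompl = (IsUnit.submonoid (X.presheaf.stalk x)).comap (X.presheaf.stalkSpecializes hxz).hom := by
    ext a
    show ¬ (_ ∈ maximalIdeal _) ↔ IsUnit _
    exact IsLocalRing.notMem_maximalIdeal
  haveI : IsLocalization.AtPrime (X.presheaf.stalk x) p := by
    show IsLocalization p.primeCompl _
    rw [hp]; infer_instance
  exact congr _ _ (IsLocalization.algEquiv p.primeCompl (Localization.AtPrime p) (X.presheaf.stalk x)).toRingEquiv
    (loc z (h z hzc) p)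

/-- The quadratic cone is Gorenstein. -/
theorem gor_QQ {κ : Type u} [Field κ] {a b c : κ} (h : 4 * a * c - b ^ 2 ≠ 0) :
    _root_.LocCoh.IsGorensteinLocalRing (QQ a b c) := by
  haveI : IsRegularLocalRing (MvPowerSeries (Fin 2) κ) := (CAlgH.isRegularLocalRing_mvPowerSeries κ 2).1
  haveI : IsDomain (MvPowerSeries (Fin 2) κ) := NoZeroDivisors.to_isDomain _
  have h0 : qf a b c ≠ 0 := fun h0 => not_qf_mem_cube h (h0 ▸ zero_mem _)
  have h1 := (DualLib.GorFlat.gor_quot_iff [qf a b c]
    (by simpa using Ideal.pow_le_self two_ne_zero (qf_mem_sq a b c)) ?_).1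
    (DualLib.GorRing.gor_of_isRegularLocalRing (MvPowerSeries (Fin 2) κ))
  · exact (DualLib.GorFlat.gor_congr (Ideal.quotEquivOfEq (Ideal.ofList_singleton _))).1 h1
  · rw [RingTheory.Sequence.isWeaklyRegular_singleton_iff]
    exact fun x y hxy => mul_left_cancel₀ h0 hxy

/-- A ring whose completion is Gorenstein is Gorenstein. -/
theorem gor_of_completion {A : Type u} [CommRing A] [IsLocalRing A] [IsNoetherianRing A]
    (h : _root_.LocCoh.IsGorensteinLocalRing (AdicCompletion (maximalIdeal A) A)) :
    _root_.LocCoh.IsGorensteinLocalRing A := by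
  haveI : IsNoetherianRing (AdicCompletion (maximalIdeal A) A) := Matlis6.isNoetherianRing_adicCompletion _
  haveI : IsLocalHom (algebraMap A (AdicCompletion (maximalIdeal A) A)) := CAlgH.isLocalHom_algebraMap_cpl A
  exact ((DualLib.GorFlat.gor_flat_iff (A := A) (B := AdicCompletion (maximalIdeal A) A)).1 h).1

variable (k : Type u) [Field k] (X : Scheme.{u}) [X.Over (Spec (CommRingCat.of k))]
  [LocallyOfFiniteType (X ↘ (Spec (CommRingCat.of k)))]

include k in
theorem gor_stalk_of_atWorstNodal (hX : Curv2.AtWorstNodal k X) (x : X) :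
    _root_.LocCoh.IsGorensteinLocalRing (X.presheaf.stalk x) := by
  haveI : JacobsonSpace X := LocallyOfFiniteType.jacobsonSpace (X ↘ Spec (CommRingCat.of k))
  refine forall_stalk_of_closed (fun A _ => _root_.LocCoh.IsGorensteinLocalRing A)
    (fun A B _ _ e h => (DualLib.GorFlat.gor_congr e).1 h) (fun z h p _ => ?_) (fun z hz => ?_) x
  · haveI := h
    exact LocCoh.gorenstein_localization p
  · rcases hX z hz with ⟨U, hzU, hU⟩ | hn
    · haveI : IsRegularLocalRing (U.toScheme.presheaf.stalk ⟨z, hzU⟩) :=
        VarietyLib.isRegularLocalRing_stalk_of_smooth k U.toScheme (U.ι ≫ (X ↘ Spec (CommRingCat.of k))) _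
      exact (DualLib.GorFlat.gor_congr (U.stalkIso ⟨z, hzU⟩).commRingCatIsoToRingEquiv).1
        (DualLib.GorRing.gor_of_isRegularLocalRing _)
    · haveI := isNoetherianRing_stalk k X z
      obtain ⟨a, b, c, hd, e, -⟩ := exists_completion_of_isNodePt k X ((isNode_iff k X z).1 hn).2
      exact gor_of_completion ((DualLib.GorFlat.gor_congr e).2 (gor_QQ hd))

include k in
theorem isReduced_stalk_of_atWorstNodal (hX : Curv2.AtWorstNodal k X) (x : X) :
    _root_.IsReduced (X.presheaf.stalk x) := by
  haveI : JacobsonSpace X := LocallyOfFiniteType.jacobsonSpace (X ↘ Spec (CommRingCat.of k))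
  refine forall_stalk_of_closed (fun A _ => _root_.IsReduced A)
    (fun A B _ _ e h => isReduced_of_injective e.symm e.symm.injective) (fun z h p _ => ?_) (fun z hz => ?_) x
  · infer_instance
  · rcases hX z hz with ⟨U, hzU, hU⟩ | hn
    · haveI : AlgebraicGeometry.IsReduced U.toScheme := AbSchLib.isReduced_of_smooth (U.ι ≫ (X ↘ Spec (CommRingCat.of k)))
      haveI : _root_.IsReduced (U.toScheme.presheaf.stalk ⟨z, hzU⟩) := inferInstance
      exact isReduced_of_injective (U.stalkIso ⟨z, hzU⟩).inv.hom
        (ConcreteCategory.bijective_of_isIso (U.stalkIso ⟨z, hzU⟩).inv).1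
    · exact isReduced_of_isNode k X hn

/-- An at-worst-nodal scheme stays so over an algebraic closure at the closed points. -/
theorem isReduced_bc_of_atWorstNodal (hX : Curv2.AtWorstNodal k X) :
    IsReduced (Curv2.bc k X (AlgebraicClosure k)) := by
  let K := AlgebraicClosure k
  let Y := Curv2.bc k X K
  letI : Y.Over (Spec (CommRingCat.of K)) := ⟨Curv2.bcSnd k X K⟩
  haveI : LocallyOfFiniteType (Y ↘ Spec (CommRingCat.of K)) :=
    (MorphismProperty.pullback_snd _ _ inferInstance : LocallyOfFiniteType (Curv2.bcSnd k X K))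
  haveI : JacobsonSpace Y := LocallyOfFiniteType.jacobsonSpace (Y ↘ Spec (CommRingCat.of K))
  suffices h : ∀ y : Y, _root_.IsReduced (Y.presheaf.stalk y) from isReduced_of_isReduced_stalk Y
  refine forall_stalk_of_closed (fun A _ => _root_.IsReduced A)
    (fun A B _ _ e h => isReduced_of_injective e.symm e.symm.injective) (fun z h p _ => ?_) (fun y hy => ?_)
  · infer_instance
  · haveI : IsIntegralHom (Spec.map (CommRingCat.ofHom (algebraMap k K))) :=
      IsIntegralHom.SpecMap_iff.2 (algebraMap_isIntegral_iff.2 inferInstance)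
    haveI : IsIntegralHom (Curv2.bcFst k X K) := MorphismProperty.pullback_fst _ _ inferInstance
    have hxc : IsClosed ({Curv2.bcFst k X K y} : Set X) := by
      simpa using (Curv2.bcFst k X K).isClosedMap _ hy
    rcases hX _ hxc with hs | hn
    · obtain ⟨U, hyU, hU⟩ := SmoothLib.smooth_nhd_baseChange (X ↘ Spec (CommRingCat.of k))
        (Spec.map (CommRingCat.ofHom (algebraMap k K))) (IsPullback.of_hasPullback _ _) y hs
      haveI : Smooth (U.ι ≫ Curv2.bcSnd k X K) := hU
      haveI : AlgebraicGeometry.IsReduced U.toScheme := AbSchLib.isReduced_of_smooth (U.ι ≫ Curv2.bcSnd k X K)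
      haveI : _root_.IsReduced (U.toScheme.presheaf.stalk ⟨y, hyU⟩) := inferInstance
      exact isReduced_of_injective (U.stalkIso ⟨y, hyU⟩).inv.hom
        (ConcreteCategory.bijective_of_isIso (U.stalkIso ⟨y, hyU⟩).inv).1
    · haveI := isNoetherianRing_stalk K Y y
      obtain ⟨e, -⟩ := ((isNode_iff k X _).1 hn).2.isOrdDoublePt k X y hxc
      have hq : (qf (0 : K) 1 0) = MvPowerSeries.X 0 * MvPowerSeries.X 1 := by simp [qf]
      exact (nodeData_of_completion (a₀ := (0 : K)) (b₀ := 1) (c₀ := 0) (by simp)
        (e.trans (Ideal.quotEquivOfEq (congrArg (fun q => Ideal.span {q}) hq.symm)))).1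

theorem geometricallyReduced_of_atWorstNodal (hX : Curv2.AtWorstNodal k X) :
    GeometricallyReduced (X ↘ Spec (CommRingCat.of k)) := by
  haveI : IsReduced (pullback (X ↘ Spec (CommRingCat.of k))
      (Spec.map (CommRingCat.ofHom (algebraMap k (AlgebraicClosure k))))) := isReduced_bc_of_atWorstNodal k X hX
  exact FBaseLib.geometricallyReduced_of_perfect (Ω := AlgebraicClosure k) _

end Groth.Agent.NodeLib7
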