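import Groth.Agent.NodeLib7.Universal
import Mathlib.RingTheory.DiscreteValuationRing.TFAE
import Mathlib.RingTheory.Etale.Basic
import Mathlib.RingTheory.Unramified.LocalStructure
import Mathlib.RingTheory.Filtration
import Mathlib.RingTheory.Flat.TorsionFree
import Mathlib.AlgebraicGeometry.Morphisms.Etale
import Mathlib.RingTheory.RingHom.Etale

/-!
# Nodal charts over a discrete valuation ring
-/

set_option autoImplicit false
set_option backward.isDefEq.respectTransparency false
set_option linter.style.haveILetI false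

universe u

open CategoryTheory CategoryTheory.Limits AlgebraicGeometry IsLocalRing

namespace Groth.Agent.NodeLib7

variable {R : Type u} [CommRing R] [IsDomain R] [IsDiscreteValuationRing R]

/-- An étale algebra over a discrete valuation ring is, near a point of the closed fibre, a discrete
valuation ring with the same uniformizer. -/
theorem exists_away_dvr {C : Type u} [CommRing C] [Algebra R C] [Algebra.Etale R C] {ϖ : R} (hϖ : Irreducible ϖ)
    (P : Ideal C) [P.IsPrime] (hP : P.comap (algebraMap R C) = maximalIdeal R) :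
    ∃ e ∉ P, ∃ (_ : IsDomain (Localization.Away e)) (_ : IsDiscreteValuationRing (Localization.Away e)),
      Irreducible (algebraMap R (Localization.Away e) ϖ) := by
  classical
  haveI : Algebra.FormallyUnramified R C := inferInstance
  haveI : Algebra.QuasiFinite R C := inferInstance
  let bad : Set (Ideal C) := {Q | Q.IsPrime ∧ ¬ Q ≤ P}
  have hbad : bad.Finite := by
    refine Set.Finite.subset (Set.Finite.union (Algebra.QuasiFinite.finite_primesOver (S := C) (maximalIdeal R))
      (Algebra.QuasiFinite.finite_primesOver (S := C) (⊥ : Ideal R))) fun Q ⟨hQ, _⟩ => ?_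
    haveI : (Q.under R).IsPrime := Ideal.IsPrime.comap _
    rcases eq_or_ne (Q.under R) ⊥ with h | h
    · exact Or.inr ⟨hQ, ⟨h.symm⟩⟩
    · exact Or.inl ⟨hQ, ⟨(IsLocalRing.eq_maximalIdeal (Ideal.IsPrime.isMaximal inferInstance h)).symm⟩⟩
  have hz : ∀ Q ∈ bad, ∃ z ∈ Q, z ∉ P := fun Q hQ => SetLike.not_le_iff_exists.1 hQ.2
  choose! z hzQ hzP using hz
  let e : C := ∏ Q ∈ hbad.toFinset, z Q
  have heP : e ∉ P := fun h => by
    obtain ⟨Q, hQ, hQz⟩ := (Ideal.IsPrime.prod_mem_iff).1 h
    exact hzP Q (hbad.mem_toFinset.1 hQ) hQz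
  refine ⟨e, heP, ?_⟩
  let C' := Localization.Away e
  have hdisj : Disjoint (Submonoid.powers e : Set C) P :=
    (Ideal.disjoint_powers_iff_notMem_of_isPrime _).2 heP
  let P' : Ideal C' := P.map (algebraMap C C')
  haveI hP' : P'.IsPrime := IsLocalization.isPrime_of_isPrime_disjoint (.powers e) C' P ‹_› hdisj
  have hP'c : P'.comap (algebraMap C C') = P :=
    IsLocalization.under_map_of_isPrime_disjoint (.powers e) C' ‹_› hdisj
  have hmax : ∀ M : Ideal C', M.IsMaximal → M = P' := by
    intro M hM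
    refine hM.eq_of_le hP'.ne_top ?_
    rw [← IsLocalization.map_comap (Submonoid.powers e) C' M]
    refine Ideal.map_mono ?_
    by_contra hle
    have hMb : M.comap (algebraMap C C') ∈ bad := ⟨Ideal.IsPrime.comap _, hle⟩
    have he : e ∈ M.comap (algebraMap C C') := by
      refine Ideal.mem_of_dvd _ (Finset.dvd_prod_of_mem z (hbad.mem_toFinset.2 hMb)) (hzQ _ hMb)
    exact hM.ne_top (Ideal.eq_top_of_isUnit_mem _ he (IsLocalization.Away.algebraMap_isUnit e))
  have hP'max : P'.IsMaximal := by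
    obtain ⟨M, hM, hle⟩ := Ideal.exists_le_maximal P' hP'.ne_top
    exact hmax M hM ▸ hM
  haveI : IsLocalRing C' := IsLocalRing.of_unique_max_ideal ⟨P', hP'max, hmax⟩
  haveI hCC' : Algebra.Etale C C' := Algebra.Etale.of_isLocalizationAway e
  haveI : Algebra.Etale R C' := Algebra.Etale.comp R C C'
  haveI : IsLocalHom (algebraMap R C') := by
    refine ((local_hom_TFAE _).out 0 4).2 ?_
    rw [← IsLocalRing.eq_maximalIdeal hP'max, IsScalarTower.algebraMap_eq R C C', ← Ideal.comap_comap, hP'c, hP]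
  let π : C' := algebraMap R C' ϖ
  have hm : maximalIdeal C' = Ideal.span {π} := by
    rw [← Algebra.FormallyUnramified.map_maximalIdeal (R := R) (S := C'), hϖ.maximalIdeal_eq, Ideal.map_span,
      Set.image_singleton]
  haveI : IsNoetherianRing C' := Algebra.FiniteType.isNoetherianRing R C'
  have hinj : ∀ w, π * w = 0 → w = 0 := by
    have hreg : IsSMulRegular C' ϖ := Module.Flat.isSMulRegular_of_isRegular
      (IsRegular.of_ne_zero hϖ.ne_zero)
    intro w hw
    refine hreg ?_
    show ϖ • w = ϖ • (0 : C')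
    rw [Algebra.smul_def, smul_zero]
    exact hw
  have hfac : ∀ w : C', w ≠ 0 → ∃ (n : ℕ) (v : C'), IsUnit v ∧ w = π ^ n * v := by
    intro w hw
    have hne : ∃ n, w ∉ Ideal.span {π} ^ n := by
      by_contra hall
      push Not at hall
      have : w ∈ ⨅ n, maximalIdeal C' ^ n := by
        rw [Ideal.mem_iInf]; intro n; rw [hm]; exact hall n
      rw [Ideal.iInf_pow_eq_bot_of_isLocalRing _ (maximalIdeal.isMaximal C').ne_top] at this
      exact hw this
    obtain ⟨n, hn, hmin⟩ : ∃ n, w ∉ Ideal.span {π} ^ n ∧ ∀ k < n, w ∈ Ideal.span {π} ^ k :=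
      ⟨Nat.find hne, Nat.find_spec hne, fun k hk => not_not.1 (Nat.find_min hne hk)⟩
    cases n with
    | zero => exact absurd (by simp) hn
    | succ n =>
      have hk := hmin n (Nat.lt_succ_self n)
      rw [Ideal.span_singleton_pow, Ideal.mem_span_singleton] at hk
      obtain ⟨v, rfl⟩ := hk
      refine ⟨n, v, ?_, rfl⟩
      by_contra hv
      refine hn ?_
      have : v ∈ Ideal.span {π} := hm ▸ hv
      rw [Ideal.span_singleton_pow, Ideal.mem_span_singleton, pow_succ]
      exact mul_dvd_mul_left _ (Ideal.mem_span_singleton.1 this)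
  have hcancel : ∀ (n : ℕ) w, π ^ n * w = 0 → w = 0 := fun n => by
    induction n with
    | zero => simp
    | succ n ih => intro w hw; exact hinj _ (ih _ (by rw [← mul_assoc, ← pow_succ]; exact hw))
  haveI : NoZeroDivisors C' := ⟨fun {v w} hvw => by
    by_contra hne
    push Not at hne
    obtain ⟨n, v', hv', rfl⟩ := hfac v hne.1
    refine hne.2 (hcancel n w ?_)
    obtain ⟨vi, hvi⟩ := hv'.exists_left_inv
    linear_combination vi * hvw - (π ^ n * w) * hvi⟩
  haveI hdom : IsDomain C' := NoZeroDivisors.to_isDomain _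
  have hπ0 : π ≠ 0 := fun h => one_ne_zero (hinj 1 (by rw [h, zero_mul]))
  have hnf : ¬ IsField C' := fun h => by
    rw [isField_iff_maximalIdeal_eq, hm, Ideal.span_singleton_eq_bot] at h
    exact hπ0 h
  haveI hdvr : IsDiscreteValuationRing C' :=
    ((IsDiscreteValuationRing.TFAE C' hnf).out 4 0 rfl rfl).1 ⟨⟨π, hm⟩⟩
  exact ⟨hdom, hdvr, (IsDiscreteValuationRing.irreducible_iff_uniformizer π).2 hm⟩

omit [IsDomain R] [IsDiscreteValuationRing R] in
/-- Rescaling `u` absorbs a unit. -/
theorem exists_node_equiv {ε : R} (hε : IsUnit ε) (b : R) :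
    ∃ θ : (MvPolynomial (Fin 2) R ⧸
        Ideal.span {(MvPolynomial.X 0 * MvPolynomial.X 1 - MvPolynomial.C b : MvPolynomial (Fin 2) R)}) ≃+*
      MvPolynomial (Fin 2) R ⧸
        Ideal.span {(MvPolynomial.X 0 * MvPolynomial.X 1 - MvPolynomial.C (ε * b) : MvPolynomial (Fin 2) R)},
      ∀ z, θ (Ideal.Quotient.mk _ (MvPolynomial.C z)) = Ideal.Quotient.mk _ (MvPolynomial.C z) := by
  obtain ⟨εi, hεi⟩ := hε.exists_left_inv
  have hCC : MvPolynomial.C εi * MvPolynomial.C ε = (1 : MvPolynomial (Fin 2) R) := by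
    rw [← map_mul, hεi, map_one]
  let φ : MvPolynomial (Fin 2) R →ₐ[R] MvPolynomial (Fin 2) R :=
    MvPolynomial.aeval ![MvPolynomial.C εi * MvPolynomial.X 0, MvPolynomial.X 1]
  let ψ : MvPolynomial (Fin 2) R →ₐ[R] MvPolynomial (Fin 2) R :=
    MvPolynomial.aeval ![MvPolynomial.C ε * MvPolynomial.X 0, MvPolynomial.X 1]
  let E : MvPolynomial (Fin 2) R ≃ₐ[R] MvPolynomial (Fin 2) R := AlgEquiv.ofAlgHom φ ψ
    (MvPolynomial.algHom_ext fun i => by
      fin_cases i <;> simp [φ, ψ]
      rw [← mul_assoc, ← map_mul, mul_comm ε, hεi, map_one, one_mul])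
    (MvPolynomial.algHom_ext fun i => by
      fin_cases i <;> simp [φ, ψ]
      rw [← mul_assoc, ← map_mul, hεi, map_one, one_mul])
  refine ⟨Ideal.quotientEquiv _ _ E.toRingEquiv ?_, fun z => ?_⟩
  · rw [Ideal.map_span, Set.image_singleton]
    show _ = Ideal.span {φ (MvPolynomial.X 0 * MvPolynomial.X 1 - MvPolynomial.C b)}
    rw [show φ (MvPolynomial.X 0 * MvPolynomial.X 1 - MvPolynomial.C b) =
      (MvPolynomial.X 0 * MvPolynomial.X 1 - MvPolynomial.C (ε * b)) * MvPolynomial.C εi by
        simp [φ, map_mul]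
        linear_combination (MvPolynomial.C b) * hCC,
      Ideal.span_singleton_mul_right_unit (IsUnit.map MvPolynomial.C (IsUnit.of_mul_eq_one _ hεi))]
  · show Ideal.Quotient.mk _ (φ (MvPolynomial.C z)) = _
    simp [φ]

omit [IsDomain R] [IsDiscreteValuationRing R] in
/-- The base change square of `uv = a`. -/
theorem isPullback_node_map {C : Type u} [CommRing C] {C' : Type u} [CommRing C'] (ι : C →+* C') (a : C)
    (m : MvPolynomial (Fin 2) C ⧸ nodeIdeal a →+* MvPolynomial (Fin 2) C' ⧸ nodeIdeal (ι a))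
    (hm : m.comp (Ideal.Quotient.mk _) = (Ideal.Quotient.mk _).comp (MvPolynomial.map ι)) :
    IsPullback (Spec.map (CommRingCat.ofHom m))
      (Spec.map (CommRingCat.ofHom ((Ideal.Quotient.mk (nodeIdeal (ι a))).comp MvPolynomial.C) :
        CommRingCat.of C' ⟶ CommRingCat.of (MvPolynomial (Fin 2) C' ⧸ nodeIdeal (ι a))))
      (Spec.map (CommRingCat.ofHom ((Ideal.Quotient.mk (nodeIdeal a)).comp MvPolynomial.C) :
        CommRingCat.of C ⟶ CommRingCat.of (MvPolynomial (Fin 2) C ⧸ nodeIdeal a)))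
      (Spec.map (CommRingCat.ofHom ι)) := by
  have h1 : m.comp (toNode a) = toNode (ι a) := by
    refine Ideal.Quotient.ringHom_ext (MvPolynomial.ringHom_ext' (ringHom_ulift_ext _ _) fun i => ?_)
    show m (toNode a (Ideal.Quotient.mk _ (MvPolynomial.X i))) = toNode (ι a) (Ideal.Quotient.mk _ (MvPolynomial.X i))
    rw [toNode_X, toNode_X, ← RingHom.comp_apply, hm]
    show Ideal.Quotient.mk _ (MvPolynomial.map ι _) = _
    fin_cases i <;> simp
  have h2 : ι.comp (param a) = param (ι a) :=
    MvPolynomial.ringHom_ext' (ringHom_ulift_ext _ _) fun i => by simp [param]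
  have h3 : m.comp ((Ideal.Quotient.mk (nodeIdeal a)).comp MvPolynomial.C) =
      ((Ideal.Quotient.mk (nodeIdeal (ι a))).comp MvPolynomial.C).comp ι := by
    rw [← RingHom.comp_assoc, hm]
    exact RingHom.ext fun z => congrArg _ (MvPolynomial.map_C ι z)
  have t := isPullback_node a
  refine IsPullback.of_right ?_ ?_ t
  · rw [← Spec.map_comp, ← Spec.map_comp, ← CommRingCat.ofHom_comp, ← CommRingCat.ofHom_comp, h1, h2]
    exact isPullback_node (ι a)
  · rw [← Spec.map_comp, ← Spec.map_comp, ← CommRingCat.ofHom_comp, ← CommRingCat.ofHom_comp, h3]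

end Groth.Agent.NodeLib7
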