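import Groth.Agent.NodeLib7.Quad
import Groth.Agent.EGA41Lib.CohenAlgebra
import Groth.Agent.CommAlg6.CompletionEquidim

/-!
# Complete local rings of nodes
-/

set_option autoImplicit false
set_option linter.style.haveILetI false

universe u

open IsLocalRing

namespace Groth.Agent.NodeLib7

/-- The quotient `κ[[u,v]]/(a u² + b uv + c v²)`. -/
abbrev QQ {R : Type u} [CommRing R] (a b c : R) : Type u := MvPowerSeries (Fin 2) R ⧸ Ideal.span {qf a b c}

theorem isLocalRing_QQ {κ : Type u} [Field κ] (a b c : κ) : IsLocalRing (QQ a b c) := by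
  haveI : Nontrivial (QQ a b c) := Ideal.Quotient.nontrivial_iff.2 fun h =>
    (maximalIdeal.isMaximal _).ne_top (top_le_iff.1 (h ▸ (Ideal.span_singleton_le_iff_mem _).2
      (Ideal.pow_le_self two_ne_zero (qf_mem_sq a b c))))
  exact IsLocalRing.of_surjective' _ Ideal.Quotient.mk_surjective

theorem isAdicFormallySmooth_of_formallySmooth (k K : Type u) [CommRing k] [CommRing K] [Algebra k K]
    [Algebra.FormallySmooth k K] (n : Ideal K) : CAlgX.IsAdicFormallySmooth k K n :=
  fun _ _ _ J hJ ψ _ => ⟨Algebra.FormallySmooth.lift J ⟨2, hJ⟩ ψ, Algebra.FormallySmooth.comp_lift J ⟨2, hJ⟩ ψ⟩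

/-- The hypotheses making a local ring a node: two generators satisfying a nondegenerate quadratic
relation modulo `m³`, independent modulo `m²`, and a regular element in `m`. -/
structure NodeData (A : Type u) [CommRing A] [IsLocalRing A] (x y a b c : A) : Prop where
  span : Ideal.span {x, y} = maximalIdeal A
  disc : residue A (4 * a * c - b ^ 2) ≠ 0
  rel : a * x ^ 2 + b * x * y + c * y ^ 2 ∈ maximalIdeal A ^ 3
  indep : ∀ r s : A, r * x + s * y ∈ maximalIdeal A ^ 2 → r ∈ maximalIdeal A ∧ s ∈ maximalIdeal A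
  reg : ∃ t ∈ maximalIdeal A, ∀ z, t * z = 0 → z = 0

variable {k : Type u} [Field k] {A : Type u} [CommRing A] [IsLocalRing A] [IsNoetherianRing A] [Algebra k A]

theorem exists_completion_equiv [Algebra.FormallySmooth k (ResidueField A)] {x y a b c : A}
    (h : NodeData A x y a b c) :
    ∃ e : AdicCompletion (maximalIdeal A) A ≃+* QQ (residue A a) (residue A b) (residue A c),
      ∀ t : k, e (algebraMap A _ (algebraMap k A t)) =
        Ideal.Quotient.mk _ (MvPowerSeries.C (algebraMap A (ResidueField A) (algebraMap k A t))) := by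
  classical
  let C := AdicCompletion (maximalIdeal A) A
  let ι : A →+* C := algebraMap A C
  have hmC : maximalIdeal C = (maximalIdeal A).map ι := AdicCompletion.maximalIdeal_eq_map
  have hcomap : ∀ j, (maximalIdeal C ^ j).comap ι = maximalIdeal A ^ j :=
    CAlgH.comap_pow_eq_of_flat ι (inferInstance : Module.Flat A C) hmC.symm
  -- the residue field of the completion
  let ρ : ResidueField A →+* ResidueField C := IsLocalRing.ResidueField.map ι
  have hρ : Function.Bijective ρ :=
    AdicCompletion.residueField_map_bijective_of_fg (IsNoetherian.noetherian _)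
  letI : Algebra k C := (ι.comp (algebraMap k A)).toAlgebra
  have hkC : ∀ t, algebraMap k C t = ι (algebraMap k A t) := fun t => rfl
  let u : ResidueField A →ₐ[k] C ⧸ maximalIdeal C :=
    { toRingHom := ρ
      commutes' := fun t => by
        show ρ (residue A (algebraMap k A t)) = _
        rw [IsLocalRing.ResidueField.map_residue]
        rfl }
  obtain ⟨σ, -, hσ⟩ := EGA41Lib.exists_algHom_lift
    (isAdicFormallySmooth_of_formallySmooth k (ResidueField A) (maximalIdeal (ResidueField A)))
    (maximalIdeal C) (maximalIdeal.isMaximal C).ne_top u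
    (by rw [IsLocalRing.maximalIdeal_eq_bot, Ideal.map_bot]; exact bot_le)
  have hσ' : ∀ r : A, σ (residue A r) - ι r ∈ maximalIdeal C := fun r => by
    rw [← Ideal.Quotient.eq]
    refine (AlgHom.congr_fun hσ (residue A r)).trans ?_
    show ρ (residue A r) = _
    rw [IsLocalRing.ResidueField.map_residue]
    rfl
  -- the evaluation map
  let P := MvPowerSeries (Fin 2) (ResidueField A)
  let mP : Ideal P := maximalIdeal P
  have hxm : x ∈ maximalIdeal A := h.span ▸ Ideal.subset_span (by simp)
  have hym : y ∈ maximalIdeal A := h.span ▸ Ideal.subset_span (by simp)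
  obtain ⟨f, hfC, hfX⟩ := CAlgH.exists_mvPowerSeries_eval σ.toRingHom (maximalIdeal C) ![ι x, ι y] (by
    intro i
    fin_cases i
    · exact hmC ▸ Ideal.mem_map_of_mem ι hxm
    · exact hmC ▸ Ideal.mem_map_of_mem ι hym)
  have hfC' : ∀ z, f (MvPowerSeries.C z) = σ z := fun z => RingHom.congr_fun hfC z
  have hf0 : f (MvPowerSeries.X 0) = ι x := hfX 0
  have hf1 : f (MvPowerSeries.X 1) = ι y := hfX 1
  have hmap : mP.map f = maximalIdeal C := by
    show (maximalIdeal P).map f = _
    rw [maximalIdeal_eq_span, Ideal.map_span, Set.image_pair, hf0, hf1, hmC]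
    exact ((congrArg (Ideal.map ι) h.span).symm.trans (by rw [Ideal.map_span, Set.image_pair])).symm
  have hres : ∀ w : C, ∃ p : P, w - f p ∈ maximalIdeal C := by
    intro w
    obtain ⟨r, hr⟩ := hρ.2 (residue C w)
    obtain ⟨r, rfl⟩ := residue_surjective r
    rw [IsLocalRing.ResidueField.map_residue] at hr
    refine ⟨MvPowerSeries.C (residue A r), ?_⟩
    have h1 : ι r - w ∈ maximalIdeal C := Ideal.Quotient.eq.1 hr
    have := neg_mem (add_mem h1 (hσ' r))
    convert this using 1
    rw [hfC']; ring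
  have hsurj : Function.Surjective f := by
    refine CAlgH.surjective_mvPowerSeries_hom f (maximalIdeal C)
      (fun i => hmap ▸ Ideal.mem_map_of_mem f (X_mem i)) fun z => ?_
    obtain ⟨w, rfl⟩ := Ideal.Quotient.mk_surjective z
    obtain ⟨p, hp⟩ := hres w
    refine ⟨MvPowerSeries.constantCoeff p, Ideal.Quotient.eq.2 ?_⟩
    have hsp : Ideal.span (Set.range fun i => f (MvPowerSeries.X i)) = maximalIdeal C := by
      rw [← hmap]
      show _ = (maximalIdeal P).map f
      rw [maximalIdeal_eq_span, Ideal.map_span, Set.image_pair]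
      congr 1
      ext z
      simp [Fin.exists_fin_two, eq_comm]
    rw [hsp]
    show f (MvPowerSeries.C (MvPowerSeries.constantCoeff p)) - w ∈ _
    have h1 : f (p - MvPowerSeries.C (MvPowerSeries.constantCoeff p)) ∈ maximalIdeal C :=
      hmap ▸ Ideal.mem_map_of_mem f (sub_C_mem p)
    have := neg_mem (add_mem hp h1)
    convert this using 1
    rw [map_sub]; ring
  -- the kernel
  have hle : RingHom.ker f ≤ mP ^ 2 := by
    intro p hp
    have hpm : p ∈ mP := by
      by_contra hpm
      have hu : IsUnit (f p) := (IsLocalRing.notMem_maximalIdeal.1 hpm).map f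
      rw [RingHom.mem_ker.1 hp] at hu
      exact not_isUnit_zero hu
    replace hpm : p ∈ maximalIdeal P := hpm
    rw [maximalIdeal_eq_span, Ideal.mem_span_pair] at hpm
    obtain ⟨g₀, g₁, rfl⟩ := hpm
    obtain ⟨r, hr⟩ := residue_surjective (MvPowerSeries.constantCoeff g₀)
    obtain ⟨s, hs⟩ := residue_surjective (MvPowerSeries.constantCoeff g₁)
    have key : ∀ (g : P) (r : A), residue A r = MvPowerSeries.constantCoeff g → f g - ι r ∈ maximalIdeal C := by
      intro g r hr
      have h1 : f (g - MvPowerSeries.C (MvPowerSeries.constantCoeff g)) ∈ maximalIdeal C :=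
        hmap ▸ Ideal.mem_map_of_mem f (sub_C_mem g)
      have := add_mem h1 (hσ' r)
      convert this using 1
      rw [map_sub, hfC', hr]; ring
    have h2 : ι (r * x + s * y) ∈ maximalIdeal C ^ 2 := by
      have h0 : f (g₀ * MvPowerSeries.X 0 + g₁ * MvPowerSeries.X 1) = 0 := hp
      rw [map_add, map_mul, map_mul, hf0, hf1] at h0
      have e : ι (r * x + s * y) = (ι r - f g₀) * ι x + (ι s - f g₁) * ι y := by
        rw [map_add, map_mul, map_mul]
        linear_combination h0
      rw [e, pow_two]
      refine add_mem (Ideal.mul_mem_mul ?_ (hmC ▸ Ideal.mem_map_of_mem ι hxm))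
        (Ideal.mul_mem_mul ?_ (hmC ▸ Ideal.mem_map_of_mem ι hym))
      · have := neg_mem (key g₀ r hr); rwa [neg_sub] at this
      · have := neg_mem (key g₁ s hs); rwa [neg_sub] at this
    obtain ⟨hrm, hsm⟩ := h.indep r s (by rw [← hcomap]; exact h2)
    have hg₀ : g₀ ∈ mP := Et18.mem_maximalIdeal_iff.2 (by rw [← hr, residue_eq_zero_iff]; exact hrm)
    have hg₁ : g₁ ∈ mP := Et18.mem_maximalIdeal_iff.2 (by rw [← hs, residue_eq_zero_iff]; exact hsm)
    rw [pow_two]
    exact add_mem (Ideal.mul_mem_mul hg₀ (X_mem 0)) (Ideal.mul_mem_mul hg₁ (X_mem 1))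
  let q : P := qf (residue A a) (residue A b) (residue A c)
  have hqC : f q ∈ maximalIdeal C ^ 3 := by
    have h3 : ι (a * x ^ 2 + b * x * y + c * y ^ 2) ∈ maximalIdeal C ^ 3 := by
      rw [hmC, ← Ideal.map_pow]; exact Ideal.mem_map_of_mem ι h.rel
    have e : f q = ι (a * x ^ 2 + b * x * y + c * y ^ 2) + ((σ (residue A a) - ι a) * (ι x * ι x) +
        (σ (residue A b) - ι b) * (ι x * ι y) + (σ (residue A c) - ι c) * (ι y * ι y)) := by
      simp only [q, qf, map_add, map_mul, map_pow, hfC', hf0, hf1]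
      ring
    rw [e]
    have hx' : ι x ∈ maximalIdeal C := hmC ▸ Ideal.mem_map_of_mem ι hxm
    have hy' : ι y ∈ maximalIdeal C := hmC ▸ Ideal.mem_map_of_mem ι hym
    refine add_mem h3 ?_
    rw [pow_succ', pow_two]
    exact add_mem (add_mem (Ideal.mul_mem_mul (hσ' a) (Ideal.mul_mem_mul hx' hx'))
      (Ideal.mul_mem_mul (hσ' b) (Ideal.mul_mem_mul hx' hy')))
      (Ideal.mul_mem_mul (hσ' c) (Ideal.mul_mem_mul hy' hy'))
  obtain ⟨g, hg, hgq⟩ : ∃ g ∈ mP ^ 3, f g = f q := by
    rw [← hmap, ← Ideal.map_pow] at hqC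
    exact (Ideal.mem_map_iff_of_surjective f hsurj).1 hqC
  have hdisc : 4 * residue A a * residue A c - residue A b ^ 2 ≠ 0 := by
    simpa [map_sub, map_mul, map_pow, map_ofNat] using h.disc
  have hFq : (q - g) - q ∈ mP ^ 3 := by
    rw [sub_sub_cancel_left]; exact neg_mem hg
  obtain ⟨t, htm, htr⟩ := h.reg
  obtain ⟨τ, hτ⟩ := hsurj (ι t)
  have hτm : τ ∈ mP := by
    by_contra hτm
    exact (IsLocalRing.mem_maximalIdeal _).1 (hmC ▸ Ideal.mem_map_of_mem ι htm)
      (hτ ▸ (IsLocalRing.notMem_maximalIdeal.1 hτm).map f)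
  have hreg : ∀ z : P, τ * z ∈ RingHom.ker f → z ∈ RingHom.ker f := by
    intro z hz
    rw [RingHom.mem_ker, map_mul, hτ] at hz
    have hinj : Function.Injective fun w : C => t • w := by
      have hA : Function.Injective (LinearMap.lsmul A A t) := by
        refine (injective_iff_map_eq_zero _).2 fun w hw => htr w ?_
        simpa using hw
      have h1 := Module.Flat.lTensor_preserves_injective_linearMap (M := C) _ hA
      intro w w' hw
      have h2 : (LinearMap.lsmul A A t).lTensor C (w ⊗ₜ 1) = (LinearMap.lsmul A A t).lTensor C (w' ⊗ₜ 1) := by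
        simp only [LinearMap.lTensor_tmul, LinearMap.lsmul_apply, TensorProduct.tmul_smul]
        rw [TensorProduct.smul_tmul', TensorProduct.smul_tmul']
        exact congrArg (· ⊗ₜ[A] (1 : A)) hw
      simpa using congrArg (TensorProduct.rid A C) (h1 h2)
    refine RingHom.mem_ker.2 (hinj ?_)
    show t • f z = t • 0
    rw [smul_zero, Algebra.smul_def]
    exact hz
  have hker : RingHom.ker f = Ideal.span {q - g} := by
    refine eq_span_singleton (RingHom.mem_ker.2 (by rw [map_sub, hgq, sub_self])) (fun h3 => ?_) hle hτm hreg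
    exact not_qf_mem_cube hdisc (by have := sub_mem h3 hFq; rwa [sub_sub_cancel] at this)
  obtain ⟨e₁⟩ := nonempty_quot_equiv hdisc (F := q - g) hFq
  let e₀ : (P ⧸ Ideal.span {q - g}) ≃+* C :=
    (Ideal.quotEquivOfEq hker.symm).trans (RingHom.quotientKerEquivOfSurjective hsurj)
  refine ⟨e₀.symm.trans e₁.toRingEquiv, fun s => ?_⟩
  have hs : e₀ (Ideal.Quotient.mk _ (MvPowerSeries.C (algebraMap A (ResidueField A) (algebraMap k A s)))) =
      ι (algebraMap k A s) := by
    show f (MvPowerSeries.C (algebraMap A (ResidueField A) (algebraMap k A s))) = _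
    rw [hfC']
    exact σ.commutes s
  show e₁ (e₀.symm (ι (algebraMap k A s))) = _
  rw [← hs, RingEquiv.symm_apply_apply]
  exact e₁.commutes _

end Groth.Agent.NodeLib7
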