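import Groth.Agent.HenselLib.EtaleChart
import Mathlib.RingTheory.Kaehler.TensorProduct
import Mathlib.LinearAlgebra.Determinant

/-!
# Étale coordinates on a smooth algebra of relative dimension two
-/

set_option autoImplicit false
set_option linter.style.haveILetI false

universe u

open KaehlerDifferential TensorProduct

namespace Groth.Agent.NodeLib7

variable (R : Type u) [CommRing R] {B : Type u} [CommRing B] [Algebra R B]

/-- `t` is a pair of étale coordinates of `B` over `R`. -/
def IsFrame (t : Fin 2 → B) : Prop := (MvPolynomial.aeval (R := R) t).toRingHom.Etale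

variable {R}

namespace IsFrame

variable {t : Fin 2 → B} (h : IsFrame R t)

include h in
theorem smooth : Algebra.Smooth R B := by
  algebraize [(MvPolynomial.aeval (R := R) t).toRingHom]
  haveI : Algebra.Etale (MvPolynomial (Fin 2) R) B := h
  haveI : IsScalarTower R (MvPolynomial (Fin 2) R) B :=
    IsScalarTower.of_algebraMap_eq fun r => ((MvPolynomial.aeval (R := R) t).commutes r).symm
  haveI : Algebra.Smooth R (MvPolynomial (Fin 2) R) := ⟨inferInstance, inferInstance⟩
  exact Algebra.Smooth.comp R (MvPolynomial (Fin 2) R) B

include h in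
theorem exists_basis : ∃ e : Module.Basis (Fin 2) B (Ω[B⁄R]), ∀ i, e i = D R B (t i) := by
  algebraize [(MvPolynomial.aeval (R := R) t).toRingHom]
  haveI : Algebra.Etale (MvPolynomial (Fin 2) R) B := h
  haveI : IsScalarTower R (MvPolynomial (Fin 2) R) B :=
    IsScalarTower.of_algebraMap_eq fun r => ((MvPolynomial.aeval (R := R) t).commutes r).symm
  refine ⟨((mvPolynomialBasis R (Fin 2)).baseChange B).map
    (tensorKaehlerEquivOfFormallyEtale R (MvPolynomial (Fin 2) R) B), fun i => ?_⟩
  rw [Module.Basis.map_apply, Module.Basis.baseChange_apply, mvPolynomialBasis_apply,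
    tensorKaehlerEquivOfFormallyEtale_apply, mapBaseChange_tmul, one_smul, map_D]
  exact congrArg (D R B) (MvPolynomial.aeval_X t i)

/-- The partial derivatives of the coordinates. -/
noncomputable def pd (i : Fin 2) : Derivation R B B :=
  (h.exists_basis.choose.coord i).compDer (D R B)

theorem pd_apply (i : Fin 2) (b : B) : h.pd i b = h.exists_basis.choose.repr (D R B b) i := rfl

theorem pd_coord (i j : Fin 2) : h.pd i (t j) = if i = j then 1 else 0 := by
  rw [pd_apply, ← h.exists_basis.choose_spec j, Module.Basis.repr_self, Finsupp.single_apply]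
  simp [eq_comm]

include h in
/-- A derivation is determined by its values on the coordinates. -/
theorem derivation_ext {M : Type u} [AddCommGroup M] [Module B M] [Module R M] [IsScalarTower R B M]
    {d d' : Derivation R B M} (he : ∀ i, d (t i) = d' (t i)) : d = d' := by
  obtain ⟨e, hte⟩ := h.exists_basis
  have : d.liftKaehlerDifferential = d'.liftKaehlerDifferential := e.ext fun i => by
    rw [hte, Derivation.liftKaehlerDifferential_comp_D, Derivation.liftKaehlerDifferential_comp_D, he]
  refine Derivation.ext fun b => ?_
  rw [← Derivation.liftKaehlerDifferential_comp_D d, this, Derivation.liftKaehlerDifferential_comp_D]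

include h in
/-- A jacobian criterion for changing coordinates. -/
theorem change {g : Fin 2 → B} (hg : IsUnit (Matrix.of fun i j => h.pd i (g j)).det) : IsFrame R g := by
  haveI := h.smooth
  let e := h.exists_basis.choose
  have hdet : IsUnit (e.det fun j => D R B (g j)) := by
    rw [Module.Basis.det_apply]
    convert hg using 2
    ext i j
    rfl
  obtain ⟨hli, hsp⟩ := e.is_basis_iff_det.2 hdet
  exact HenselLib.EtaleChart.etale_aeval_of_basis g (Module.Basis.mk hli hsp.ge)
    fun i => Module.Basis.mk_apply _ _ i

include h in
/-- Coordinates pull back along étale maps. -/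
theorem map {B' : Type u} [CommRing B'] [Algebra R B'] [Algebra B B'] [IsScalarTower R B B']
    [Algebra.Etale B B'] : IsFrame R fun i => algebraMap B B' (t i) := by
  have he : (algebraMap B B').Etale := by rw [RingHom.etale_algebraMap]; infer_instance
  have : (MvPolynomial.aeval (R := R) fun i => algebraMap B B' (t i)).toRingHom =
      (algebraMap B B').comp (MvPolynomial.aeval (R := R) t).toRingHom := by
    refine MvPolynomial.ringHom_ext (fun r => ?_) fun i => ?_
    · simp [← IsScalarTower.algebraMap_apply]
    · simp
  unfold IsFrame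
  rw [this]
  exact RingHom.Etale.stableUnderComposition _ _ h he

theorem pd_map {B' : Type u} [CommRing B'] [Algebra R B'] [Algebra B B'] [IsScalarTower R B B']
    {t' : Fin 2 → B'} (h' : IsFrame R t') (ht : ∀ i, t' i = algebraMap B B' (t i)) (i : Fin 2) (b : B) :
    h'.pd i (algebraMap B B' b) = algebraMap B B' (h.pd i b) := by
  have he := h.derivation_ext (d := (h'.pd i).compAlgebraMap B)
    (d' := (Algebra.linearMap B B').compDer (h.pd i)) fun j => by
      show h'.pd i (algebraMap B B' (t j)) = algebraMap B B' (h.pd i (t j))
      rw [← ht, pd_coord, pd_coord]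
      split <;> simp
  exact Derivation.congr_fun he b

end IsFrame

section BaseChange

attribute [local instance] Algebra.TensorProduct.rightAlgebra

/-- Coordinates after extension of scalars. -/
theorem IsFrame.baseChange {t : Fin 2 → B} (h : IsFrame R t) (S : Type u) [CommRing S] [Algebra R S] :
    IsFrame S fun i => (1 : S) ⊗ₜ[R] t i := by
  haveI := h.smooth
  haveI : Algebra.Smooth S (S ⊗[R] B) := inferInstance
  obtain ⟨e, hte⟩ := h.exists_basis
  refine HenselLib.EtaleChart.etale_aeval_of_basis _
    ((e.baseChange (S ⊗[R] B)).map (tensorKaehlerEquiv R S B (S ⊗[R] B))) fun i => ?_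
  rw [Module.Basis.map_apply, Module.Basis.baseChange_apply, hte, tensorKaehlerEquiv_tmul_D, one_smul]
  rfl

/-- The partial derivatives after extension of scalars. -/
theorem IsFrame.pd_baseChange {t : Fin 2 → B} (h : IsFrame R t) {S : Type u} [CommRing S] [Algebra R S]
    (h' : IsFrame S fun i => (1 : S) ⊗ₜ[R] t i) (i : Fin 2) (b : B) :
    h'.pd i ((1 : S) ⊗ₜ[R] b) = (1 : S) ⊗ₜ[R] h.pd i b := by
  have he := h.derivation_ext (d := ((h'.pd i).restrictScalars R).compAlgebraMap B)
    (d' := (Algebra.linearMap B (S ⊗[R] B)).compDer (h.pd i)) fun j => by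
      show h'.pd i ((1 : S) ⊗ₜ[R] t j) = (1 : S) ⊗ₜ[R] h.pd i (t j)
      rw [h'.pd_coord i j, h.pd_coord i j]
      split
      · rfl
      · simp
  exact Derivation.congr_fun he b

end BaseChange

end Groth.Agent.NodeLib7
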