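import Groth.Agent.NodeLib7.Section
import Mathlib.RingTheory.Etale.StandardEtale
import Mathlib.FieldTheory.IsAlgClosed.AlgebraicClosure
import Mathlib.RingTheory.LocalRing.ResidueField.Ideal

/-!
# Étale normal form of a function with a nondegenerate critical point
-/

set_option autoImplicit false
set_option linter.style.haveILetI false

universe u

open TensorProduct

namespace Groth.Agent.NodeLib7

variable {R : Type u} [CommRing R] {B : Type u} [CommRing B] [Algebra R B]

/-- The Hessian of `F` in the coordinates `t`. -/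
noncomputable def IsFrame.hess {t : Fin 2 → B} (h : IsFrame R t) (F : B) : Matrix (Fin 2) (Fin 2) B :=
  Matrix.of fun i j => h.pd i (h.pd j F)

/-- A function whose value and gradient vanish along a section is a quadratic form in the coordinates. -/
theorem exists_quad {t : Fin 2 → B} (h : IsFrame R t) (μ : B →ₐ[R] R)
    (hker : ∀ x, μ x = 0 → x ∈ Ideal.span (Set.range t)) (ht : ∀ i, μ (t i) = 0) {F : B}
    (hF : ∀ i, μ (h.pd i F) = 0) :
    ∃ a b c : B, F - algebraMap R B (μ F) = a * t 0 ^ 2 + b * t 0 * t 1 + c * t 1 ^ 2 ∧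
      μ (4 * a * c - b ^ 2) = μ (h.hess F).det := by
  have hspan : ∀ x, μ x = 0 → ∃ p q, x = p * t 0 + q * t 1 := fun x hx => by
    obtain ⟨p, hp⟩ := (Submodule.mem_span_range_iff_exists_fun B).1 (hker x hx)
    exact ⟨p 0, p 1, by simpa [Fin.sum_univ_two] using hp.symm⟩
  obtain ⟨p, q, hpq⟩ := hspan (F - algebraMap R B (μ F)) (by rw [map_sub, μ.commutes]; exact sub_self _)
  have hF' : ∀ i, h.pd i F = p * (if i = 0 then 1 else 0) + t 0 * h.pd i p +
      (q * (if i = 1 then 1 else 0) + t 1 * h.pd i q) := by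
    intro i
    have := congrArg (h.pd i) hpq
    simp only [map_sub, Derivation.map_algebraMap, sub_zero, map_add, Derivation.leibniz, smul_eq_mul,
      h.pd_coord] at this
    rw [this]
  have hp : μ p = 0 := by
    have := hF 0
    rw [hF'] at this
    simpa [ht] using this
  have hq : μ q = 0 := by
    have := hF 1
    rw [hF'] at this
    simpa [ht] using this
  obtain ⟨a, b₁, rfl⟩ := hspan p hp
  obtain ⟨b₂, c, rfl⟩ := hspan q hq
  refine ⟨a, b₁ + b₂, c, by rw [hpq]; ring, ?_⟩
  have e : ∀ i j, μ (h.pd i (h.pd j F)) = μ (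
      (if i = 0 then 1 else 0) * (a * (if j = 0 then 1 else 0)) + (if i = 1 then 1 else 0) * (b₁ * (if j = 0 then 1 else 0)) +
      (if i = 0 then 1 else 0) * (a * (if j = 0 then 1 else 0) + b₂ * (if j = 1 then 1 else 0)) * 0 +
      ((if i = 0 then 1 else 0) * (b₂ * (if j = 1 then 1 else 0)) + (if i = 1 then 1 else 0) * (c * (if j = 1 then 1 else 0))) +
      ((if i = 0 then 1 else 0) * (a * (if j = 0 then 1 else 0) + b₁ * (if j = 1 then 1 else 0)) +
      (if i = 1 then 1 else 0) * (b₂ * (if j = 0 then 1 else 0) + c * (if j = 1 then 1 else 0)))) := by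
    intro i j
    rw [hF' j]
    simp only [map_add, Derivation.leibniz, smul_eq_mul, h.pd_coord]
    fin_cases i <;> fin_cases j <;> simp [ht] <;> ring
  rw [Matrix.det_fin_two]
  simp only [IsFrame.hess, Matrix.of_apply, map_sub, map_mul, map_pow, map_ofNat, map_add, e]
  simp
  ring

/-- A nondegenerate quadratic form in coordinates splits étale locally. -/
theorem exists_split_coord (Q : Ideal B) [Q.IsPrime] {t : Fin 2 → B} (h : IsFrame R t) (ht : ∀ i, t i ∈ Q)
    {a b c : B} (hd : 4 * a * c - b ^ 2 ∉ Q) :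
    ∃ (B' : Type u) (_ : CommRing B') (_ : Algebra B B') (_ : Algebra R B') (_ : IsScalarTower R B B'),
      Algebra.Etale B B' ∧ ∃ Q' : Ideal B', Q'.IsPrime ∧ Q'.comap (algebraMap B B') = Q ∧
      ∃ U : Fin 2 → B', IsFrame R U ∧
        U 0 * U 1 = algebraMap B B' (a * t 0 ^ 2 + b * t 0 * t 1 + c * t 1 ^ 2) := by
  -- reduce to a unit leading coefficient
  obtain ⟨s, a', b', c', hs, hsQ, ha', hd', heq⟩ : ∃ (s : Fin 2 → B) (a' b' c' : B), IsFrame R s ∧
      (∀ i, s i ∈ Q) ∧ a' ∉ Q ∧ 4 * a' * c' - b' ^ 2 ∉ Q ∧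
      a * t 0 ^ 2 + b * t 0 * t 1 + c * t 1 ^ 2 = a' * s 0 ^ 2 + b' * s 0 * s 1 + c' * s 1 ^ 2 := by
    by_cases ha : a ∈ Q
    · by_cases habc : a + b + c ∈ Q
      · have hc : c ∉ Q := fun hc => hd (by
          have hb : b ∈ Q := by
            convert sub_mem (sub_mem habc ha) hc using 1
            ring
          exact sub_mem (Ideal.mul_mem_left _ _ hc) (Ideal.pow_mem_of_mem _ hb 2 two_pos))
        refine ⟨![t 1, t 0], c, b, a, h.change ?_, ?_, hc, by convert hd using 2; ring,
          by simp; ring⟩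
        · rw [Matrix.det_fin_two]
          simp [h.pd_coord]
        · intro i; fin_cases i <;> simp [ht]
      · refine ⟨![t 0, t 1 - t 0], a + b + c, b + 2 * c, c, h.change ?_, ?_, habc, by convert hd using 2; ring,
          by simp; ring⟩
        · rw [Matrix.det_fin_two]
          simp [h.pd_coord, map_sub]
        · intro i; fin_cases i
          · exact ht 0
          · exact sub_mem (ht 1) (ht 0)
    · exact ⟨t, a, b, c, h, ht, ha, hd, rfl⟩
  rw [heq]
  clear heq hd ht h t a b c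
  -- invert the leading coefficient and the discriminant
  let r : B := a' * (4 * a' * c' - b' ^ 2)
  have hr : r ∉ Q := fun hmem => (Ideal.IsPrime.mem_or_mem ‹_› hmem).elim ha' hd'
  let B₁ := Localization.Away r
  haveI : Algebra.Etale B B₁ := Algebra.Etale.of_isLocalizationAway r
  have hdisj : Disjoint (Submonoid.powers r : Set B) Q :=
    (Ideal.disjoint_powers_iff_notMem_of_isPrime _).2 hr
  let Q₁ : Ideal B₁ := Q.map (algebraMap B B₁)
  haveI hQ₁ : Q₁.IsPrime := IsLocalization.isPrime_of_isPrime_disjoint (.powers r) B₁ Q ‹_› hdisj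
  have hQ₁c : Q₁.comap (algebraMap B B₁) = Q :=
    IsLocalization.under_map_of_isPrime_disjoint (.powers r) B₁ ‹_› hdisj
  obtain ⟨ri, hri⟩ := (IsLocalization.Away.algebraMap_isUnit (S := B₁) r).exists_left_inv
  let φ := algebraMap B B₁
  let β : B₁ := φ b' * (ri * φ (4 * a' * c' - b' ^ 2))
  let γ : B₁ := φ c' * (ri * φ (4 * a' * c' - b' ^ 2))
  have haβ : φ a' * β = φ b' := by
    have : φ a' * φ (4 * a' * c' - b' ^ 2) = φ r := (map_mul φ _ _).symm
    show φ a' * (φ b' * (ri * φ (4 * a' * c' - b' ^ 2))) = φ b'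
    linear_combination φ b' * ri * this + φ b' * hri
  have haγ : φ a' * γ = φ c' := by
    have : φ a' * φ (4 * a' * c' - b' ^ 2) = φ r := (map_mul φ _ _).symm
    show φ a' * (φ c' * (ri * φ (4 * a' * c' - b' ^ 2))) = φ c'
    linear_combination φ c' * ri * this + φ c' * hri
  let f : Polynomial B₁ := Polynomial.X ^ 2 + Polynomial.C β * Polynomial.X + Polynomial.C γ
  let P : StandardEtalePair B₁ :=
    { f := f
      monic_f := by simp only [f]; monicity!
      g := Polynomial.derivative f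
      cond := ⟨1, 0, 1, by simp⟩ }
  -- a geometric point
  let L := AlgebraicClosure Q₁.ResidueField
  obtain ⟨l, hl⟩ := IsAlgClosed.exists_root (f.map (algebraMap B₁ L)) (by
    rw [Polynomial.degree_map_eq_of_leadingCoeff_ne_zero _ (by
      rw [show f.leadingCoeff = 1 from P.monic_f.leadingCoeff, map_one]; exact one_ne_zero)]
    haveI : Nontrivial B₁ := (algebraMap B₁ L).domain_nontrivial
    have : f.degree = 2 := by
      rw [show f = Polynomial.C 1 * Polynomial.X ^ 2 + Polynomial.C β * Polynomial.X + Polynomial.C γ by simp [f]]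
      exact Polynomial.degree_quadratic one_ne_zero
    rw [this]; decide)
  have hl0 : l ^ 2 + algebraMap B₁ L β * l + algebraMap B₁ L γ = 0 := by simpa [f] using hl
  have hne : ∀ x : B, x ∉ Q → algebraMap B₁ L (φ x) ≠ 0 := fun x hx h0 => by
    rw [IsScalarTower.algebraMap_apply B₁ Q₁.ResidueField L, map_eq_zero_iff _ (algebraMap Q₁.ResidueField L).injective,
      Ideal.algebraMap_residueField_eq_zero, ← Ideal.mem_comap, hQ₁c] at h0
    exact hx h0
  have hder : 2 * l + algebraMap B₁ L β ≠ 0 := fun h0 => by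
    refine hne _ hd' ?_
    simp only [map_sub, map_mul, map_pow, map_ofNat]
    rw [← haβ, ← haγ]
    simp only [map_mul]
    linear_combination (4 * algebraMap B₁ L (φ a') ^ 2) * hl0 -
      (algebraMap B₁ L (φ a') ^ 2 * (2 * l + algebraMap B₁ L β)) * h0
  have hmap : P.HasMap l := ⟨by simpa [P, f] using hl0, by
    rw [isUnit_iff_ne_zero]; simpa [P, f, one_add_one_eq_two, map_ofNat] using hder⟩
  let χ : P.Ring →ₐ[B₁] L := P.lift l hmap
  let Q₂ : Ideal P.Ring := RingHom.ker χ.toRingHom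
  haveI hQ₂ : Q₂.IsPrime := RingHom.ker_isPrime _
  have hQ₂c : Q₂.comap (algebraMap B₁ P.Ring) = Q₁ := by
    ext x
    show χ (algebraMap B₁ P.Ring x) = 0 ↔ _
    rw [χ.commutes, IsScalarTower.algebraMap_apply B₁ Q₁.ResidueField L,
      map_eq_zero_iff _ (algebraMap Q₁.ResidueField L).injective, Ideal.algebraMap_residueField_eq_zero]
  letI : Algebra B P.Ring := ((algebraMap B₁ P.Ring).comp φ).toAlgebra
  haveI : IsScalarTower B B₁ P.Ring := IsScalarTower.of_algebraMap_eq fun _ => rfl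
  haveI : Algebra.Etale B P.Ring := Algebra.Etale.comp B B₁ P.Ring
  letI : Algebra R P.Ring := ((algebraMap B P.Ring).comp (algebraMap R B)).toAlgebra
  haveI : IsScalarTower R B P.Ring := IsScalarTower.of_algebraMap_eq fun _ => rfl
  have h₂ : IsFrame R fun i => algebraMap B P.Ring (s i) := hs.map
  let σ : Fin 2 → P.Ring := fun i => algebraMap B P.Ring (s i)
  let α : P.Ring := algebraMap B P.Ring a'
  let β₂ : P.Ring := algebraMap B₁ P.Ring β
  let lam : P.Ring := P.X
  have hlam : lam ^ 2 + β₂ * lam + algebraMap B₁ P.Ring γ = 0 := by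
    simpa [P, f] using P.hasMap_X.1
  let U : Fin 2 → P.Ring := ![α * (σ 0 - lam * σ 1), σ 0 + (β₂ + lam) * σ 1]
  have hUprod : U 0 * U 1 = algebraMap B P.Ring (a' * s 0 ^ 2 + b' * s 0 * s 1 + c' * s 1 ^ 2) := by
    have e1 : algebraMap B P.Ring b' = α * β₂ := by
      show algebraMap B₁ P.Ring (φ b') = _
      rw [← haβ, map_mul]; rfl
    have e2 : algebraMap B P.Ring c' = α * algebraMap B₁ P.Ring γ := by
      show algebraMap B₁ P.Ring (φ c') = _
      rw [← haγ, map_mul]; rfl
    simp only [map_add, map_mul, map_pow, e1, e2]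
    simp only [U, Matrix.cons_val_zero, Matrix.cons_val_one]
    linear_combination (-α * σ 1 ^ 2) * hlam
  -- the jacobian
  let d : P.Ring := (Matrix.of fun i j => h₂.pd i (U j)).det
  have hσQ : ∀ i, χ (σ i) = 0 := fun i => by
    show χ (algebraMap B₁ P.Ring (φ (s i))) = 0
    rw [χ.commutes, IsScalarTower.algebraMap_apply B₁ Q₁.ResidueField L,
      map_eq_zero_iff _ (algebraMap Q₁.ResidueField L).injective, Ideal.algebraMap_residueField_eq_zero,
      ← Ideal.mem_comap, hQ₁c]
    exact hsQ i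
  have hαQ : χ α ≠ 0 := by
    show χ (algebraMap B₁ P.Ring (φ a')) ≠ 0
    rw [χ.commutes]; exact hne a' ha'
  have hdQ : d ∉ Q₂ := by
    show χ d ≠ 0
    have hpd : ∀ i j, h₂.pd i (σ j) = if i = j then 1 else 0 := fun i j => h₂.pd_coord i j
    have e : χ d = χ α * (2 * χ lam + χ β₂) := by
      simp only [d, Matrix.det_fin_two, Matrix.of_apply, U, Matrix.cons_val_zero, Matrix.cons_val_one,
        map_sub, map_add, map_mul, Derivation.leibniz, smul_eq_mul, hpd, hσQ, zero_mul, mul_zero, add_zero]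
      simp
      ring
    rw [e]
    refine mul_ne_zero hαQ ?_
    rw [show χ lam = l from P.lift_X l hmap, show χ β₂ = algebraMap B₁ L β from χ.commutes β]
    exact hder
  let B₃ := Localization.Away d
  haveI : Algebra.Etale P.Ring B₃ := Algebra.Etale.of_isLocalizationAway d
  haveI : Algebra.Etale B B₃ := Algebra.Etale.comp B P.Ring B₃
  have hdisj₂ : Disjoint (Submonoid.powers d : Set P.Ring) Q₂ :=
    (Ideal.disjoint_powers_iff_notMem_of_isPrime _).2 hdQ
  let Q₃ : Ideal B₃ := Q₂.map (algebraMap P.Ring B₃)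
  have hQ₃ : Q₃.IsPrime := IsLocalization.isPrime_of_isPrime_disjoint (.powers d) B₃ Q₂ hQ₂ hdisj₂
  have hQ₃c : Q₃.comap (algebraMap P.Ring B₃) = Q₂ :=
    IsLocalization.under_map_of_isPrime_disjoint (.powers d) B₃ hQ₂ hdisj₂
  have h₃ : IsFrame R fun i => algebraMap P.Ring B₃ (σ i) := h₂.map
  refine ⟨B₃, inferInstance, inferInstance, inferInstance, inferInstance, inferInstance, Q₃, hQ₃, ?_,
    fun i => algebraMap P.Ring B₃ (U i), h₃.change ?_, ?_⟩
  · rw [IsScalarTower.algebraMap_eq B P.Ring B₃, ← Ideal.comap_comap, hQ₃c]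
    show Q₂.comap ((algebraMap B₁ P.Ring).comp φ) = Q
    rw [← Ideal.comap_comap, hQ₂c, hQ₁c]
  · have : (Matrix.of fun i j => h₃.pd i (algebraMap P.Ring B₃ (U j))) =
        (Matrix.of fun i j => h₂.pd i (U j)).map (algebraMap P.Ring B₃) := by
      ext i j
      exact h₂.pd_map h₃ (fun _ => rfl) i (U j)
    rw [this, ← RingHom.mapMatrix_apply, ← RingHom.map_det]
    exact IsLocalization.Away.algebraMap_isUnit d
  · rw [← map_mul, hUprod, ← IsScalarTower.algebraMap_apply]

/-- **Étale normal form.** A function vanishing at a point with vanishing gradient and nondegenerate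
Hessian is `U V + h` in étale coordinates after an étale extension of the base. -/
theorem exists_local_form {t : Fin 2 → B} (ht : IsFrame R t) (F : B) (Q : Ideal B) [Q.IsPrime]
    (hd : ∀ i, ht.pd i F ∈ Q) (hH : (ht.hess F).det ∉ Q) :
    ∃ (C : Type u) (_ : CommRing C) (_ : Algebra R C) (B' : Type u) (_ : CommRing B') (_ : Algebra B B')
      (_ : Algebra C B') (_ : Algebra R B') (_ : IsScalarTower R B B') (_ : IsScalarTower R C B'),
      Algebra.Etale R C ∧ Algebra.Etale B B' ∧ ∃ Q' : Ideal B', Q'.IsPrime ∧ Q'.comap (algebraMap B B') = Q ∧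
      ∃ (U : Fin 2 → B') (c : C), IsFrame C U ∧ algebraMap B B' F = U 0 * U 1 + algebraMap C B' c := by
  classical
  -- the critical scheme
  let H := (ht.hess F).det
  let B₁ := Localization.Away H
  haveI : Algebra.Etale B B₁ := Algebra.Etale.of_isLocalizationAway H
  have hdisj : Disjoint (Submonoid.powers H : Set B) Q :=
    (Ideal.disjoint_powers_iff_notMem_of_isPrime _).2 hH
  let Q₁ : Ideal B₁ := Q.map (algebraMap B B₁)
  haveI hQ₁ : Q₁.IsPrime := IsLocalization.isPrime_of_isPrime_disjoint (.powers H) B₁ Q ‹_› hdisj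
  have hQ₁c : Q₁.comap (algebraMap B B₁) = Q :=
    IsLocalization.under_map_of_isPrime_disjoint (.powers H) B₁ ‹_› hdisj
  have h₁ : IsFrame R fun i => algebraMap B B₁ (t i) := ht.map
  let g : Fin 2 → B₁ := fun j => algebraMap B B₁ (ht.pd j F)
  have hg : IsFrame R g := by
    refine h₁.change ?_
    have : (Matrix.of fun i j => h₁.pd i (g j)) = (ht.hess F).map (algebraMap B B₁) := by
      ext i j
      exact ht.pd_map h₁ (fun _ => rfl) i (ht.pd j F)
    rw [this, ← RingHom.mapMatrix_apply, ← RingHom.map_det]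
    exact IsLocalization.Away.algebraMap_isUnit H
  let I : Ideal B₁ := Ideal.span (Set.range g)
  obtain ⟨C, _, _, π, hπs, hπker, hCet⟩ : ∃ (C : Type u) (_ : CommRing C) (_ : Algebra R C) (π : B₁ →ₐ[R] C),
      Function.Surjective π ∧ RingHom.ker π = I ∧ Algebra.Etale R C :=
    ⟨B₁ ⧸ I, inferInstance, inferInstance, Ideal.Quotient.mkₐ R I, Ideal.Quotient.mk_surjective,
      Ideal.mk_ker, hg.etale_quotient⟩
  haveI := hCet
  have hIQ : I ≤ Q₁ := Ideal.span_le.2 fun _ ⟨j, hj⟩ => hj ▸ Ideal.mem_map_of_mem _ (hd j)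
  let QC : Ideal C := Q₁.map π
  haveI hQC : QC.IsPrime := Ideal.map_isPrime_of_surjective hπs (by rwa [hπker])
  have hQCc : QC.comap π = Q₁ := by
    rw [Ideal.comap_map_of_surjective _ hπs, ← RingHom.ker_eq_comap_bot, hπker, sup_eq_left.2 hIQ]
  -- the base change and its section
  letI : Algebra B₁ (C ⊗[R] B₁) := Algebra.TensorProduct.rightAlgebra
  haveI : IsScalarTower R B₁ (C ⊗[R] B₁) := inferInstance
  haveI : Algebra.Etale B₁ (C ⊗[R] B₁) :=
    Algebra.Etale.of_equiv (A := B₁ ⊗[R] C) (Algebra.TensorProduct.commRight R B₁ C)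
  let B₂ := C ⊗[R] B₁
  letI : Algebra B B₂ := ((algebraMap B₁ B₂).comp (algebraMap B B₁)).toAlgebra
  haveI : IsScalarTower B B₁ B₂ := IsScalarTower.of_algebraMap_eq fun _ => rfl
  haveI : Algebra.Etale B B₂ := Algebra.Etale.comp B B₁ B₂
  haveI : IsScalarTower R B B₂ := IsScalarTower.of_algebraMap_eq fun r => by
    rw [IsScalarTower.algebraMap_apply R B₁ B₂, IsScalarTower.algebraMap_apply R B B₁]
    rfl
  let μ : B₂ →ₐ[C] C := Algebra.TensorProduct.lift (AlgHom.id C C) π fun _ _ => Commute.all _ _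
  have hμ : ∀ z : B₁, μ ((1 : C) ⊗ₜ[R] z) = π z := fun z => by
    show Algebra.TensorProduct.lift _ _ _ _ = _
    rw [Algebra.TensorProduct.lift_tmul, map_one, one_mul]
  let t₁ : Fin 2 → B₁ := fun i => algebraMap B B₁ (t i)
  have h₂ : IsFrame C fun i => (1 : C) ⊗ₜ[R] t₁ i := h₁.baseChange C
  obtain ⟨hs₂, hpd₂⟩ := h₂.exists_translate fun i => π (t₁ i)
  let s : Fin 2 → B₂ := fun i => (1 : C) ⊗ₜ[R] t₁ i - algebraMap C B₂ (π (t₁ i))
  have hμs : ∀ i, μ (s i) = 0 := fun i => by
    simp only [s, map_sub, hμ, μ.commutes]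
    exact sub_self _
  let E := B₂ ⧸ Ideal.span (Set.range s)
  haveI : Algebra.Etale C E := hs₂.etale_quotient
  let μE : E →ₐ[C] C := Ideal.Quotient.liftₐ _ μ fun z hz => by
    have : Ideal.span (Set.range s) ≤ RingHom.ker μ := Ideal.span_le.2 fun _ ⟨i, hi⟩ => hi ▸ hμs i
    exact this hz
  obtain ⟨e, he, heker⟩ := exists_idempotent_of_retraction (C := C) (E := E) μE
  obtain ⟨w, hw⟩ := Ideal.Quotient.mk_surjective (1 - e : E)
  have hμw : μ w = 1 := by
    show μE (Ideal.Quotient.mk _ w) = 1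
    rw [hw, map_sub, map_one, show μE e = 0 from heker.ge (Ideal.mem_span_singleton_self e), sub_zero]
  let B₃ := Localization.Away w
  haveI : Algebra.Etale B₂ B₃ := Algebra.Etale.of_isLocalizationAway w
  haveI : Algebra.Etale B B₃ := Algebra.Etale.comp B B₂ B₃
  let μ₃ : B₃ →ₐ[C] C := IsLocalization.Away.liftAlgHom w (f := μ) (by rw [hμw]; exact isUnit_one)
  have hμ₃ : ∀ z : B₂, μ₃ (algebraMap B₂ B₃ z) = μ z := fun z =>
    IsLocalization.Away.lift_eq (g := μ.toRingHom) w (show IsUnit (μ w) by rw [hμw]; exact isUnit_one) z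
  let s₃ : Fin 2 → B₃ := fun i => algebraMap B₂ B₃ (s i)
  have hs₃ : IsFrame C s₃ := hs₂.map
  have hker : ∀ x, μ₃ x = 0 → x ∈ Ideal.span (Set.range s₃) := by
    intro x hx
    obtain ⟨z, ⟨_, n, rfl⟩, rfl⟩ := IsLocalization.exists_mk'_eq (Submonoid.powers w) x
    have hz : μ z = 0 := by
      have h1 := congrArg μ₃ (IsLocalization.mk'_spec B₃ z (⟨w ^ n, n, rfl⟩ : Submonoid.powers w))
      rw [map_mul, hx, zero_mul, hμ₃] at h1
      exact h1.symm
    have hzE : Ideal.Quotient.mk (Ideal.span (Set.range s)) (z * w) = 0 := by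
      obtain ⟨v, hv⟩ := Ideal.mem_span_singleton'.1 (heker.le (show μE (Ideal.Quotient.mk _ z) = 0 from hz))
      rw [map_mul, ← hv, hw]
      linear_combination (-v) * he.eq
    have hzs : algebraMap B₂ B₃ (z * w) ∈ Ideal.span (Set.range s₃) := by
      have := Ideal.mem_map_of_mem (algebraMap B₂ B₃) (Ideal.Quotient.eq_zero_iff_mem.1 hzE)
      rwa [Ideal.map_span, ← Set.range_comp] at this
    obtain ⟨wi, hwi⟩ := (IsLocalization.Away.algebraMap_isUnit (S := B₃) w).exists_left_inv
    rw [IsLocalization.mk'_eq_mul_mk'_one]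
    refine Ideal.mul_mem_right _ _ ?_
    rw [map_mul] at hzs
    have := Ideal.mul_mem_left _ wi hzs
    rwa [show wi * (algebraMap B₂ B₃ z * algebraMap B₂ B₃ w) = algebraMap B₂ B₃ z by
      linear_combination algebraMap B₂ B₃ z * hwi] at this
  let F₃ : B₃ := algebraMap B B₃ F
  have halg : ∀ z : B, algebraMap B B₃ z = algebraMap B₂ B₃ ((1 : C) ⊗ₜ[R] algebraMap B B₁ z) := fun z => by
    rw [IsScalarTower.algebraMap_apply B B₂ B₃]; rfl
  have hpd₃ : ∀ i (z : B), hs₃.pd i (algebraMap B B₃ z) = algebraMap B B₃ (ht.pd i z) := fun i z => by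
    rw [halg, halg, hs₂.pd_map hs₃ (fun _ => rfl), hpd₂, h₁.pd_baseChange h₂, ht.pd_map h₁ (fun _ => rfl)]
  have hμ₃B : ∀ z : B, μ₃ (algebraMap B B₃ z) = π (algebraMap B B₁ z) := fun z => by
    rw [halg, hμ₃, hμ]
  obtain ⟨a, b, c, habc, hdisc⟩ := exists_quad hs₃ μ₃ hker (fun i => by rw [hμ₃]; exact hμs i) (F := F₃)
    fun i => by
      rw [hpd₃, hμ₃B]
      exact RingHom.mem_ker.1 (hπker.symm ▸ Ideal.subset_span ⟨i, rfl⟩ : g i ∈ RingHom.ker π)
  let Q₃ : Ideal B₃ := QC.comap μ₃.toRingHom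
  have hQ₃c : Q₃.comap (algebraMap B B₃) = Q := by
    ext z
    show μ₃ (algebraMap B B₃ z) ∈ QC ↔ _
    rw [hμ₃B, ← Ideal.mem_comap, hQCc, ← Ideal.mem_comap, hQ₁c]
  have hH₃ : 4 * a * c - b ^ 2 ∉ Q₃ := by
    show μ₃ (4 * a * c - b ^ 2) ∉ QC
    rw [hdisc, show hs₃.hess F₃ = (ht.hess F).map (algebraMap B B₃) by
      ext i j
      show hs₃.pd i (hs₃.pd j (algebraMap B B₃ F)) = algebraMap B B₃ (ht.pd i (ht.pd j F))
      rw [hpd₃, hpd₃], ← RingHom.mapMatrix_apply, ← RingHom.map_det, hμ₃B]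
    intro hmem
    rw [← Ideal.mem_comap, hQCc, ← Ideal.mem_comap, hQ₁c] at hmem
    exact hH hmem
  obtain ⟨B', _, _, _, _, het, Q', hQ', hQ'c, U, hU, hUeq⟩ := exists_split_coord (R := C) Q₃ hs₃
    (fun i => by show μ₃ (s₃ i) ∈ QC; rw [hμ₃, hμs]; exact zero_mem _) hH₃
  letI : Algebra B B' := ((algebraMap B₃ B').comp (algebraMap B B₃)).toAlgebra
  haveI : IsScalarTower B B₃ B' := IsScalarTower.of_algebraMap_eq fun _ => rfl
  haveI := het
  haveI : Algebra.Etale B B' := Algebra.Etale.comp B B₃ B'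
  letI : Algebra R B' := ((algebraMap B B').comp (algebraMap R B)).toAlgebra
  haveI : IsScalarTower R B B' := IsScalarTower.of_algebraMap_eq fun _ => rfl
  haveI : IsScalarTower R C B' := IsScalarTower.of_algebraMap_eq fun r => by
    rw [IsScalarTower.algebraMap_apply C B₃ B', ← IsScalarTower.algebraMap_apply R C B₃,
      IsScalarTower.algebraMap_apply R B B₃]
    rfl
  refine ⟨C, inferInstance, inferInstance, B', inferInstance, inferInstance, inferInstance, inferInstance,
    inferInstance, inferInstance, inferInstance, inferInstance, Q', hQ', ?_, U, μ₃ F₃, hU, ?_⟩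
  · rw [IsScalarTower.algebraMap_eq B B₃ B', ← Ideal.comap_comap, hQ'c, hQ₃c]
  · rw [hUeq, IsScalarTower.algebraMap_apply B B₃ B', IsScalarTower.algebraMap_apply C B₃ B', ← map_add, ← habc,
      sub_add_cancel]

end Groth.Agent.NodeLib7
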