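import Groth.Agent.NodeLib7.NodeEquation
import Mathlib.RingTheory.Unramified.LocalStructure
import Mathlib.RingTheory.RingHom.Etale

/-!
# Étale local structure of a nodal family: the affine statement
-/

set_option autoImplicit false
set_option linter.style.haveILetI false

universe u

open IsLocalRing TensorProduct

namespace Groth.Agent.NodeLib7

/-- Rescaling the generators. -/
theorem NodeData.scale {O : Type u} [CommRing O] [IsLocalRing O] {x y a b c : O} (h : NodeData O x y a b c)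
    (ε δ : Oˣ) : NodeData O (x * ε) (y * δ) (a * ((ε⁻¹ : Oˣ) : O) ^ 2) (b * ((ε⁻¹ : Oˣ) : O) * ((δ⁻¹ : Oˣ) : O))
      (c * ((δ⁻¹ : Oˣ) : O) ^ 2) where
  span := by
    rw [← h.span, Ideal.span_insert, Ideal.span_singleton_mul_right_unit ε.isUnit,
      Ideal.span_singleton_mul_right_unit δ.isUnit, ← Ideal.span_insert]
  disc := by
    rw [show 4 * (a * ((ε⁻¹ : Oˣ) : O) ^ 2) * (c * ((δ⁻¹ : Oˣ) : O) ^ 2) - (b * ((ε⁻¹ : Oˣ) : O) * ((δ⁻¹ : Oˣ) : O)) ^ 2 =
      (4 * a * c - b ^ 2) * (((ε⁻¹ : Oˣ) : O) * ((δ⁻¹ : Oˣ) : O)) ^ 2 by ring, map_mul]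
    exact mul_ne_zero h.disc ((((Units.isUnit ε⁻¹).mul (Units.isUnit δ⁻¹)).pow 2).map (residue O)).ne_zero
  rel := by
    convert h.rel using 1
    have e : ((ε⁻¹ : Oˣ) : O) * ε = 1 := Units.inv_mul ε
    have d : ((δ⁻¹ : Oˣ) : O) * δ = 1 := Units.inv_mul δ
    linear_combination (a * x ^ 2 * (((ε⁻¹ : Oˣ) : O) * ε + 1) + b * x * y * ((δ⁻¹ : Oˣ) : O) * δ) * e +
      (c * y ^ 2 * (((δ⁻¹ : Oˣ) : O) * δ + 1) + b * x * y) * d
  indep r s hrs := by
    obtain ⟨hr, hs⟩ := h.indep (r * ε) (s * δ) (by convert hrs using 1; ring)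
    exact ⟨(Ideal.IsPrime.mem_or_mem inferInstance hr).resolve_right fun h' => (IsLocalRing.mem_maximalIdeal _).1 h' ε.isUnit,
      (Ideal.IsPrime.mem_or_mem inferInstance hs).resolve_right fun h' => (IsLocalRing.mem_maximalIdeal _).1 h' δ.isUnit⟩
  reg := h.reg

/-- Étale ring maps descend to quotients. -/
theorem etale_quotient_map {P B : Type u} [CommRing P] [CommRing B] {f : P →+* B} (hf : f.Etale) (I : Ideal P) :
    (Ideal.quotientMap (I.map f) f Ideal.le_comap_map).Etale := by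
  algebraize [f]
  haveI : Algebra.Etale P B := hf
  letI : Algebra (P ⧸ I) (B ⧸ I.map f) := (Ideal.quotientMap (I.map f) f Ideal.le_comap_map).toAlgebra
  haveI : IsScalarTower P (P ⧸ I) (B ⧸ I.map f) := IsScalarTower.of_algebraMap_eq fun _ => rfl
  let e₀ := (Algebra.TensorProduct.comm P (P ⧸ I) B).trans
    ((Algebra.TensorProduct.quotIdealMapEquivTensorQuot B I).symm.restrictScalars P)
  let e : (P ⧸ I) ⊗[P] B ≃ₐ[P ⧸ I] B ⧸ I.map f :=
    AlgEquiv.ofRingEquiv (f := e₀.toRingEquiv) fun z => by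
      obtain ⟨z, rfl⟩ := Ideal.Quotient.mk_surjective z
      show e₀ (algebraMap (P ⧸ I) ((P ⧸ I) ⊗[P] B) (algebraMap P (P ⧸ I) z)) = _
      rw [← IsScalarTower.algebraMap_apply, e₀.commutes]
      rfl
  show Algebra.Etale (P ⧸ I) (B ⧸ I.map f)
  exact Algebra.Etale.of_equiv e

variable {R : Type u} [CommRing R] {A : Type u} [CommRing A] [Algebra R A] [Algebra.FinitePresentation R A]
  [Module.Flat R A]

/-- **Étale local structure of a nodal family.** Near a node of its fibre a flat finitely presented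
algebra is, étale locally on source and base, `C[u,v]/(uv - a)`. -/
theorem exists_local_model (x : Ideal A) [x.IsPrime]
    (hsep : letI := (Ideal.ResidueField.map (x.under R) x (algebraMap R A) rfl).toAlgebra
      Algebra.IsSeparable (x.under R).ResidueField x.ResidueField)
    {O : Type u} [CommRing O] [IsLocalRing O] (χ : Localization.AtPrime x →+* O) (hχ : Function.Surjective χ)
    (hχk : RingHom.ker χ = (x.under R).map (algebraMap R (Localization.AtPrime x)))
    (hnode : ∃ X Y a b c : O, NodeData O X Y a b c) :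
    ∃ (C : Type u) (_ : CommRing C) (_ : Algebra R C) (a : C) (E : Type u) (_ : CommRing E) (ι : A →+* E)
      (g : (MvPolynomial (Fin 2) C ⧸
        Ideal.span {(MvPolynomial.X 0 * MvPolynomial.X 1 - MvPolynomial.C a : MvPolynomial (Fin 2) C)}) →+* E)
      (q : Ideal E),
      Algebra.Etale R C ∧ ι.Etale ∧ g.Etale ∧ q.IsPrime ∧ q.comap ι = x ∧
      ι.comp (algebraMap R A) = g.comp ((Ideal.Quotient.mk _).comp (MvPolynomial.C.comp (algebraMap R C))) := by
  classical
  obtain ⟨X₀, Y₀, a₀, b₀, c₀, hd₀⟩ := hnode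
  let p : Ideal R := x.under R
  let M := Localization.AtPrime x
  haveI : IsLocalHom χ := hχ.isLocalHom χ
  -- coordinates
  obtain ⟨X₁, rfl⟩ := hχ X₀
  obtain ⟨Y₁, rfl⟩ := hχ Y₀
  obtain ⟨⟨u₀, su⟩, hu₀⟩ := IsLocalization.surj x.primeCompl X₁
  obtain ⟨⟨v₀, sv⟩, hv₀⟩ := IsLocalization.surj x.primeCompl Y₁
  let εu : Oˣ := ((IsLocalization.map_units M su).map χ).unit
  let εv : Oˣ := ((IsLocalization.map_units M sv).map χ).unit
  have hd := hd₀.scale εu εv
  have hχu : χ (algebraMap A M u₀) = χ X₁ * εu := by rw [← hu₀, map_mul]; rfl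
  have hχv : χ (algebraMap A M v₀) = χ Y₁ * εv := by rw [← hv₀, map_mul]; rfl
  rw [← hχu, ← hχv] at hd
  have hcomap : (maximalIdeal O).comap χ = maximalIdeal M := ((local_hom_TFAE χ).out 0 4).1 ‹_›
  have hxmem : ∀ z : A, z ∈ x ↔ χ (algebraMap A M z) ∈ maximalIdeal O := fun z => by
    rw [← Ideal.mem_comap (f := χ), hcomap, ← Ideal.mem_comap]
    exact (SetLike.ext_iff.1 (Localization.AtPrime.under_maximalIdeal (I := x)) z).symm
  have hu : u₀ ∈ x := (hxmem _).2 (hd.span ▸ Ideal.subset_span (by simp))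
  have hv : v₀ ∈ x := (hxmem _).2 (hd.span ▸ Ideal.subset_span (by simp))
  -- the map from the plane
  let S := MvPolynomial (Fin 2) R
  letI : Algebra S A := (MvPolynomial.aeval (R := R) ![u₀, v₀]).toRingHom.toAlgebra
  haveI : IsScalarTower R S A :=
    IsScalarTower.of_algebraMap_eq fun r => ((MvPolynomial.aeval (R := R) ![u₀, v₀]).commutes r).symm
  haveI : Algebra.FiniteType S A := Algebra.FiniteType.of_restrictScalars_finiteType R S A
  let p' : Ideal S := x.under S
  haveI : p'.LiesOver p := ⟨by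
    show x.comap (algebraMap R A) = (x.comap (algebraMap S A)).comap (algebraMap R S)
    rw [Ideal.comap_comap, ← IsScalarTower.algebraMap_eq]⟩
  haveI : Algebra.IsUnramifiedAt S x := by
    letI : Algebra (Localization.AtPrime p') (Localization.AtPrime x) :=
      (Localization.localRingHom p' x (algebraMap S A) rfl).toAlgebra
    haveI : Localization.AtPrime.IsLiesOverAlgebra p' x := ⟨rfl⟩
    refine (Algebra.isUnramifiedAt_iff_map_eq S p' x).2 ⟨?_, ?_⟩
    · letI : Algebra p.ResidueField x.ResidueField :=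
        (Ideal.ResidueField.map p x (algebraMap R A) rfl).toAlgebra
      haveI : Algebra.IsSeparable p.ResidueField x.ResidueField := hsep
      letI : Algebra p.ResidueField p'.ResidueField :=
        (Ideal.ResidueField.map p p' (algebraMap R S) (Ideal.over_def p' p)).toAlgebra
      haveI : IsScalarTower p.ResidueField p'.ResidueField x.ResidueField :=
        IsScalarTower.of_algebraMap_eq' (Ideal.ResidueField.ringHom_ext (RingHom.ext fun r => by
          show Ideal.ResidueField.map p x (algebraMap R A) rfl (algebraMap R _ r) =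
            Ideal.ResidueField.map p' x (algebraMap S A) rfl
              (Ideal.ResidueField.map p p' (algebraMap R S) _ (algebraMap R _ r))
          rw [Ideal.ResidueField.map_algebraMap, Ideal.ResidueField.map_algebraMap,
            Ideal.ResidueField.map_algebraMap, ← IsScalarTower.algebraMap_apply R S A]))
      exact Algebra.isSeparable_tower_top_of_isSeparable p.ResidueField p'.ResidueField x.ResidueField
    refine le_antisymm ?_ ?_
    · rw [IsScalarTower.algebraMap_eq S A M, ← Ideal.map_map, ← Localization.AtPrime.map_eq_maximalIdeal]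
      exact Ideal.map_mono (Ideal.map_le_iff_le_comap.2 le_rfl)
    intro z hz
    have hzO : χ z ∈ maximalIdeal O := map_nonunit χ z hz
    rw [← hd.span, Ideal.mem_span_pair] at hzO
    obtain ⟨r, r', hr⟩ := hzO
    obtain ⟨r, rfl⟩ := hχ r
    obtain ⟨r', rfl⟩ := hχ r'
    have h1 : z - (r * algebraMap A M u₀ + r' * algebraMap A M v₀) ∈ p.map (algebraMap R M) := by
      rw [← hχk, RingHom.mem_ker, map_sub, map_add, map_mul, map_mul, hr, sub_self]
    have hX : ∀ i, (MvPolynomial.X i : S) ∈ p' := fun i => by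
      show MvPolynomial.aeval ![u₀, v₀] (MvPolynomial.X i) ∈ x
      fin_cases i <;> simp [hu, hv]
    have hXM : ∀ i, algebraMap S M (MvPolynomial.X i) = algebraMap A M (![u₀, v₀] i) := fun i => by
      rw [IsScalarTower.algebraMap_apply S A M]
      exact congrArg _ (MvPolynomial.aeval_X _ i)
    have h2 : p.map (algebraMap R M) ≤ p'.map (algebraMap S M) := by
      rw [IsScalarTower.algebraMap_eq R S M, ← Ideal.map_map]
      exact Ideal.map_mono (Ideal.map_le_iff_le_comap.2 (Ideal.over_def p' p).le)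
    rw [← sub_add_cancel z (r * algebraMap A M u₀ + r' * algebraMap A M v₀)]
    refine add_mem (h2 h1) (add_mem (Ideal.mul_mem_left _ _ ?_) (Ideal.mul_mem_left _ _ ?_))
    · rw [show u₀ = ![u₀, v₀] 0 from rfl, ← hXM]; exact Ideal.mem_map_of_mem _ (hX 0)
    · rw [show v₀ = ![u₀, v₀] 1 from rfl, ← hXM]; exact Ideal.mem_map_of_mem _ (hX 1)
  obtain ⟨f, hfx, P, ψ, hψ⟩ := Algebra.IsUnramifiedAt.exists_hasStandardEtaleSurjectionOn (R := S) x
  let Af := Localization.Away f
  let xf : Ideal Af := x.map (algebraMap A Af)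
  have hdisj : Disjoint (Submonoid.powers f : Set A) x :=
    (Ideal.disjoint_powers_iff_notMem_of_isPrime _).2 hfx
  haveI hxf : xf.IsPrime := IsLocalization.isPrime_of_isPrime_disjoint (.powers f) Af x ‹_› hdisj
  have hxfc : xf.comap (algebraMap A Af) = x :=
    IsLocalization.under_map_of_isPrime_disjoint (.powers f) Af ‹_› hdisj
  let B := P.Ring
  letI : Algebra R B := ((algebraMap S B).comp (algebraMap R S)).toAlgebra
  haveI : IsScalarTower R S B := IsScalarTower.of_algebraMap_eq fun _ => rfl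
  let ψR : B →ₐ[R] Af := ψ.restrictScalars R
  haveI : Algebra.FinitePresentation R B := Algebra.FinitePresentation.trans R S B
  haveI : Algebra.FinitePresentation R Af := Algebra.FinitePresentation.trans R A Af
  haveI : Module.Flat R Af := Module.Flat.trans R A Af
  let t : Fin 2 → B := fun i => algebraMap S B (MvPolynomial.X i)
  have ht : IsFrame R t := by
    have : MvPolynomial.aeval (R := R) t = IsScalarTower.toAlgHom R S B :=
      MvPolynomial.algHom_ext fun i => by rw [MvPolynomial.aeval_X]; rfl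
    show (MvPolynomial.aeval (R := R) t).toRingHom.Etale
    rw [this]
    exact RingHom.etale_algebraMap.2 inferInstance
  let K : Ideal B := RingHom.ker ψR.toRingHom
  have hK : K.FG := Algebra.FinitePresentation.ker_fG_of_surjective ψR hψ
  let Q : Ideal B := xf.comap ψR.toRingHom
  have hψt : ∀ i, ψR (t i) = algebraMap A Af (![u₀, v₀] i) := fun i => by
    show ψ (algebraMap S B (MvPolynomial.X i)) = _
    rw [ψ.commutes, IsScalarTower.algebraMap_apply S A Af]
    exact congrArg _ (MvPolynomial.aeval_X _ i)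
  have htQ : ∀ i, t i ∈ Q := fun i => by
    show ψR (t i) ∈ xf
    rw [hψt]
    refine Ideal.mem_map_of_mem _ ?_
    fin_cases i <;> assumption
  have hQp : Q.comap (algebraMap R B) = p := by
    show (xf.comap ψR.toRingHom).comap (algebraMap R B) = x.comap (algebraMap R A)
    rw [Ideal.comap_comap, show ψR.toRingHom.comp (algebraMap R B) = algebraMap R Af from
      RingHom.ext ψR.commutes, IsScalarTower.algebraMap_eq R A Af, ← Ideal.comap_comap, hxfc]
  let pB : Ideal B := p.map (algebraMap R B)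
  have hflat : K ⊓ pB ≤ pB * K := by
    rintro z ⟨hzK, hzp⟩
    obtain ⟨n, c, g, hcg⟩ := Submodule.mem_span_set'.1 hzp
    choose r hrp hr using fun i => (g i).2
    have hsum : ∑ i, algebraMap R Af (r i) * ψR (c i) = 0 := by
      have h1 : ψR z = 0 := hzK
      rw [← hcg, map_sum] at h1
      rw [← h1]
      refine Finset.sum_congr rfl fun i _ => ?_
      rw [smul_eq_mul, map_mul, ← hr i, ψR.commutes, mul_comm]
    obtain ⟨m, N, y, hy, hN⟩ := Module.Flat.isTrivialRelation_of_sum_smul_eq_zero (R := R) (M := Af)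
      (f := r) (x := fun i => ψR (c i)) (by simpa only [Algebra.smul_def] using hsum)
    choose y' hy' using fun j => hψ (y j)
    have e : z = ∑ i, algebraMap R B (r i) * (c i - ∑ j, algebraMap R B (N i j) * y' j) := by
      rw [← hcg]
      simp only [mul_sub, Finset.sum_sub_distrib]
      have h0 : ∑ i, algebraMap R B (r i) * ∑ j, algebraMap R B (N i j) * y' j = 0 := by
        refine (Finset.sum_congr rfl fun i _ => Finset.mul_sum _ _ _).trans ?_
        rw [Finset.sum_comm]
        refine Finset.sum_eq_zero fun j _ => ?_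
        simp only [← mul_assoc, ← map_mul, ← Finset.sum_mul, ← map_sum, hN j, map_zero, zero_mul]
      rw [h0, sub_zero]
      exact Finset.sum_congr rfl fun i _ => by rw [smul_eq_mul, ← hr i, mul_comm]
    rw [e]
    refine Ideal.sum_mem _ fun i _ => Ideal.mul_mem_mul (Ideal.mem_map_of_mem _ (hrp i)) ?_
    show ψR _ = 0
    simp only [map_sub, map_sum, map_mul, AlgHom.commutes]
    rw [sub_eq_zero]
    refine (hy i).trans ?_
    exact Finset.sum_congr rfl fun j _ => by rw [Algebra.smul_def]; exact congrArg _ (hy' j).symm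
  -- the map to the fibre
  let lf : Af →+* M := IsLocalization.Away.lift (g := algebraMap A M) f
    (IsLocalization.map_units M (⟨f, hfx⟩ : x.primeCompl))
  have hlf : ∀ z, lf (algebraMap A Af z) = algebraMap A M z := fun z => IsLocalization.Away.lift_eq f _ z
  have hlfu : ∀ z, z ∉ xf → IsUnit (lf z) := by
    intro z hz
    obtain ⟨⟨z₀, w⟩, hw⟩ := IsLocalization.surj (Submonoid.powers f) z
    have hz₀ : z₀ ∉ x := fun h' => hz <| by
      have h2 : z * algebraMap A Af w ∈ xf := by rw [hw]; exact Ideal.mem_map_of_mem _ h'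
      exact (Ideal.IsPrime.mem_or_mem ‹_› h2).resolve_right fun h3 =>
        Set.disjoint_left.1 hdisj w.2 (hxfc.le h3)
    have h1 := congrArg lf hw
    rw [map_mul, hlf, hlf] at h1
    exact isUnit_of_mul_isUnit_left (h1 ▸ IsLocalization.map_units M (⟨z₀, hz₀⟩ : x.primeCompl))
  let ω : B →+* O := χ.comp (lf.comp ψR.toRingHom)
  have hω : ∀ b, ω b = χ (lf (ψR b)) := fun b => rfl
  have hωQ : ∀ b, b ∈ Q ↔ ω b ∈ maximalIdeal O := by
    intro b
    obtain ⟨⟨z₀, w⟩, hw⟩ := IsLocalization.surj (Submonoid.powers f) (ψR b)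
    have hwu : IsUnit (algebraMap A Af w) := IsLocalization.map_units Af w
    show ψR b ∈ xf ↔ _
    rw [← Ideal.unit_mul_mem_iff_mem _ hwu, mul_comm, hw, ← Ideal.mem_comap, hxfc, hxmem, ← hlf, ← hw,
      map_mul, map_mul, mul_comm, Ideal.unit_mul_mem_iff_mem _ ((hwu.map lf).map χ), hω]
  have hωs : ∀ o : O, ∃ b, ∃ s ∉ Q, ω s * o = ω b := by
    intro o
    obtain ⟨m, rfl⟩ := hχ o
    obtain ⟨⟨z₀, w, hwx⟩, hw⟩ := IsLocalization.surj x.primeCompl m
    obtain ⟨b, hb⟩ := hψ (algebraMap A Af z₀)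
    obtain ⟨s, hs⟩ := hψ (algebraMap A Af w)
    refine ⟨b, s, fun h' => hwx ?_, ?_⟩
    · rw [← hxfc, SetLike.mem_coe, Ideal.mem_comap, ← hs]
      exact h'
    · rw [hω, hω, show ψR b = _ from hb, show ψR s = _ from hs, hlf, hlf, ← map_mul, mul_comm, hw]
  have hker : ∀ z : Af, lf z = 0 → ∃ s : B, s ∉ Q ∧ ψR s * z = 0 := by
    intro z hz
    obtain ⟨⟨z₀, w⟩, hw⟩ := IsLocalization.surj (Submonoid.powers f) z
    have h1 := congrArg lf hw
    rw [map_mul, hz, zero_mul, hlf] at h1
    obtain ⟨⟨s₀, hs₀⟩, hs₀z⟩ := (IsLocalization.map_eq_zero_iff x.primeCompl M z₀).1 h1.symm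
    obtain ⟨s, hs⟩ := hψ (algebraMap A Af (s₀ * w))
    refine ⟨s, fun h' => ?_, ?_⟩
    · have h2 : s₀ * (w : A) ∈ x := by rw [← hxfc, Ideal.mem_comap, ← hs]; exact h'
      exact (Ideal.IsPrime.mem_or_mem ‹_› h2).elim hs₀ (Set.disjoint_left.1 hdisj w.2)
    · rw [show ψR s = _ from hs, map_mul, mul_assoc, mul_comm (algebraMap A Af w), hw, ← map_mul, hs₀z, map_zero]
  have hωk : ∀ b, ω b = 0 ↔ ∃ s ∉ Q, s * b ∈ K ⊔ pB := by
    intro b
    constructor
    · intro hb
      have h1 : lf (ψR b) ∈ (p.map (algebraMap R A)).map (algebraMap A M) := by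
        rw [Ideal.map_map, ← IsScalarTower.algebraMap_eq, ← hχk]
        exact hb
      obtain ⟨⟨⟨z₀, hz₀⟩, ⟨w, hwx⟩⟩, hw⟩ := (IsLocalization.mem_map_algebraMap_iff x.primeCompl M).1 h1
      have h2 : algebraMap A Af z₀ ∈ pB.map ψR.toRingHom := by
        rw [Ideal.map_map, show ψR.toRingHom.comp (algebraMap R B) = algebraMap R Af from RingHom.ext ψR.commutes,
          IsScalarTower.algebraMap_eq R A Af, ← Ideal.map_map]
        exact Ideal.mem_map_of_mem _ hz₀
      obtain ⟨π, hπ, hπe⟩ := (Ideal.mem_map_iff_of_surjective ψR.toRingHom hψ).1 h2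
      obtain ⟨s₁, hs₁⟩ := hψ (algebraMap A Af w)
      have h3 : lf (ψR (s₁ * b - π)) = 0 := by
        rw [map_sub, map_sub, show ψR π = _ from hπe, map_mul, map_mul, show ψR s₁ = _ from hs₁, hlf, hlf,
          mul_comm, sub_eq_zero]
        exact hw
      obtain ⟨s₂, hs₂, hs₂z⟩ := hker _ h3
      refine ⟨s₂ * s₁, fun h' => (Ideal.IsPrime.mem_or_mem (Ideal.IsPrime.comap _) h').elim hs₂ fun h4 => hwx ?_, ?_⟩
      · rw [← hxfc, SetLike.mem_coe, Ideal.mem_comap, ← hs₁]; exact h4
      · rw [show s₂ * s₁ * b = s₂ * (s₁ * b - π) + s₂ * π by ring]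
        refine add_mem (Ideal.mem_sup_left ?_) (Ideal.mem_sup_right (Ideal.mul_mem_left _ _ hπ))
        show ψR _ = 0
        rw [map_mul, hs₂z]
    · rintro ⟨s, hs, hsb⟩
      obtain ⟨κ, hκ, π, hπ, e⟩ := Submodule.mem_sup.1 hsb
      have hπ0 : ω π = 0 := by
        have : pB ≤ RingHom.ker ω := Ideal.map_le_iff_le_comap.2 fun r hr => by
          show ω (algebraMap R B r) = 0
          rw [hω, ψR.commutes, IsScalarTower.algebraMap_apply R A Af, hlf, ← IsScalarTower.algebraMap_apply,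
            ← RingHom.mem_ker, hχk]
          exact Ideal.mem_map_of_mem _ hr
        exact this hπ
      have hκ0 : ω κ = 0 := by rw [hω, show ψR κ = 0 from hκ, map_zero, map_zero]
      have := congrArg ω e
      rw [map_add, hπ0, hκ0, add_zero, map_mul] at this
      exact ((hlfu (ψR s) hs).map χ).mul_right_eq_zero.1 this.symm
  have hωt : ∀ i, ω (t i) = χ (algebraMap A M (![u₀, v₀] i)) := fun i => by rw [hω, hψt, hlf]
  obtain ⟨F, hFK, g, hgQ, hgF, hgrad, hH⟩ := exists_equation_core ht p Q hQp htQ K hK hflat ω hωs hωk hωQ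
    (a := a₀ * ((εu⁻¹ : Oˣ) : O) ^ 2) (b := b₀ * ((εu⁻¹ : Oˣ) : O) * ((εv⁻¹ : Oˣ) : O))
    (c := c₀ * ((εv⁻¹ : Oˣ) : O) ^ 2) (by rw [hωt, hωt]; exact hd)
  -- the chart
  let B₂ := Localization.Away g
  let φ : B →+* B₂ := algebraMap B B₂
  let I₂ : Ideal B₂ := Ideal.span {φ F}
  let A₂ := Localization.Away (ψR g)
  let Ψ : B₂ →+* A₂ := IsLocalization.Away.map B₂ A₂ ψR.toRingHom g
  have hΨ : ∀ b, Ψ (φ b) = algebraMap Af A₂ (ψR b) := fun b => IsLocalization.map_eq _ b
  have hΨI : I₂ ≤ RingHom.ker Ψ := (Ideal.span_singleton_le_iff_mem _).2 (by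
    rw [RingHom.mem_ker, hΨ, show ψR F = 0 from hFK, map_zero])
  let Ψ' : B₂ ⧸ I₂ →+* A₂ := Ideal.Quotient.lift I₂ Ψ hΨI
  have hΨ' : Function.Bijective Ψ' := by
    refine ⟨(injective_iff_map_eq_zero _).2 fun z hz => ?_, fun z => ?_⟩
    · obtain ⟨z, rfl⟩ := Ideal.Quotient.mk_surjective z
      obtain ⟨⟨b, w⟩, hw⟩ := IsLocalization.surj (Submonoid.powers g) z
      have h1 := congrArg Ψ hw
      rw [map_mul, show Ψ z = 0 from hz, zero_mul, hΨ] at h1
      obtain ⟨⟨_, n, rfl⟩, hn⟩ := (IsLocalization.map_eq_zero_iff (Submonoid.powers (ψR g)) A₂ _).1 h1.symm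
      have hgn : g ^ n * b ∈ K := by
        show ψR (g ^ n * b) = 0
        rw [map_mul, map_pow]; exact hn
      obtain ⟨r, hr⟩ := hgF _ hgn
      rw [Ideal.Quotient.eq_zero_iff_mem, ← Ideal.mul_unit_mem_iff_mem _ (IsLocalization.map_units B₂ w), hw,
        ← Ideal.unit_mul_mem_iff_mem _ ((IsLocalization.Away.algebraMap_isUnit (S := B₂) g).pow (n + 1))]
      show φ g ^ (n + 1) * φ b ∈ I₂
      rw [← map_pow, ← map_mul, pow_succ', mul_assoc, hr, map_mul]
      exact Ideal.mul_mem_left _ _ (Ideal.mem_span_singleton_self _)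
    · obtain ⟨⟨z₀, _, n, rfl⟩, hz⟩ := IsLocalization.surj (Submonoid.powers (ψR g)) z
      obtain ⟨b, hb⟩ := hψ z₀
      refine ⟨Ideal.Quotient.mk _ (IsLocalization.mk' B₂ b (⟨g ^ n, n, rfl⟩ : Submonoid.powers g)), ?_⟩
      show Ψ _ = z
      refine ((IsLocalization.map_units A₂ (⟨ψR g ^ n, n, rfl⟩ : Submonoid.powers (ψR g))).mul_left_inj).1 ?_
      rw [hz, show (algebraMap Af A₂) (ψR g ^ n) = Ψ (φ (g ^ n)) by rw [hΨ, map_pow, map_pow, map_pow], ← map_mul,
        IsLocalization.mk'_spec, hΨ, show ψR b = _ from hb]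
  let e : (B₂ ⧸ I₂) ≃+* A₂ := RingEquiv.ofBijective Ψ' hΨ'
  let ι₁ : A →+* B₂ ⧸ I₂ := e.symm.toRingHom.comp ((algebraMap Af A₂).comp (algebraMap A Af))
  have hι₁ : ι₁.Etale := by
    haveI : Algebra.Etale A Af := Algebra.Etale.of_isLocalizationAway f
    haveI : Algebra.Etale Af A₂ := Algebra.Etale.of_isLocalizationAway (ψR g)
    exact RingHom.Etale.stableUnderComposition _ _ (RingHom.Etale.stableUnderComposition _ _
      (RingHom.etale_algebraMap.2 inferInstance) (RingHom.etale_algebraMap.2 inferInstance))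
      (RingHom.Etale.of_bijective e.symm.bijective)
  have hι₁e : ∀ (z : A) (b : B), ψR b = algebraMap A Af z → ι₁ z = Ideal.Quotient.mk I₂ (φ b) := by
    intro z b hb
    refine e.injective ?_
    rw [show e (ι₁ z) = algebraMap Af A₂ (algebraMap A Af z) from e.apply_symm_apply _, ← hb, ← hΨ]
    rfl
  -- the normal form
  haveI : Algebra.Etale B B₂ := Algebra.Etale.of_isLocalizationAway g
  let Q₂ : Ideal B₂ := Q.map φ
  haveI hQ : Q.IsPrime := Ideal.IsPrime.comap _
  have hdisj₂ : Disjoint (Submonoid.powers g : Set B) Q :=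
    (Ideal.disjoint_powers_iff_notMem_of_isPrime _).2 hgQ
  haveI hQ₂ : Q₂.IsPrime := IsLocalization.isPrime_of_isPrime_disjoint (.powers g) B₂ Q ‹_› hdisj₂
  have hQ₂c : Q₂.comap φ = Q := IsLocalization.under_map_of_isPrime_disjoint (.powers g) B₂ ‹_› hdisj₂
  have h₂ : IsFrame R fun i => φ (t i) := ht.map
  have hp₂ : ∀ i z, h₂.pd i (φ z) = φ (ht.pd i z) := fun i z => ht.pd_map h₂ (fun _ => rfl) i z
  obtain ⟨C, _, _, B', _, _, _, _, _, _, hC, hB', Q', hQ', hQ'c, U, c, hU, hUeq⟩ :=
    exists_local_form h₂ (φ F) Q₂ (fun i => by rw [hp₂]; exact Ideal.mem_map_of_mem _ (hgrad i)) (by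
      rw [show h₂.hess (φ F) = (ht.hess F).map φ by
        ext i j
        show h₂.pd i (h₂.pd j (φ F)) = φ (ht.pd i (ht.pd j F))
        rw [hp₂, hp₂], ← RingHom.mapMatrix_apply, ← RingHom.map_det]
      intro hmem
      exact hH (by rw [← hQ₂c]; exact hmem))
  let J : Ideal B' := I₂.map (algebraMap B₂ B')
  let ι : A →+* B' ⧸ J := (Ideal.quotientMap J (algebraMap B₂ B') Ideal.le_comap_map).comp ι₁
  have hι : ι.Etale := RingHom.Etale.stableUnderComposition _ _ hι₁
    (etale_quotient_map (RingHom.etale_algebraMap.2 hB') I₂)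
  have hJ : J = Ideal.span {algebraMap B₂ B' (φ F)} := by
    show (Ideal.span _).map _ = _
    rw [Ideal.map_span, Set.image_singleton]
  let W : Ideal (MvPolynomial (Fin 2) C) :=
    Ideal.span {(MvPolynomial.X 0 * MvPolynomial.X 1 - MvPolynomial.C (-c) : MvPolynomial (Fin 2) C)}
  let gU : MvPolynomial (Fin 2) C →+* B' := (MvPolynomial.aeval (R := C) U).toRingHom
  have hW : W.map gU = J := by
    rw [hJ, Ideal.map_span, Set.image_singleton, hUeq]
    congr 2
    simp [gU]
  let gW : MvPolynomial (Fin 2) C ⧸ W →+* B' ⧸ J :=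
    (Ideal.quotEquivOfEq hW).toRingHom.comp (Ideal.quotientMap (W.map gU) gU Ideal.le_comap_map)
  have hgW : gW.Etale := RingHom.Etale.stableUnderComposition _ _ (etale_quotient_map hU W)
    (RingHom.Etale.of_bijective (Ideal.quotEquivOfEq hW).bijective)
  have hJQ : J ≤ Q' := by
    rw [hJ, Ideal.span_singleton_le_iff_mem, ← Ideal.mem_comap, hQ'c]
    exact Ideal.mem_map_of_mem _ (show F ∈ xf.comap ψR.toRingHom by
      show ψR F ∈ xf
      rw [show ψR F = 0 from hFK]; exact zero_mem _)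
  refine ⟨C, inferInstance, inferInstance, -c, B' ⧸ J, inferInstance, ι, gW, Q'.map (Ideal.Quotient.mk J), hC, hι,
    hgW, Ideal.map_isPrime_of_surjective Ideal.Quotient.mk_surjective (by rwa [Ideal.mk_ker]), ?_, ?_⟩
  · ext z
    obtain ⟨b, hb⟩ := hψ (algebraMap A Af z)
    have e1 : ι z = Ideal.Quotient.mk J (algebraMap B₂ B' (φ b)) := by
      show Ideal.quotientMap J (algebraMap B₂ B') Ideal.le_comap_map (ι₁ z) = _
      rw [hι₁e z b hb]; rfl
    rw [Ideal.mem_comap, e1, ← Ideal.mem_comap, Ideal.comap_map_of_surjective _ Ideal.Quotient.mk_surjective,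
      ← RingHom.ker_eq_comap_bot, Ideal.mk_ker, sup_eq_left.2 hJQ, ← Ideal.mem_comap, hQ'c, ← Ideal.mem_comap, hQ₂c]
    show ψR b ∈ xf ↔ _
    rw [show ψR b = _ from hb, ← Ideal.mem_comap, hxfc]
  · ext r
    show ι (algebraMap R A r) = Ideal.Quotient.mk J (MvPolynomial.aeval U (MvPolynomial.C (algebraMap R C r)))
    show Ideal.quotientMap J (algebraMap B₂ B') Ideal.le_comap_map (ι₁ (algebraMap R A r)) = _
    rw [hι₁e _ (algebraMap R B r) (by rw [ψR.commutes, IsScalarTower.algebraMap_apply R A Af]),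
      MvPolynomial.aeval_C, ← IsScalarTower.algebraMap_apply R C B']
    show Ideal.Quotient.mk J (algebraMap B₂ B' (φ (algebraMap R B r))) = _
    rw [show φ (algebraMap R B r) = algebraMap R B₂ r from (IsScalarTower.algebraMap_apply R B B₂ r).symm,
      ← IsScalarTower.algebraMap_apply R B₂ B']

end Groth.Agent.NodeLib7
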