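import Groth.Agent.NodeLib7.NodeCompletion
import Groth.Agent.CAlgH.GRingMaximal
import Groth.Agent.NodeLib7.NodeScheme
import Groth.Agent.CommAlg6.CompletionMap
import Groth.Prelude.Def_Curv2
import Mathlib.RingTheory.Henselian

/-!
# The completed local ring of a family at a node
-/

set_option autoImplicit false
set_option linter.style.haveILetI false

universe u

open IsLocalRing MvPowerSeries

open CategoryTheory AlgebraicGeometry in
attribute [local instance] Curv2.stalkAlgebra

namespace Groth.Agent.NodeLib7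

/-- The conclusion: `B̂` is `Â[[u,v]]/(Q - h)` over `A`. -/
def HasNormalForm {A B : Type u} [CommRing A] [IsLocalRing A] [IsNoetherianRing A] [CommRing B] [IsLocalRing B] (φ : A →+* B)
    (P : Curv2.cpl A → Curv2.cpl A → Curv2.cpl A → Prop) : Prop :=
  ∃ a b c : Curv2.cpl A, IsUnit (b ^ 2 - 4 * a * c) ∧ P a b c ∧
    ∃ h ∈ maximalIdeal (Curv2.cpl A),
      ∃ e : Curv2.cpl B ≃+* (MvPowerSeries (Fin 2) (Curv2.cpl A) ⧸ Ideal.span {qf a b c - MvPowerSeries.C h}),
        ∀ r : A, e (algebraMap B (Curv2.cpl B) (φ r)) =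
          Ideal.Quotient.mk _ (MvPowerSeries.C (algebraMap A (Curv2.cpl A) r))

/-- A flat local homomorphism whose closed fibre has completion a nondegenerate quadratic singularity. -/
theorem hasNormalForm_of_fibre {A B : Type u} [CommRing A] [IsLocalRing A] [IsNoetherianRing A] [CommRing B]
    [IsLocalRing B] [IsNoetherianRing B] (φ : A →+* B) [IsLocalHom φ] (hfl : φ.Flat)
    {F κ : Type u} [CommRing F] [IsLocalRing F] [Field κ] (χ : B →+* F) (hχ : Function.Surjective χ)
    (hkerχ : RingHom.ker χ = (maximalIdeal A).map φ) (π₀ : A →+* κ) (hπ₀ : Function.Surjective π₀)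
    (cst : κ →+* F) (hcst : ∀ a, χ (φ a) = cst (π₀ a)) (a₀ b₀ c₀ : κ) (hdisc : b₀ ^ 2 - 4 * a₀ * c₀ ≠ 0)
    (e : Curv2.cpl F ≃+* QQ a₀ b₀ c₀)
    (he : ∀ r, e (algebraMap F (Curv2.cpl F) (cst r)) = Ideal.Quotient.mk _ (MvPowerSeries.C r)) :
    HasNormalForm φ fun a _ c => (a₀ = 0 → a ∈ maximalIdeal (Curv2.cpl A)) ∧
      (c₀ = 0 → c ∈ maximalIdeal (Curv2.cpl A)) := by
  letI := φ.toAlgebra
  haveI : IsLocalHom (algebraMap A B) := ‹IsLocalHom φ›
  haveI : Module.Flat A B := hfl
  haveI : IsNoetherianRing F := isNoetherianRing_of_surjective B F χ hχ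
  haveI : IsLocalHom χ := IsLocalHom.of_surjective χ hχ
  obtain ⟨_, hT, _⟩ := CommAlg6.exists_algebra_completion A B
  haveI : IsNoetherianRing (Curv2.cpl A) := Matlis6.isNoetherianRing_adicCompletion _
  haveI : IsNoetherianRing (Curv2.cpl B) := Matlis6.isNoetherianRing_adicCompletion _
  haveI : IsLocalHom (algebraMap (EGA4.Cpl A) (EGA4.Cpl B)) :=
    ((local_hom_TFAE _).out 0 2 rfl rfl).2 (by
      rw [AdicCompletion.maximalIdeal_eq_map, Ideal.map_map, ← IsScalarTower.algebraMap_eq,
        IsScalarTower.algebraMap_eq A B (EGA4.Cpl B), ← Ideal.map_map, AdicCompletion.maximalIdeal_eq_map]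
      exact Ideal.map_mono (IsLocalRing.map_maximalIdeal_le (algebraMap A B)))
  obtain ⟨θ₁, hθ₁, hkθ₁, hθ₁'⟩ := exists_completion_surjection χ hχ
  have hkπ₀ : RingHom.ker π₀ = maximalIdeal A :=
    IsLocalRing.eq_maximalIdeal (RingHom.ker_isMaximal_of_surjective π₀ hπ₀)
  let π : Curv2.cpl A →+* κ := (Ideal.Quotient.lift (maximalIdeal A) π₀ fun z hz => by
    rwa [← hkπ₀, RingHom.mem_ker] at hz).comp (AdicCompletion.evalOneₐ (maximalIdeal A)).toRingHom
  have hπι : ∀ a, π (algebraMap A _ a) = π₀ a := fun a => by simp [π]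
  have hπ : Function.Surjective π := fun z => by
    obtain ⟨a, rfl⟩ := hπ₀ z
    exact ⟨_, hπι a⟩
  have hmA : maximalIdeal (Curv2.cpl A) = (maximalIdeal A).map (algebraMap A (Curv2.cpl A)) :=
    AdicCompletion.maximalIdeal_eq_map
  have hker : RingHom.ker (e.toRingHom.comp θ₁) =
      (maximalIdeal (Curv2.cpl A)).map (algebraMap (Curv2.cpl A) (Curv2.cpl B)) := by
    rw [hmA, Ideal.map_map, show (algebraMap (Curv2.cpl A) (Curv2.cpl B)).comp (algebraMap A (Curv2.cpl A)) =
      (algebraMap B (Curv2.cpl B)).comp φ from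
      (IsScalarTower.algebraMap_eq A (EGA4.Cpl A) (EGA4.Cpl B)).symm.trans (IsScalarTower.algebraMap_eq A B (EGA4.Cpl B)),
      ← Ideal.map_map, ← hkerχ, ← hkθ₁]
    exact RingHom.ker_comp_of_injective _ e.injective
  have hθR : ∀ r, (e.toRingHom.comp θ₁) (algebraMap (Curv2.cpl A) (Curv2.cpl B) r) =
      Ideal.Quotient.mk _ (MvPowerSeries.C (π r)) := by
    intro r
    obtain ⟨a, ha⟩ := CAlgH.exists_sub_algebraMap_mem A r
    have hπr : π r = π₀ a := by
      rw [← hπι, ← sub_eq_zero, ← map_sub, ← RingHom.mem_ker,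
        IsLocalRing.eq_maximalIdeal (RingHom.ker_isMaximal_of_surjective π hπ)]
      exact ha
    have h0 : (e.toRingHom.comp θ₁) (algebraMap (Curv2.cpl A) (Curv2.cpl B) (r - algebraMap A _ a)) = 0 :=
      RingHom.mem_ker.1 (hker ▸ Ideal.mem_map_of_mem _ ha)
    rw [map_sub, map_sub, sub_eq_zero] at h0
    rw [h0, hπr, ← he, ← hcst, ← hθ₁', ← IsScalarTower.algebraMap_apply A (EGA4.Cpl A) (EGA4.Cpl B),
      IsScalarTower.algebraMap_apply A B (EGA4.Cpl B)]
    rfl
  obtain ⟨a, b, c, h, hu, hh, ha, -, hc, E, hE⟩ := exists_normal_form π hπ a₀ b₀ c₀ hdisc (e.toRingHom.comp θ₁)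
    (e.surjective.comp hθ₁) hker hθR
  have hkπ : RingHom.ker π = maximalIdeal (Curv2.cpl A) :=
    IsLocalRing.eq_maximalIdeal (RingHom.ker_isMaximal_of_surjective π hπ)
  refine ⟨a, b, c, hu, ⟨fun h0 => ?_, fun h0 => ?_⟩, h, hh, E, fun r => ?_⟩
  · rw [← hkπ, RingHom.mem_ker, ha, h0]
  · rw [← hkπ, RingHom.mem_ker, hc, h0]
  · rw [← hE, ← IsScalarTower.algebraMap_apply A (EGA4.Cpl A) (EGA4.Cpl B),
      IsScalarTower.algebraMap_apply A B (EGA4.Cpl B)]
    rfl

/-- A quadratic form split modulo the maximal ideal splits over a complete local ring. -/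
theorem exists_split_normal {R : Type u} [CommRing R] [IsLocalRing R] [IsAdicComplete (maximalIdeal R) R]
    (a b c h : R) (ha : a ∈ maximalIdeal R) (hc : c ∈ maximalIdeal R) (hu : IsUnit (b ^ 2 - 4 * a * c)) :
    Nonempty ((MvPowerSeries (Fin 2) R ⧸ Ideal.span {qf a b c - MvPowerSeries.C h}) ≃ₐ[R]
      (MvPowerSeries (Fin 2) R ⧸ Ideal.span
        {(MvPowerSeries.X 0 * MvPowerSeries.X 1 - MvPowerSeries.C h : MvPowerSeries (Fin 2) R)})) := by
  have hb : IsUnit b := IsLocalRing.notMem_maximalIdeal.1 fun hb =>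
    (IsLocalRing.mem_maximalIdeal _).1 (sub_mem (by rw [pow_two]; exact Ideal.mul_mem_left _ b hb)
      (Ideal.mul_mem_left _ _ hc)) hu
  obtain ⟨w, hw, hwm⟩ := HenselianRing.is_henselian (R := R) (I := maximalIdeal R)
    (Polynomial.X ^ 2 - Polynomial.C b * Polynomial.X + Polynomial.C (a * c)) (by monicity!) 0
    (by simpa using Ideal.mul_mem_left _ a hc)
    (by simpa [Polynomial.derivative_X_pow] using hb.neg.map (Ideal.Quotient.mk (maximalIdeal R)))
  rw [sub_zero] at hwm
  have hr : IsUnit (b - w) := IsLocalRing.notMem_maximalIdeal.1 fun hm =>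
    (IsLocalRing.mem_maximalIdeal _).1 (by simpa using add_mem hm hwm) hb
  obtain ⟨ρ, hρ⟩ := hr.exists_right_inv
  have hroot : w ^ 2 - b * w + a * c = 0 := by simpa [Polynomial.IsRoot] using hw
  set r := b - w with hr'
  have hs : r * (c * ρ) = c := by linear_combination c * hρ
  set s := c * ρ with hs'
  have has : a * s = w := by
    linear_combination (hroot : _) * ρ + (w : R) * hρ
  have hD : IsUnit (r - a * s) := IsLocalRing.notMem_maximalIdeal.1 fun hm =>
    (IsLocalRing.mem_maximalIdeal _).1 (by simpa using add_mem hm (Ideal.mul_mem_right s _ ha)) (hr)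
  obtain ⟨δ, hδ⟩ := hD.exists_right_inv
  let u : Fin 2 → MvPowerSeries (Fin 2) R :=
    ![MvPowerSeries.X 0 + MvPowerSeries.C s * MvPowerSeries.X 1,
      MvPowerSeries.C a * MvPowerSeries.X 0 + MvPowerSeries.C r * MvPowerSeries.X 1]
  let v : Fin 2 → MvPowerSeries (Fin 2) R :=
    ![MvPowerSeries.C (δ * r) * MvPowerSeries.X 0 - MvPowerSeries.C (δ * s) * MvPowerSeries.X 1,
      MvPowerSeries.C δ * MvPowerSeries.X 1 - MvPowerSeries.C (δ * a) * MvPowerSeries.X 0]
  have hu' : HasSubst u := hasSubst_of_constantCoeff_zero fun i => by fin_cases i <;> simp [u]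
  have hv : HasSubst v := hasSubst_of_constantCoeff_zero fun i => by fin_cases i <;> simp [v]
  have L : ∀ (w : Fin 2 → MvPowerSeries (Fin 2) R) (hw : HasSubst w),
      (∀ f g : MvPowerSeries (Fin 2) R, subst w (f + g) = subst w f + subst w g) ∧
      (∀ f g : MvPowerSeries (Fin 2) R, subst w (f - g) = subst w f - subst w g) ∧
      (∀ f g : MvPowerSeries (Fin 2) R, subst w (f * g) = subst w f * subst w g) ∧
      ∀ z : R, subst w (MvPowerSeries.C z : MvPowerSeries (Fin 2) R) = MvPowerSeries.C z := fun w hw =>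
    ⟨fun f g => subst_add hw f g, fun f g => subst_sub hw f g, fun f g => subst_mul hw f g,
      fun z => by rw [subst_C]⟩
  have huv : ∀ i, subst u (v i) = MvPowerSeries.X i := fun i => by
    obtain ⟨la, ls, lm, lc⟩ := L u hu'
    fin_cases i <;>
      simp [v, la, ls, lm, lc, subst_X hu', -map_mul] <;> simp [u]
    · have h1 := congrArg (MvPowerSeries.C (σ := Fin 2)) hδ
      simp only [map_mul, map_sub, map_one] at h1
      linear_combination MvPowerSeries.X 0 * h1
    · have h1 := congrArg (MvPowerSeries.C (σ := Fin 2)) hδ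
      simp only [map_mul, map_sub, map_one] at h1
      linear_combination MvPowerSeries.X 1 * h1
  have hvu : ∀ i, subst v (u i) = MvPowerSeries.X i := fun i => by
    obtain ⟨la, ls, lm, lc⟩ := L v hv
    fin_cases i <;>
      simp [u, la, lm, lc, subst_X hv, -map_mul] <;> simp [v]
    · have h1 := congrArg (MvPowerSeries.C (σ := Fin 2)) hδ
      simp only [map_mul, map_sub, map_one] at h1
      linear_combination MvPowerSeries.X 0 * h1
    · have h1 := congrArg (MvPowerSeries.C (σ := Fin 2)) hδ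
      simp only [map_mul, map_sub, map_one] at h1
      linear_combination MvPowerSeries.X 1 * h1
  have hbij : Function.Bijective (subst u : MvPowerSeries (Fin 2) R → MvPowerSeries (Fin 2) R) := by
    refine Function.bijective_iff_has_inverse.2 ⟨subst v, fun f => ?_, fun f => ?_⟩
    · rw [subst_comp_subst_apply hu' hv, funext hvu, subst_self]; rfl
    · rw [subst_comp_subst_apply hv hu', funext huv, subst_self]; rfl
  have hq : subst u (MvPowerSeries.X 0 * MvPowerSeries.X 1 - MvPowerSeries.C h) = qf a b c - MvPowerSeries.C h := by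
    obtain ⟨la, ls, lm, lc⟩ := L u hu'
    simp [ls, lm, lc, subst_X hu', qf]
    simp [u]
    have e1 : MvPowerSeries.C (σ := Fin 2) r + MvPowerSeries.C a * MvPowerSeries.C s = MvPowerSeries.C b := by
      rw [← map_mul, ← map_add, has, hr', sub_add_cancel]
    have e2 : MvPowerSeries.C (σ := Fin 2) r * MvPowerSeries.C s = MvPowerSeries.C c := by
      rw [← map_mul, hs]
    linear_combination (MvPowerSeries.X 0 * MvPowerSeries.X 1) * e1 + MvPowerSeries.X 1 ^ 2 * e2
  exact ⟨(Et18.nonempty_quot_algEquiv hu' hbij hq).some.symm⟩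

open CategoryTheory AlgebraicGeometry in
set_option backward.isDefEq.respectTransparency false in
/-- The completed local ring at a node of a fibre. -/
theorem hasNormalForm_stalk {T S : Scheme.{u}} (f : T ⟶ S) [LocallyOfFiniteType f] (t : T)
    [IsNoetherianRing (S.presheaf.stalk (f t))] (hfl : (f.stalkMap t).hom.Flat)
    (a₀ b₀ c₀ : S.residueField (f t)) (hdisc : b₀ ^ 2 - 4 * a₀ * c₀ ≠ 0)
    (e : Curv2.cpl ((f.fiber (f t)).presheaf.stalk (f.asFiber t)) ≃+* QQ a₀ b₀ c₀)
    (he : letI : (f.fiber (f t)).Over (Spec (CommRingCat.of (S.residueField (f t)))) := ⟨f.fiberToSpecResidueField (f t)⟩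
      ∀ r : S.residueField (f t), e (algebraMap ((f.fiber (f t)).presheaf.stalk (f.asFiber t)) _
        (algebraMap (S.residueField (f t)) ((f.fiber (f t)).presheaf.stalk (f.asFiber t)) r)) =
          Ideal.Quotient.mk _ (MvPowerSeries.C r)) :
    HasNormalForm (f.stalkMap t).hom fun a _ c => (a₀ = 0 → a ∈ maximalIdeal (Curv2.cpl (S.presheaf.stalk (f t)))) ∧
      (c₀ = 0 → c ∈ maximalIdeal (Curv2.cpl (S.presheaf.stalk (f t)))) := by
  letI : (f.fiber (f t)).Over (Spec (CommRingCat.of (S.residueField (f t)))) := ⟨f.fiberToSpecResidueField (f t)⟩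
  have hz : f.fiberι (f t) (f.asFiber t) = t := f.fiberι_asFiber t
  have hs : f (f.fiberι (f t) (f.asFiber t)) = f t := congrArg f hz
  obtain ⟨hsurj, hker⟩ := Props12.stalkMap_fiberι f (f t) (f.asFiber t)
  have key : ∀ z : T, ∀ hz : z = t, ∀ _ : IsNoetherianRing (S.presheaf.stalk (f z)),
      HasNormalForm (f.stalkMap z).hom (fun a _ c => (a₀ = 0 → a ∈ maximalIdeal (Curv2.cpl (S.presheaf.stalk (f z)))) ∧
        (c₀ = 0 → c ∈ maximalIdeal (Curv2.cpl (S.presheaf.stalk (f z))))) →
      HasNormalForm (f.stalkMap t).hom (fun a _ c => (a₀ = 0 → a ∈ maximalIdeal (Curv2.cpl (S.presheaf.stalk (f t)))) ∧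
        (c₀ = 0 → c ∈ maximalIdeal (Curv2.cpl (S.presheaf.stalk (f t))))) := by
    rintro z rfl _ h
    exact h
  haveI hA : IsNoetherianRing (S.presheaf.stalk (f (f.fiberι (f t) (f.asFiber t)))) := by rw [hs]; infer_instance
  have hflz : (f.stalkMap (f.fiberι (f t) (f.asFiber t))).hom.Flat := by rw [hz]; exact hfl
  haveI : IsNoetherianRing (T.presheaf.stalk (f.fiberι (f t) (f.asFiber t))) := by
    letI := (f.stalkMap (f.fiberι (f t) (f.asFiber t))).hom.toAlgebra
    haveI : Algebra.EssFiniteType (S.presheaf.stalk (f (f.fiberι (f t) (f.asFiber t))))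
        (T.presheaf.stalk (f.fiberι (f t) (f.asFiber t))) := LocallyOfFiniteType.stalkMap f _
    exact Algebra.EssFiniteType.isNoetherianRing (S.presheaf.stalk (f (f.fiberι (f t) (f.asFiber t)))) _
  refine key _ hz hA (hasNormalForm_of_fibre (f.stalkMap _).hom hflz ((f.fiberι (f t)).stalkMap (f.asFiber t)).hom
    hsurj hker (S.residue _ ≫ (S.residueFieldCongr hs).hom).hom ?_
    (algebraMap (S.residueField (f t)) ((f.fiber (f t)).presheaf.stalk (f.asFiber t)))
    (fun a => ?_) a₀ b₀ c₀ hdisc e he)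
  · exact ((S.residueFieldCongr hs).commRingCatIsoToRingEquiv.surjective.comp (residue_surjective))
  · exact ConcreteCategory.congr_hom (fibre_const f (f t) (f.asFiber t) hs) a

end Groth.Agent.NodeLib7
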