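import Groth.Agent.EGA43.HenselCompare.Model
import Groth.Agent.CAlgH3.Factorial
import Groth.Agent.CAlgH.CompleteLocal

/-!
# Binary quadratic forms in a power series ring in two variables over a field
-/

set_option autoImplicit false
set_option linter.style.haveILetI false

universe u

open MvPowerSeries Finsupp

namespace Groth.Agent.NodeLib7

open Et18

variable {κ : Type u} [Field κ]

/-- The series `a u² + b uv + c v²`. -/
noncomputable abbrev qf {R : Type u} [CommRing R] (a b c : R) : MvPowerSeries (Fin 2) R :=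
  MvPowerSeries.C a * MvPowerSeries.X 0 ^ 2 + MvPowerSeries.C b * MvPowerSeries.X 0 * MvPowerSeries.X 1 +
    MvPowerSeries.C c * MvPowerSeries.X 1 ^ 2

theorem qf_eq_qSeries {R : Type u} [CommRing R] (a b c : R) : qf a b c = qSeries ![![a, b], ![b, c]] := by
  simp [qSeries, VanCyc.quadEval, cTab, Fin.sum_univ_two]
  ring

theorem quadNondeg_tab {R : Type u} [CommRing R] {a b c : R} (h : IsUnit (4 * a * c - b ^ 2)) :
    VanCyc.QuadNondeg ![![a, b], ![b, c]] := by
  unfold VanCyc.QuadNondeg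
  rw [Matrix.det_fin_two]
  convert h using 1
  simp [VanCyc.polarMatrix]
  ring

theorem coeff_qf {R : Type u} [CommRing R] (a b c : R) :
    coeff (single 0 1 + single 0 1) (qf a b c) = a ∧ coeff (single 0 1 + single 1 1) (qf a b c) = b ∧
      coeff (single 1 1 + single 1 1) (qf a b c) = c := by
  rw [qf_eq_qSeries]
  refine ⟨?_, ?_, ?_⟩ <;> rw [coeff_qSeries_single_add_single _ (by decide)] <;> rfl

theorem ordGE_qf {R : Type u} [CommRing R] (a b c : R) : OrdGE 2 (qf a b c) := fun d hd => by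
  rw [qf_eq_qSeries]
  exact coeff_qSeries_of_degree_ne _ (by omega)

theorem qf_mem_sq (a b c : κ) :
    qf a b c ∈ IsLocalRing.maximalIdeal (MvPowerSeries (Fin 2) κ) ^ 2 :=
  EGA43.HenselCompare.mem_pow_of_ordGE (ordGE_qf a b c)

theorem X_mem (i : Fin 2) : (X i : MvPowerSeries (Fin 2) κ) ∈ IsLocalRing.maximalIdeal (MvPowerSeries (Fin 2) κ) :=
  mem_maximalIdeal_iff.2 (by simp)

theorem maximalIdeal_eq_span :
    IsLocalRing.maximalIdeal (MvPowerSeries (Fin 2) κ) = Ideal.span {X 0, X 1} := by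
  refine le_antisymm (fun p hp => ?_) (Ideal.span_le.2 fun p hp => ?_)
  · rw [← sum_X_mul_divVar p (mem_maximalIdeal_iff.1 hp), Fin.sum_univ_two]
    exact add_mem (Ideal.mul_mem_right _ _ (Ideal.subset_span (by simp)))
      (Ideal.mul_mem_right _ _ (Ideal.subset_span (by simp)))
  · rcases hp with rfl | rfl <;> exact X_mem _

theorem sub_C_mem (p : MvPowerSeries (Fin 2) κ) :
    p - C (constantCoeff p) ∈ IsLocalRing.maximalIdeal (MvPowerSeries (Fin 2) κ) :=
  mem_maximalIdeal_iff.2 (by simp)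

/-- An element of `m²` is a quadratic form modulo `m³`. -/
theorem exists_qf_of_mem_sq {p : MvPowerSeries (Fin 2) κ}
    (hp : p ∈ IsLocalRing.maximalIdeal (MvPowerSeries (Fin 2) κ) ^ 2) :
    ∃ a b c : κ, p - qf a b c ∈ IsLocalRing.maximalIdeal (MvPowerSeries (Fin 2) κ) ^ 3 := by
  refine ⟨coeff (single 0 1 + single 0 1) p, coeff (single 0 1 + single 1 1) p, coeff (single 1 1 + single 1 1) p,
    EGA43.HenselCompare.mem_pow_of_ordGE fun d hd => ?_⟩
  rw [map_sub, sub_eq_zero]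
  by_cases h2 : degree d = 2
  · obtain ⟨i, j, hij, rfl⟩ := exists_eq_single_add_single h2
    obtain ⟨h0, h1, h3⟩ := coeff_qf (coeff (single 0 1 + single 0 1) p) (coeff (single 0 1 + single 1 1) p)
      (coeff (single 1 1 + single 1 1) p)
    fin_cases i <;> fin_cases j
    · exact h0.symm
    · exact h1.symm
    · exact absurd hij (by decide)
    · exact h3.symm
  · rw [EGA43.HenselCompare.ordGE_of_mem_pow hp d (by omega), ordGE_qf _ _ _ d (by omega)]

theorem qf_mem_cube_iff {a b c : κ} :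
    qf a b c ∈ IsLocalRing.maximalIdeal (MvPowerSeries (Fin 2) κ) ^ 3 ↔ a = 0 ∧ b = 0 ∧ c = 0 := by
  constructor
  · intro h
    have h' := EGA43.HenselCompare.ordGE_of_mem_pow h
    obtain ⟨h0, h1, h3⟩ := coeff_qf a b c
    refine ⟨h0.symm.trans (h' _ ?_), h1.symm.trans (h' _ ?_), h3.symm.trans (h' _ ?_)⟩ <;>
      simp [Finsupp.degree_single]
  · rintro ⟨rfl, rfl, rfl⟩
    simp [qf]

theorem disc_eq_zero (a b c : κ) (ha : a = 0) (hb : b = 0) : 4 * a * c - b ^ 2 = 0 := by simp [ha, hb]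

theorem not_qf_mem_cube {a b c : κ} (h : 4 * a * c - b ^ 2 ≠ 0) :
    qf a b c ∉ IsLocalRing.maximalIdeal (MvPowerSeries (Fin 2) κ) ^ 3 := fun h' =>
  h (disc_eq_zero a b c (qf_mem_cube_iff.1 h').1 (qf_mem_cube_iff.1 h').2.1)

/-- The normal form of a series with nondegenerate quadratic part. -/
theorem nonempty_quot_equiv {a b c : κ} (h : 4 * a * c - b ^ 2 ≠ 0) {F : MvPowerSeries (Fin 2) κ}
    (hF : F - qf a b c ∈ IsLocalRing.maximalIdeal (MvPowerSeries (Fin 2) κ) ^ 3) :
    Nonempty ((MvPowerSeries (Fin 2) κ ⧸ Ideal.span {F}) ≃ₐ[κ]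
      (MvPowerSeries (Fin 2) κ ⧸ Ideal.span {qf a b c})) := by
  obtain ⟨-, -, -, -, e⟩ := exists_subst_eq_qSeries_add ![![a, b], ![b, c]]
    (quadNondeg_tab (isUnit_iff_ne_zero.2 h)) 0 (m := 2) (F := F) le_rfl
    (by rw [map_zero, add_zero, ← qf_eq_qSeries]; exact EGA43.HenselCompare.ordGE_of_mem_pow hF)
  rw [map_zero, add_zero, ← qf_eq_qSeries] at e
  exact e

theorem ringKrullDim_le_two : ringKrullDim (MvPowerSeries (Fin 2) κ) ≤ 2 := by
  refine ((CAlgH.isRegularLocalRing_mvPowerSeries κ 2).2).trans ?_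
  rw [ringKrullDim_eq_zero_of_field, zero_add]
  exact le_rfl

theorem isUFD : UniqueFactorizationMonoid (MvPowerSeries (Fin 2) κ) := by
  haveI : IsDomain (MvPowerSeries (Fin 2) κ) := NoZeroDivisors.to_isDomain _
  haveI : IsRegularLocalRing (MvPowerSeries (Fin 2) κ) := (CAlgH.isRegularLocalRing_mvPowerSeries κ 2).1
  exact CAlgH3.ufm_of_regular _

/-- A prime containing two relatively prime elements, one of them nonzero, is the maximal ideal. -/
theorem eq_maximalIdeal_of_isRelPrime {f g : MvPowerSeries (Fin 2) κ} (hf : f ≠ 0) (hfg : IsRelPrime f g)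
    {P : Ideal (MvPowerSeries (Fin 2) κ)} (hP : P.IsPrime) (hfP : f ∈ P) (hgP : g ∈ P) :
    P = IsLocalRing.maximalIdeal _ := by
  haveI : IsDomain (MvPowerSeries (Fin 2) κ) := NoZeroDivisors.to_isDomain _
  haveI := isUFD (κ := κ)
  by_contra hne
  have hP0 : P ≠ ⊥ := fun h => hf (by rw [h, Ideal.mem_bot] at hfP; exact hfP)
  obtain ⟨p, hpP, hp⟩ := Ideal.IsPrime.exists_mem_prime_of_ne_bot hP hP0
  have hlt : P < IsLocalRing.maximalIdeal _ := lt_of_le_of_ne (IsLocalRing.le_maximalIdeal hP.ne_top) hne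
  have hPp : P = Ideal.span {p} := by
    by_contra hPp
    haveI hsp : (Ideal.span {p}).IsPrime := (Ideal.span_singleton_prime hp.ne_zero).2 hp
    have h1 : Ideal.span {p} < P := lt_of_le_of_ne ((Ideal.span_singleton_le_iff_mem _).2 hpP) (Ne.symm hPp)
    have h0 : (⊥ : Ideal (MvPowerSeries (Fin 2) κ)) < Ideal.span {p} :=
      bot_lt_iff_ne_bot.2 fun h => hp.ne_zero (Ideal.span_singleton_eq_bot.1 h)
    let l : LTSeries (PrimeSpectrum (MvPowerSeries (Fin 2) κ)) :=
      RelSeries.fromListIsChain [⟨⊥, Ideal.isPrime_bot⟩, ⟨Ideal.span {p}, hsp⟩, ⟨P, hP⟩,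
        ⟨IsLocalRing.maximalIdeal _, inferInstance⟩] (by simp) (by
          simp only [List.isChain_cons_cons, List.IsChain.singleton, and_true]
          exact ⟨h0, h1, hlt⟩)
    have h3 := (Order.LTSeries.length_le_krullDim l).trans (ringKrullDim_le_two (κ := κ))
    change ((3 : ℕ) : WithBot ℕ∞) ≤ ((2 : ℕ) : WithBot ℕ∞) at h3
    exact absurd (Nat.cast_le.1 h3) (by omega)
  rw [hPp, Ideal.mem_span_singleton] at hfP hgP
  exact hp.not_unit (hfg hfP hgP)

/-- An ideal inside `m²` containing a series with nondegenerate quadratic part, and such that some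
element of `m` is regular modulo it, is generated by that series. -/
theorem eq_span_singleton {K : Ideal (MvPowerSeries (Fin 2) κ)} {F : MvPowerSeries (Fin 2) κ} (hF : F ∈ K)
    (hF3 : F ∉ IsLocalRing.maximalIdeal (MvPowerSeries (Fin 2) κ) ^ 3)
    (hK : K ≤ IsLocalRing.maximalIdeal (MvPowerSeries (Fin 2) κ) ^ 2)
    {t : MvPowerSeries (Fin 2) κ} (ht : t ∈ IsLocalRing.maximalIdeal (MvPowerSeries (Fin 2) κ))
    (hreg : ∀ z, t * z ∈ K → z ∈ K) : K = Ideal.span {F} := by
  haveI : IsDomain (MvPowerSeries (Fin 2) κ) := NoZeroDivisors.to_isDomain _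
  haveI := isUFD (κ := κ)
  have hF0 : F ≠ 0 := fun h => hF3 (h ▸ zero_mem _)
  refine le_antisymm (fun G hG => ?_) ((Ideal.span_singleton_le_iff_mem _).2 hF)
  obtain ⟨F', G', d, hco, hFd, hGd⟩ := UniqueFactorizationMonoid.exists_reduced_factors F hF0 G
  rw [Ideal.mem_span_singleton]
  by_cases hu : IsUnit F'
  · obtain ⟨F', rfl⟩ := hu
    exact ⟨(F'⁻¹ : (MvPowerSeries (Fin 2) κ)ˣ) * G', by
      rw [← hFd, ← hGd]; rw [mul_assoc, Units.mul_inv_cancel_left]⟩
  exfalso
  have hF'0 : F' ≠ 0 := fun h => hF0 (by rw [← hFd, h, mul_zero])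
  have hrad : t ∈ (Ideal.span {F', G'}).radical := by
    rw [Ideal.radical_eq_sInf]
    refine Ideal.mem_sInf.2 fun {P} ⟨hle, hP⟩ => ?_
    rw [eq_maximalIdeal_of_isRelPrime hF'0 hco hP (hle (Ideal.subset_span (by simp)))
      (hle (Ideal.subset_span (by simp)))]
    exact ht
  obtain ⟨n, hn⟩ := hrad
  have hd : d ∈ K := by
    have h1 : t ^ n * d ∈ K := by
      obtain ⟨r, s, hrs⟩ := Ideal.mem_span_pair.1 hn
      rw [← hrs, add_mul, mul_assoc, mul_assoc, mul_comm F', mul_comm G', hFd, hGd]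
      exact add_mem (Ideal.mul_mem_left _ _ hF) (Ideal.mul_mem_left _ _ hG)
    clear hn
    induction n with
    | zero => simpa using h1
    | succ n ih => exact ih (hreg _ (by rw [← mul_assoc, ← pow_succ']; exact h1))
  refine hF3 ?_
  rw [← hFd, pow_succ]
  exact Ideal.mul_mem_mul (hK hd) ((IsLocalRing.mem_maximalIdeal _).2 hu)

/-- Modulo `(q)` the monomials of degree two satisfy only the relation `q`. -/
theorem exists_smul_of_mem {a b c r s t : κ}
    (h : qf r s t ∈ IsLocalRing.maximalIdeal (MvPowerSeries (Fin 2) κ) ^ 3 ⊔ Ideal.span {qf a b c}) :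
    ∃ l : κ, r = l * a ∧ s = l * b ∧ t = l * c := by
  obtain ⟨u, hu, v, hv, huv⟩ := Submodule.mem_sup.1 h
  obtain ⟨w, rfl⟩ := Ideal.mem_span_singleton'.1 hv
  refine ⟨constantCoeff w, ?_⟩
  have h3 : qf (r - constantCoeff w * a) (s - constantCoeff w * b) (t - constantCoeff w * c) ∈
      IsLocalRing.maximalIdeal (MvPowerSeries (Fin 2) κ) ^ 3 := by
    have e : qf (r - constantCoeff w * a) (s - constantCoeff w * b) (t - constantCoeff w * c) =
        u + (w - C (constantCoeff w)) * qf a b c := by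
      simp only [qf, map_sub, map_mul] at huv ⊢
      linear_combination -huv
    rw [e]
    refine add_mem hu ?_
    rw [pow_succ']
    exact Ideal.mul_mem_mul (sub_C_mem w) (qf_mem_sq a b c)
  obtain ⟨h1, h2, h3⟩ := qf_mem_cube_iff.1 h3
  exact ⟨sub_eq_zero.1 h1, sub_eq_zero.1 h2, sub_eq_zero.1 h3⟩

/-- The linear forms are independent modulo `(q)` and squares. -/
theorem linear_mem_sq {a b c l₀ l₁ : κ}
    (h : C l₀ * X 0 + C l₁ * X 1 ∈
      IsLocalRing.maximalIdeal (MvPowerSeries (Fin 2) κ) ^ 2 ⊔ Ideal.span {qf a b c}) : l₀ = 0 ∧ l₁ = 0 := by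
  rw [sup_eq_left.2 ((Ideal.span_singleton_le_iff_mem _).2 (qf_mem_sq a b c))] at h
  have h' := EGA43.HenselCompare.ordGE_of_mem_pow h
  have h0 := h' (single 0 1) (by simp)
  have h1 := h' (single 1 1) (by simp)
  classical
  simp [coeff_X, Finsupp.single_eq_single_iff] at h0 h1
  exact ⟨h0, h1⟩

end Groth.Agent.NodeLib7
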