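import Groth.Agent.NodeLib7.Geometric
import Groth.Agent.EGA43.DeltaBaseChange.Scheme

/-!
# Nodes of schemes over a field
-/

set_option autoImplicit false
set_option backward.isDefEq.respectTransparency false
set_option linter.style.haveILetI false

universe u

open CategoryTheory CategoryTheory.Limits AlgebraicGeometry IsLocalRing TensorProduct
open Groth.Agent.VarietyLib

attribute [local instance] Curv2.stalkAlgebra Curv2.resAlgebra

namespace Groth.Agent.NodeLib7

/-- A ring isomorphism of local rings extends to the completions. -/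
theorem exists_completion_congr {S L : Type u} [CommRing S] [IsLocalRing S] [IsNoetherianRing S] [CommRing L]
    [IsLocalRing L] [IsNoetherianRing L] (e : S ≃+* L) :
    ∃ E : AdicCompletion (maximalIdeal S) S ≃+* AdicCompletion (maximalIdeal L) L,
      ∀ s, E (algebraMap S _ s) = algebraMap L _ (e s) := by
  let C := AdicCompletion (maximalIdeal L) L
  have hmC : maximalIdeal C = (maximalIdeal L).map (algebraMap L C) := AdicCompletion.maximalIdeal_eq_map
  have he : (maximalIdeal S).map e.toRingHom = maximalIdeal L :=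
    IsLocalRing.map_maximalIdeal_of_surjective _ e.surjective
  refine CAlgH.completion_equiv_of_quotients (maximalIdeal S) (maximalIdeal C)
    ((algebraMap L C).comp e.toRingHom) (fun j => ?_) fun j z => ?_
  · rw [← Ideal.comap_comap, CAlgH.comap_pow_eq_of_flat (algebraMap L C) (inferInstance : Module.Flat L C) hmC.symm,
      ← he, ← Ideal.map_pow, Ideal.comap_map_of_bijective e.toRingHom e.bijective]
  · obtain ⟨r, hr⟩ := CAlgH.exists_sub_mem_pow (algebraMap L C) hmC.symm (fun w => by
      obtain ⟨r, hr⟩ := (AdicCompletion.residueField_map_bijective_of_fg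
        (IsNoetherian.noetherian (maximalIdeal L))).2 (residue C w)
      obtain ⟨r, rfl⟩ := residue_surjective r
      rw [IsLocalRing.ResidueField.map_residue] at hr
      exact ⟨r, by have := neg_mem (Ideal.Quotient.eq.1 hr); rwa [neg_sub] at this⟩) j z
    obtain ⟨s, rfl⟩ := e.surjective r
    exact ⟨s, hr⟩

theorem stalkMap_toGlobal {R K : CommRingCat.{u}} {Y : Scheme.{u}} (s : Y ⟶ Spec (CommRingCat.of K))
    (f : Spec R ⟶ Y) (φ : CommRingCat.of K ⟶ R) (h : f ≫ s = Spec.map φ) (P : Spec R) (c : K) :
    (f.stalkMap P).hom ((Y.presheaf.germ ⊤ (f P) trivial).hom (Coh.toGlobal s c)) =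
      (StructureSheaf.toStalk R P).hom (φ.hom c) := by
  have h1 := Scheme.Hom.germ_stalkMap f ⊤ P trivial
  have h3 : (Scheme.ΓSpecIso (CommRingCat.of K)).inv ≫ s.appTop ≫ Y.presheaf.germ ⊤ (f P) trivial ≫ f.stalkMap P =
      φ ≫ (Scheme.ΓSpecIso R).inv ≫ (Spec R).presheaf.germ ⊤ P trivial := by
    rw [h1, Scheme.ΓSpecIso_inv_naturality_assoc, ← h, Scheme.Hom.comp_appTop, Category.assoc]
    rfl
  exact ConcreteCategory.congr_hom h3 c

section Field

variable (k : Type u) [Field k] (X : Scheme.{u}) [X.Over (Spec (CommRingCat.of k))]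
variable (K : Type u) [Field K] [Algebra k K]

theorem bcLoc_snd (x : X) : bcLoc k X K x ≫ Curv2.bcSnd k X K =
    Spec.map (CommRingCat.ofHom (Algebra.TensorProduct.includeRight : K →ₐ[k] X.presheaf.stalk x ⊗[k] K).toRingHom) := by
  simp only [bcLoc, Curv2.bcSnd, Category.assoc]
  rw [pullbackRightPullbackFstIso_inv_snd_snd, pullback.congrHom_hom, pullback.lift_snd, Category.comp_id,
    pullbackSpecIso_inv_snd]
  rfl

/-- The local ring of the base change as a localization of `O_x ⊗ K`, compatibly with `K`. -/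
theorem exists_localization_compat [LocallyOfFiniteType (X ↘ (Spec (CommRingCat.of k)))] (y : ↥(Curv2.bc k X K)) :
    ∃ (P : Ideal (X.presheaf.stalk ((Curv2.bcFst k X K) y) ⊗[k] K)) (_ : P.IsPrime),
      P.comap (algebraMap (X.presheaf.stalk ((Curv2.bcFst k X K) y))
        (X.presheaf.stalk ((Curv2.bcFst k X K) y) ⊗[k] K)) = maximalIdeal _ ∧
      IsNoetherianRing (Localization.AtPrime P) ∧
      ∃ e : (Curv2.bc k X K).presheaf.stalk y ≃+* Localization.AtPrime P,
        ∀ c : K, e (@Curv2.stalkMap K _ (Curv2.bc k X K) ⟨Curv2.bcSnd k X K⟩ y c) =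
          algebraMap _ (Localization.AtPrime P)
            ((Algebra.TensorProduct.includeRight : K →ₐ[k] X.presheaf.stalk ((Curv2.bcFst k X K) y) ⊗[k] K) c) := by
  obtain ⟨P, hP⟩ := exists_bcLoc_eq k X K ((Curv2.bcFst k X K) y) y specializes_rfl
  generalize hx : (Curv2.bcFst k X K) y = x at P hP
  subst hP
  haveI : Flat (X.fromSpecStalk x) := flat_fromSpecStalk' x
  haveI : Flat (pullback.snd (X.fromSpecStalk x) (Curv2.bcFst k X K)) := inferInstance
  haveI : IsPreimmersion (pullback.snd (X.fromSpecStalk x) (Curv2.bcFst k X K)) :=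
    MorphismProperty.pullback_snd _ _ inferInstance
  haveI : Flat (bcLoc k X K x) := by unfold bcLoc; infer_instance
  haveI : IsPreimmersion (bcLoc k X K x) := by unfold bcLoc; infer_instance
  haveI hiso := isIso_stalkMap_of_flat_of_isPreimmersion (bcLoc k X K x) P
  letI : Algebra (X.presheaf.stalk x ⊗[k] K)
      ((Spec (CommRingCat.of (X.presheaf.stalk x ⊗[k] K))).presheaf.stalk P) :=
    (StructureSheaf.toStalk (CommRingCat.of (X.presheaf.stalk x ⊗[k] K)) P).hom.toAlgebra
  haveI : IsLocalization.AtPrime ((Spec (CommRingCat.of (X.presheaf.stalk x ⊗[k] K))).presheaf.stalk P) P.asIdeal :=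
    StructureSheaf.IsLocalization.to_stalk _ P
  let e := (@asIso _ _ _ _ _ hiso).commRingCatIsoToRingEquiv.trans
    (IsLocalization.algEquiv P.asIdeal.primeCompl
      ((Spec (CommRingCat.of (X.presheaf.stalk x ⊗[k] K))).presheaf.stalk P)
      (Localization.AtPrime P.asIdeal)).toRingEquiv
  haveI : LocallyOfFiniteType (Curv2.bcSnd k X K) := inferInstance
  haveI : IsLocallyNoetherian (Curv2.bc k X K) := LocallyOfFiniteType.isLocallyNoetherian (Curv2.bcSnd k X K)
  refine ⟨P.asIdeal, P.2, ?_, isNoetherianRing_of_ringEquiv _ e, e, fun c => ?_⟩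
  · have h := bcFst_bcLoc k X K x P
    have h' : X.fromSpecStalk x (closedPoint (X.presheaf.stalk x)) =
        X.fromSpecStalk x (PrimeSpectrum.comap (algebraMap _ _) P) :=
      Scheme.fromSpecStalk_closedPoint.trans (hx.symm.trans h)
    exact (congrArg PrimeSpectrum.asIdeal ((X.fromSpecStalk x).isEmbedding.injective h')).symm
  · show IsLocalization.algEquiv P.asIdeal.primeCompl
      ((Spec (CommRingCat.of (X.presheaf.stalk x ⊗[k] K))).presheaf.stalk P)
      (Localization.AtPrime P.asIdeal) (((bcLoc k X K x).stalkMap P).hom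
      (((Curv2.bc k X K).presheaf.germ ⊤ (bcLoc k X K x P) trivial).hom (Coh.toGlobal (Curv2.bcSnd k X K) c))) = _
    refine (congrArg (IsLocalization.algEquiv P.asIdeal.primeCompl
      ((Spec (CommRingCat.of (X.presheaf.stalk x ⊗[k] K))).presheaf.stalk P)
      (Localization.AtPrime P.asIdeal)) (stalkMap_toGlobal (K := CommRingCat.of K) (Curv2.bcSnd k X K) (bcLoc k X K x) _ (bcLoc_snd k X K x) P c)).trans ?_
    exact AlgEquiv.commutes (IsLocalization.algEquiv P.asIdeal.primeCompl
      ((Spec (CommRingCat.of (X.presheaf.stalk x ⊗[k] K))).presheaf.stalk P)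
      (Localization.AtPrime P.asIdeal)) _

end Field

end Groth.Agent.NodeLib7
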