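import Groth.Agent.NodeLib7.EtaleFrame
import Mathlib.RingTheory.Ideal.IdempotentFG
import Mathlib.RingTheory.TensorProduct.Quotient
import Mathlib.RingTheory.Extension.Presentation.Basic

/-!
# Sections of smooth algebras of relative dimension two
-/

set_option autoImplicit false
set_option linter.style.haveILetI false

universe u

open TensorProduct

namespace Groth.Agent.NodeLib7

variable {R : Type u} [CommRing R] {B : Type u} [CommRing B] [Algebra R B]

/-- Pulling back an étale algebra to a section of the base. -/
theorem etale_quotient_of_section {P : Type u} [CommRing P] [Algebra R P] [Algebra P B] [IsScalarTower R P B]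
    [Algebra.Etale P B] (J : Ideal P) (hJ : Function.Bijective (algebraMap R (P ⧸ J))) :
    Algebra.Etale R (B ⧸ J.map (algebraMap P B)) := by
  let T := (P ⧸ J) ⊗[P] B
  let e : T ≃ₐ[R] B ⧸ J.map (algebraMap P B) :=
    (((Algebra.TensorProduct.comm P (P ⧸ J) B).restrictScalars R).trans
      ((Algebra.TensorProduct.quotIdealMapEquivTensorQuot B J).symm.restrictScalars R))
  haveI : Algebra.Etale R (P ⧸ J) := Algebra.Etale.of_equiv (AlgEquiv.ofBijective (Algebra.ofId R _) hJ)
  haveI : Algebra.Etale (P ⧸ J) T := inferInstance
  haveI : Algebra.Etale R T := Algebra.Etale.comp R (P ⧸ J) T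
  exact Algebra.Etale.of_equiv e

/-- The zero locus of a pair of coordinates is étale over the base. -/
theorem IsFrame.etale_quotient {t : Fin 2 → B} (h : IsFrame R t) :
    Algebra.Etale R (B ⧸ Ideal.span (Set.range t)) := by
  algebraize [(MvPolynomial.aeval (R := R) t).toRingHom]
  haveI : Algebra.Etale (MvPolynomial (Fin 2) R) B := h
  haveI : IsScalarTower R (MvPolynomial (Fin 2) R) B :=
    IsScalarTower.of_algebraMap_eq fun r => ((MvPolynomial.aeval (R := R) t).commutes r).symm
  let J : Ideal (MvPolynomial (Fin 2) R) :=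
    RingHom.ker (MvPolynomial.aeval (R := R) (fun _ : Fin 2 => (0 : R))).toRingHom
  have hbij : Function.Bijective (algebraMap R (MvPolynomial (Fin 2) R ⧸ J)) := by
    refine ⟨fun r r' hr => ?_, fun z => ?_⟩
    · have : MvPolynomial.C r - MvPolynomial.C r' ∈ J := Ideal.Quotient.eq.1 hr
      simpa [J, sub_eq_zero] using this
    · obtain ⟨p, rfl⟩ := Ideal.Quotient.mk_surjective z
      exact ⟨MvPolynomial.aeval (fun _ => (0 : R)) p, Ideal.Quotient.eq.2 (by simp [J])⟩
  have hJB : J.map (algebraMap (MvPolynomial (Fin 2) R) B) = Ideal.span (Set.range t) := by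
    refine le_antisymm (Ideal.map_le_iff_le_comap.2 fun p hp => ?_) (Ideal.span_le.2 ?_)
    · have key : ∀ q : MvPolynomial (Fin 2) R, MvPolynomial.aeval t q - algebraMap R B (MvPolynomial.aeval (fun _ => (0 : R)) q) ∈
          Ideal.span (Set.range t) := fun q => by
        induction q using MvPolynomial.induction_on with
        | C r => simp
        | add q q' hq hq' => rw [map_add, map_add, map_add, add_sub_add_comm]; exact add_mem hq hq'
        | mul_X q i hq =>
          simp only [map_mul, MvPolynomial.aeval_X, map_zero, mul_zero, sub_zero]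
          exact Ideal.mul_mem_left _ _ (Ideal.subset_span ⟨i, rfl⟩)
      have := key p
      rwa [show MvPolynomial.aeval (fun _ => (0 : R)) p = 0 from hp, map_zero, sub_zero] at this
    · rintro _ ⟨i, rfl⟩
      have hXJ : MvPolynomial.X i ∈ J := by simp [J]
      have := Ideal.mem_map_of_mem (algebraMap (MvPolynomial (Fin 2) R) B) hXJ
      rwa [show algebraMap (MvPolynomial (Fin 2) R) B (MvPolynomial.X i) = t i from MvPolynomial.aeval_X t i] at this
  haveI := etale_quotient_of_section (B := B) J hbij
  exact Algebra.Etale.of_equiv (Ideal.quotientEquivAlgOfEq R hJB)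

/-- A retraction of an étale algebra cuts out an open and closed piece. -/
theorem exists_idempotent_of_retraction {C E : Type u} [CommRing C] [CommRing E] [Algebra C E]
    [Algebra.Etale C E] (μ : E →ₐ[C] C) :
    ∃ e : E, IsIdempotentElem e ∧ RingHom.ker μ = Ideal.span {e} := by
  let I : Ideal E := RingHom.ker μ
  have hfg : I.FG := Algebra.FinitePresentation.ker_fG_of_surjective μ fun c => ⟨algebraMap C E c, μ.commutes c⟩
  refine (Ideal.isIdempotentElem_iff_of_fg I hfg).1 (le_antisymm Ideal.mul_le_right fun x hx => ?_)
  let q : Ideal (E ⧸ I * I) := I.map (Ideal.Quotient.mk (I * I))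
  have hq : q ^ 2 = ⊥ := by
    rw [pow_two, ← Ideal.map_mul, Ideal.map_quotient_self]
  have h := Algebra.FormallyUnramified.comp_injective (R := C) (A := E) q hq
    (a₁ := Ideal.Quotient.mkₐ C (I * I)) (a₂ := (Algebra.ofId C (E ⧸ I * I)).comp μ)
    (AlgHom.ext fun z => by
      show Ideal.Quotient.mk q _ = Ideal.Quotient.mk q _
      rw [Ideal.Quotient.eq]
      show Ideal.Quotient.mk (I * I) z - algebraMap C (E ⧸ I * I) (μ z) ∈ q
      rw [IsScalarTower.algebraMap_apply C E (E ⧸ I * I), Ideal.Quotient.algebraMap_eq, ← map_sub]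
      refine Ideal.mem_map_of_mem _ ?_
      show μ (z - algebraMap C E (μ z)) = 0
      rw [map_sub, μ.commutes]
      exact sub_self _)
  have h2 := AlgHom.congr_fun h x
  have hx' : μ x = 0 := hx
  simp only [AlgHom.comp_apply, hx', map_zero] at h2
  exact Ideal.Quotient.eq_zero_iff_mem.1 h2

/-- The partial derivatives do not change under translation of the coordinates. -/
theorem IsFrame.exists_translate {t : Fin 2 → B} (h : IsFrame R t) (c : Fin 2 → R) :
    ∃ h' : IsFrame R (fun i => t i - algebraMap R B (c i)), ∀ i b, h'.pd i b = h.pd i b := by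
  have h' : IsFrame R (fun i => t i - algebraMap R B (c i)) := by
    refine h.change ?_
    have : (Matrix.of fun i j => h.pd i (t j - algebraMap R B (c j))) = (1 : Matrix (Fin 2) (Fin 2) B) := by
      ext i j
      rw [Matrix.of_apply, map_sub, Derivation.map_algebraMap, sub_zero, h.pd_coord, Matrix.one_apply]
    rw [this, Matrix.det_one]
    exact isUnit_one
  refine ⟨h', fun i b => ?_⟩
  have := h'.derivation_ext (d := h'.pd i) (d' := h.pd i) fun j => by
    rw [h'.pd_coord i j, map_sub, Derivation.map_algebraMap, sub_zero, h.pd_coord]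
  exact Derivation.congr_fun this b

end Groth.Agent.NodeLib7
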