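import Groth.Agent.NodeLib7.Point

/-!
# Transfer of nodes along flat unramified maps
-/

set_option autoImplicit false
set_option backward.isDefEq.respectTransparency false
set_option linter.style.haveILetI false

universe u

open IsLocalRing

namespace Groth.Agent.NodeLib7

/-- Node data descend along flat unramified local homomorphisms, given separability upstairs. -/
theorem exists_nodeData_descend {k A B : Type u} [Field k] [CommRing A] [IsLocalRing A] [IsNoetherianRing A]
    [CommRing B] [IsLocalRing B] [IsNoetherianRing B] [Algebra k B] [Algebra.IsSeparable k (ResidueField B)]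
    [Algebra A B] [IsLocalHom (algebraMap A B)] [Module.Flat A B] {x y a b c : B} (h : NodeData B x y a b c)
    (hm : (maximalIdeal A).map (algebraMap A B) = maximalIdeal B) :
    ∃ x y a b c : A, NodeData A x y a b c := by
  haveI : Algebra.FormallyEtale k (ResidueField B) := Algebra.FormallyEtale.of_isSeparable _ _
  obtain ⟨e, -⟩ := exists_completion_equiv (k := k) h
  have hd : 4 * residue B a * residue B c - residue B b ^ 2 ≠ 0 := by
    have h' := h.disc
    simp only [map_sub, map_mul, map_pow, map_ofNat] at h'
    exact h'
  obtain ⟨x', y', a', b', c', hB⟩ := exists_nodeRel_of_completion hd e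
  haveI := (nodeData_of_completion hd e).1
  exact (exists_nodeData_of_flat hB hm).2

/-- Separability and finiteness of residue fields along a finite separable residue extension. -/
theorem residue_iff {k A B : Type u} [Field k] [CommRing A] [IsLocalRing A] [CommRing B] [IsLocalRing B]
    [Algebra k A] [Algebra k B] [Algebra A B] [IsScalarTower k A B] [IsLocalHom (algebraMap A B)]
    [Module.Finite (ResidueField A) (ResidueField B)] [Algebra.IsSeparable (ResidueField A) (ResidueField B)] :
    (Module.Finite k (ResidueField A) ↔ Module.Finite k (ResidueField B)) ∧
      (Algebra.IsSeparable k (ResidueField A) ↔ Algebra.IsSeparable k (ResidueField B)) := by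
  haveI : IsScalarTower k (ResidueField A) (ResidueField B) := IsScalarTower.of_algebraMap_eq fun t => by
    rw [IsScalarTower.algebraMap_apply k A (ResidueField A), ResidueField.algebraMap_eq,
      IsScalarTower.algebraMap_apply k B (ResidueField B), ResidueField.algebraMap_eq,
      IsScalarTower.algebraMap_apply k A B]
    rfl
  refine ⟨⟨fun _ => Module.Finite.trans (ResidueField A) _, fun _ =>
    Module.Finite.of_injective (IsScalarTower.toAlgHom k (ResidueField A) (ResidueField B)).toLinearMap
      (algebraMap (ResidueField A) (ResidueField B)).injective⟩, fun _ => ?_, fun _ => ?_⟩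
  · exact Algebra.IsSeparable.trans k (ResidueField A) (ResidueField B)
  · exact Algebra.isSeparable_tower_bot_of_isSeparable k (ResidueField A) (ResidueField B)

end Groth.Agent.NodeLib7
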